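import Cfsg.Agent.Lib.M23Order.Normaliser

/-!
# Simple groups of order 10200960: two sixteens with a common subgroup of order 360
-/

set_option autoImplicit false
set_option linter.unusedSectionVars false
set_option linter.style.haveILetI false

namespace CfsgLib.M23Order

open Cfsg CfsgLib

universe u

variable {G : Type u} [Group G] [Finite G]

/-- The normaliser of the cyclic subgroup of an element. -/
abbrev norZ (y : G) : Subgroup G := Subgroup.normalizer (Subgroup.zpowers y : Set G)

theorem smul_mk_eq {K : Subgroup G} (k g : G) :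
    k • (g : G ⧸ K) = (g : G ⧸ K) ↔ g⁻¹ * k * g ∈ K := by
  rw [show k • (g : G ⧸ K) = ((k * g : G) : G ⧸ K) from rfl, QuotientGroup.eq, ← inv_mem_iff,
    show ((k * g)⁻¹ * g)⁻¹ = g⁻¹ * k * g by group]

/-- The order of the normaliser in a subgroup of a subgroup of prime order. -/
theorem card_norm_prime {p : ℕ} (hp : p.Prime) {K : Subgroup G} {y : G} (hy : orderOf y = p) (hyK : y ∈ K)
    (hp2 : ¬ p * p ∣ Nat.card K) :
    ∃ d m : ℕ, d ∣ p - 1 ∧ m % p = 1 ∧ Nat.card ↥(K ⊓ norZ y) = Nat.card ↥(K ⊓ cen y) * d ∧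
      m * Nat.card ↥(K ⊓ norZ y) = Nat.card K := by
  haveI := Fact.mk hp
  set Y := Subgroup.zpowers y with hY
  have hYp : Nat.card Y = p := by rw [hY, Nat.card_zpowers, hy]
  haveI : IsCyclic Y := isCyclic_of_prime_card hYp
  let φ : ↥(K ⊓ norZ y) →* MulAut Y := Y.normalizerMonoidHom.comp (Subgroup.inclusion inf_le_right)
  have hker : Nat.card φ.ker = Nat.card ↥(K ⊓ cen y) := by
    have h : ∀ a : ↥(K ⊓ norZ y), a ∈ φ.ker ↔ (a : G) * y = y * a := by
      intro a
      rw [MonoidHom.mem_ker, ← MonoidHom.mem_ker (f := φ)]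
      show (⟨(a : G), a.2.2⟩ : norZ y) ∈ Y.normalizerMonoidHom.ker ↔ _
      rw [Subgroup.normalizerMonoidHom_ker, Subgroup.mem_subgroupOf, Subgroup.mem_centralizer_iff]
      refine ⟨fun h => (h y (Subgroup.mem_zpowers y)).symm, fun h w hw => ?_⟩
      obtain ⟨i, rfl⟩ := Subgroup.mem_zpowers_iff.mp hw
      exact ((show Commute (a : G) y from h).zpow_right i).symm
    exact Nat.card_congr
      { toFun := fun a => ⟨(a.1 : G), a.1.2.1, mem_cen.mpr ((h a.1).mp a.2)⟩
        invFun := fun a => ⟨⟨a.1, a.2.1, Subgroup.mem_normalizer_iff.mpr fun w => by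
            constructor <;> intro hw
            · obtain ⟨i, rfl⟩ := Subgroup.mem_zpowers_iff.mp hw
              rw [((show Commute (a.1 : G) y from mem_cen.mp a.2.2).zpow_right i).eq, mul_inv_cancel_right]
              exact Subgroup.zpow_mem _ (Subgroup.mem_zpowers y) i
            · obtain ⟨i, hi⟩ := Subgroup.mem_zpowers_iff.mp hw
              have : w = (a.1 : G)⁻¹ * y ^ i * a.1 := by rw [hi]; group
              rw [this, mul_assoc, ← ((show Commute (a.1 : G) y from mem_cen.mp a.2.2).zpow_right i).eq,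
                inv_mul_cancel_left]
              exact Subgroup.zpow_mem _ (Subgroup.mem_zpowers y) i⟩, (h _).mpr (mem_cen.mp a.2.2)⟩
        left_inv := fun _ => rfl
        right_inv := fun _ => rfl }
  have hd : φ.ker.index ∣ p - 1 := by
    rw [Subgroup.index_ker]
    have h := Subgroup.card_subgroup_dvd_card φ.range
    rwa [IsCyclic.card_mulAut, hYp, Nat.totient_prime hp] at h
  have hYK : Y ≤ K := Subgroup.zpowers_le.mpr hyK
  set Y' := Y.subgroupOf K with hY'
  have hY'c : Nat.card Y' = p ^ (Nat.card K).factorization p := by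
    have h1 : 1 ≤ (Nat.card K).factorization p := (hp.dvd_iff_one_le_factorization Nat.card_pos.ne').mp
      (hy ▸ Subgroup.orderOf_dvd_natCard _ hyK)
    have h2 : (Nat.card K).factorization p ≤ 1 := by
      by_contra h
      exact hp2 (by rw [← pow_two]; exact (hp.pow_dvd_iff_le_factorization Nat.card_pos.ne').mpr (by omega))
    rw [show (Nat.card K).factorization p = 1 by omega, pow_one, hY',
      Nat.card_congr (Subgroup.subgroupOfEquivOfLe hYK).toEquiv, hYp]
  set S := Sylow.ofCard Y' hY'c with hS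
  have hN : Subgroup.normalizer (Y' : Set K) = (K ⊓ norZ y).subgroupOf K := by
    rw [hY', ← Subgroup.subgroupOf_normalizer_eq hYK, Subgroup.inf_subgroupOf_left]
  have hm := (Subgroup.normalizer (Y' : Set K)).index_mul_card
  have hmod : Nat.card (Sylow p K) % p = 1 := by
    have h := card_sylow_modEq_one p K
    rwa [Nat.ModEq, Nat.mod_eq_of_lt hp.one_lt] at h
  rw [S.card_eq_index_normalizer] at hmod
  change (Subgroup.normalizer (Y' : Set K)).index % p = 1 at hmod
  rw [hN, Nat.card_congr (Subgroup.subgroupOfEquivOfLe inf_le_left).toEquiv] at hm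
  rw [hN] at hmod
  refine ⟨φ.ker.index, ((K ⊓ norZ y).subgroupOf K).index, hd, hmod, ?_, hm⟩
  rw [← φ.ker.index_mul_card, hker, mul_comm]

/-- The fixed cosets of an element of prime order form one orbit of the normaliser of its subgroup. -/
theorem fix_eq_orbit {p : ℕ} (hp : p.Prime) {K : Subgroup G} {y : G} (hy : orderOf y = p) (hyK : y ∈ K)
    (hp2 : ¬ p * p ∣ Nat.card K) :
    {q : G ⧸ K | y • q = q}.ncard * Nat.card ↥(norZ y ⊓ K) = Nat.card (norZ y) := by
  haveI := Fact.mk hp
  have e := Nat.card_congr (MulAction.orbitProdStabilizerEquivGroup (norZ y) ((1 : G) : G ⧸ K))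
  rw [Nat.card_prod, Nat.card_coe_set_eq] at e
  have hstab : Nat.card (MulAction.stabilizer (norZ y) ((1 : G) : G ⧸ K)) = Nat.card ↥(norZ y ⊓ K) :=
    Nat.card_congr
      { toFun := fun a => ⟨(a.1 : G), a.1.2, by
          have := (smul_mk_eq (K := K) (a.1 : G) 1).mp a.2
          simpa using this⟩
        invFun := fun a => ⟨⟨a.1, a.2.1⟩, (smul_mk_eq (K := K) a.1 1).mpr (by simpa using a.2.2)⟩
        left_inv := fun _ => rfl
        right_inv := fun _ => rfl }
  rw [hstab] at e
  rw [← e]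
  congr 2
  ext q
  constructor
  · intro hq
    obtain ⟨g, rfl⟩ := QuotientGroup.mk_surjective q
    have hgy : g⁻¹ * y * g ∈ K := (smul_mk_eq y g).mp hq
    have hc : ∀ {a : G} (ha : a ∈ K), orderOf a = p →
        Nat.card (Subgroup.zpowers (⟨a, ha⟩ : K)) = p ^ (Nat.card K).factorization p := by
      intro a ha hao
      have h1 : 1 ≤ (Nat.card K).factorization p := (hp.dvd_iff_one_le_factorization Nat.card_pos.ne').mp
        (hy ▸ Subgroup.orderOf_dvd_natCard _ hyK)
      have h2 : (Nat.card K).factorization p ≤ 1 := by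
        by_contra h
        exact hp2 (by rw [← pow_two]; exact (hp.pow_dvd_iff_le_factorization Nat.card_pos.ne').mpr (by omega))
      rw [show (Nat.card K).factorization p = 1 by omega, pow_one, Nat.card_zpowers, Subgroup.orderOf_mk, hao]
    have hgo : orderOf (g⁻¹ * y * g) = p := by
      have := order_conj g⁻¹ y
      rwa [inv_inv, hy] at this
    obtain ⟨k, hk⟩ := MulAction.exists_smul_eq K (Sylow.ofCard _ (hc hgy hgo)) (Sylow.ofCard _ (hc hyK hy))
    have hkk : (k : K) * ⟨g⁻¹ * y * g, hgy⟩ * k⁻¹ ∈ Subgroup.zpowers (⟨y, hyK⟩ : K) := by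
      have h : Subgroup.map (MulAut.conj k).toMonoidHom (Subgroup.zpowers (⟨g⁻¹ * y * g, hgy⟩ : K)) =
          Subgroup.zpowers (⟨y, hyK⟩ : K) := by
        have := congrArg (fun S : Sylow p K => (S : Subgroup K)) hk
        simpa [Sylow.smul_def, Sylow.pointwise_smul_def, Subgroup.pointwise_smul_def] using this
      exact h ▸ ⟨_, Subgroup.mem_zpowers _, rfl⟩
    obtain ⟨i, hi⟩ := Subgroup.mem_zpowers_iff.mp hkk
    have hn : g * (k : G)⁻¹ ∈ norZ y := by
      have hz : (g * (k : G)⁻¹)⁻¹ * y * (g * (k : G)⁻¹) = y ^ i := by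
        have h' := congrArg (fun a : K => (a : G)) hi
        simp only [Subgroup.coe_zpow, Subgroup.coe_mul, Subgroup.coe_inv] at h'
        rw [h']; group
      rw [← inv_mem_iff]
      refine mem_norm fun a ha => ?_
      obtain ⟨j, rfl⟩ := Subgroup.mem_zpowers_iff.mp ha
      rw [inv_inv,
        show (g * (k : G)⁻¹)⁻¹ * y ^ j * (g * (k : G)⁻¹) = ((g * (k : G)⁻¹)⁻¹ * y * (g * (k : G)⁻¹)) ^ j by
          have := conj_zpow (i := j) (a := (g * (k : G)⁻¹)⁻¹) (b := y)
          rw [inv_inv] at this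
          exact this.symm, hz, ← zpow_mul]
      exact Subgroup.zpow_mem _ (Subgroup.mem_zpowers y) _
    refine ⟨⟨_, hn⟩, ?_⟩
    show (g * (k : G)⁻¹) • ((1 : G) : G ⧸ K) = (g : G ⧸ K)
    show ((g * (k : G)⁻¹ * 1 : G) : G ⧸ K) = (g : G ⧸ K)
    rw [QuotientGroup.eq, mul_one, show (g * (k : G)⁻¹)⁻¹ * g = (k : G) by group]
    exact k.2
  · rintro ⟨n, rfl⟩
    have hmem : (n : G)⁻¹ * y * n ∈ Subgroup.zpowers y := by
      have := norm_conj ((norZ y).inv_mem n.2) (Subgroup.mem_zpowers y)
      rwa [inv_inv] at this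
    show y • ((n : G) • ((1 : G) : G ⧸ K)) = (n : G) • ((1 : G) : G ⧸ K)
    rw [show (n : G) • ((1 : G) : G ⧸ K) = (((n : G) * 1 : G) : G ⧸ K) from rfl, mul_one]
    exact (smul_mk_eq _ _).mpr (Subgroup.zpowers_le.mpr hyK hmem)

variable (F : Facts G)
include F

theorem card_norZ_five {y : G} (hy : orderOf y = 5) : Nat.card (norZ y) = 60 := by
  obtain ⟨d, m, hd, hm, h1, h2⟩ := card_norm_prime (K := (⊤ : Subgroup G)) (by norm_num) hy (Subgroup.mem_top y)
    (by rw [Subgroup.card_top, F.card]; norm_num)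
  rw [top_inf_eq] at h1 h2
  rw [top_inf_eq, show Nat.card (cen y) = 15 from F.card_five y hy] at h1
  rw [Subgroup.card_top, F.card, h1] at h2
  have hd' := Nat.le_of_dvd (by norm_num) hd
  rw [h1]
  interval_cases d <;> omega

theorem card_norZ_five_nor {t y : G} (ht : orderOf t = 2) (hy : orderOf y = 5) (hyN : y ∈ nor t) :
    Nat.card ↥(nor t ⊓ norZ y) = 20 ∧ Nat.card ↥(nor t ⊓ cen y) = 5 := by
  obtain ⟨d, m, hd, hm, h1, h2⟩ := card_norm_prime (by norm_num) hy hyN (by rw [card_nor F ht]; norm_num)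
  have hc : Nat.card ↥(nor t ⊓ cen y) ∣ 15 := by
    have := Subgroup.card_dvd_of_le (inf_le_right : nor t ⊓ cen y ≤ cen y)
    rwa [show Nat.card (cen y) = 15 from F.card_five y hy] at this
  have h5 : 5 ∣ Nat.card ↥(nor t ⊓ cen y) := hy ▸ Subgroup.orderOf_dvd_natCard _ ⟨hyN, mem_cen.mpr rfl⟩
  have hd' := Nat.le_of_dvd (by norm_num) hd
  rw [card_nor F ht, h1] at h2
  rw [h1]
  generalize Nat.card ↥(nor t ⊓ cen y) = c at hc h5 h1 h2 ⊢
  have hc' := Nat.le_of_dvd (by norm_num) hc
  interval_cases c <;> first | omega | (interval_cases d <;> omega)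

theorem card_norZ_seven {t s : G} (ht : orderOf t = 2) (hs : orderOf s = 7) (hst : s * t = t * s) :
    Nat.card (norZ s) = 42 ∧ Nat.card ↥(nor t ⊓ norZ s) = 42 := by
  have hsN : cen s ≤ nor t := fun u hu => cen_le_nor F ht (mem_core_self F ht) (ne_one_of_order ht le_rfl)
    (mem_cen.mpr (cen_seven_le F ht hs hst (mem_cen.mp hu)))
  obtain ⟨d, m, hd, hm, h1, h2⟩ := card_norm_prime (K := (⊤ : Subgroup G)) (by norm_num) hs (Subgroup.mem_top s)
    (by rw [Subgroup.card_top, F.card]; norm_num)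
  obtain ⟨d', m', hd', hm', h1', h2'⟩ := card_norm_prime (by norm_num) hs (hsN (mem_cen.mpr rfl))
    (by rw [card_nor F ht]; norm_num)
  rw [top_inf_eq] at h1 h2
  rw [top_inf_eq, show Nat.card (cen s) = 14 from F.card_seven s hs] at h1
  rw [inf_eq_right.mpr hsN, show Nat.card (cen s) = 14 from F.card_seven s hs] at h1'
  rw [Subgroup.card_top, F.card, h1] at h2
  rw [card_nor F ht, h1'] at h2'
  have hd2 := Nat.le_of_dvd (by norm_num) hd
  have hd2' := Nat.le_of_dvd (by norm_num) hd'
  rw [h1, h1']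
  constructor
  · interval_cases d <;> omega
  · interval_cases d' <;> omega

/-- An element of order five in the normaliser fixes three of its cosets. -/
theorem fix_five {t y : G} (ht : orderOf t = 2) (hy : orderOf y = 5) (hyN : y ∈ nor t) :
    {q : G ⧸ nor t | y • q = q}.ncard = 3 := by
  have h := fix_eq_orbit (by norm_num) hy hyN (by rw [card_nor F ht]; norm_num)
  rw [inf_comm, (card_norZ_five_nor F ht hy hyN).1, card_norZ_five F hy] at h
  omega

/-- An element of order seven in the centraliser fixes only the base coset. -/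
theorem fix_seven {t s : G} (ht : orderOf t = 2) (hs : orderOf s = 7) (hst : s * t = t * s) :
    {q : G ⧸ nor t | s • q = q}.ncard = 1 := by
  obtain ⟨h1, h2⟩ := card_norZ_seven F ht hs hst
  have hsN : s ∈ nor t := cen_le_nor F ht (mem_core_self F ht) (ne_one_of_order ht le_rfl) (mem_cen.mpr hst)
  have h := fix_eq_orbit (by norm_num) hs hsN (by rw [card_nor F ht]; norm_num)
  rw [inf_comm, h2, h1] at h
  omega

theorem mem_nor_conj {t g k : G} (ht : orderOf t = 2) : k ∈ nor (g * t * g⁻¹) ↔ g⁻¹ * k * g ∈ nor t := by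
  have ht' : orderOf (g * t * g⁻¹) = 2 := (order_conj g t).trans ht
  constructor
  · intro h
    refine mem_nor F ht ?_
    have h' := nor_conj F ht' h
    rw [← core_map_conj g t] at h'
    obtain ⟨a, ha, e⟩ := h'
    have : g⁻¹ * k * g * t * (g⁻¹ * k * g)⁻¹ = a := by
      rw [show g⁻¹ * k * g * t * (g⁻¹ * k * g)⁻¹ = g⁻¹ * (k * (g * t * g⁻¹) * k⁻¹) * g by group, ← e]
      show g⁻¹ * (g * a * g⁻¹) * g = a
      group
    rwa [this]
  · intro h
    refine mem_nor F ht' ?_
    rw [← core_map_conj g t]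
    refine ⟨_, nor_conj F ht h, ?_⟩
    show g * (g⁻¹ * k * g * t * (g⁻¹ * k * g)⁻¹) * g⁻¹ = _
    group

/-- An element of order five fixes no member of a sixteen it normalises. -/
theorem core_inf_invariant {t y : G} {L : Subgroup G} (ht : orderOf t = 2) (hy : orderOf y = 5) (hyN : y ∈ nor t)
    (hyL : ∀ a ∈ L, y * a * y⁻¹ ∈ L) : core t ⊓ L = ⊥ ∨ core t ≤ L := by
  set D := core t ⊓ L with hD
  have hfix : Nat.card ↥(D ⊓ cen y) = 1 := by
    have h1 := Subgroup.card_dvd_of_le (inf_le_left.trans inf_le_left : D ⊓ cen y ≤ core t)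
    have h2 := Subgroup.card_dvd_of_le (inf_le_right : D ⊓ cen y ≤ cen y)
    rw [card_core F ht] at h1
    rw [show Nat.card (cen y) = 15 from F.card_five y hy] at h2
    exact Nat.dvd_one.mp (Nat.dvd_gcd h1 h2 : _ ∣ Nat.gcd 16 15)
  have hmod := card_mod_fixed (by norm_num : Nat.Prime 5) (pow_self_of_order hy) D
    fun a ha => ⟨norm_conj hyN ha.1, hyL a ha.2⟩
  rw [show Subgroup.centralizer ({y} : Set G) = cen y from rfl, hfix] at hmod
  have hd := Subgroup.card_dvd_of_le (inf_le_left : D ≤ core t)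
  rw [card_core F ht] at hd
  obtain ⟨i, hi, hD'⟩ := (Nat.dvd_prime_pow Nat.prime_two).mp (show Nat.card D ∣ 2 ^ 4 from hd)
  rw [hD'] at hmod
  interval_cases i <;> norm_num [Nat.ModEq] at hmod
  · exact Or.inl (Subgroup.eq_bot_of_card_eq _ (by simpa using hD'))
  · right
    have e : D = core t := Subgroup.eq_of_le_of_card_ge inf_le_left (by rw [hD', card_core F ht]; norm_num)
    exact e ▸ inf_le_right

/-- Two sixteens normalised by an element of order five do not meet the other normaliser. -/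
theorem core_inf_nor {t t' y : G} (ht : orderOf t = 2) (ht' : orderOf t' = 2) (hne : core t ≠ core t')
    (hy : orderOf y = 5) (hyN : y ∈ nor t) (hyN' : y ∈ nor t') : core t ⊓ nor t' = ⊥ := by
  refine (core_inf_invariant F ht hy hyN fun a ha => (nor t').mul_mem ((nor t').mul_mem hyN' ha)
    ((nor t').inv_mem hyN')).resolve_right fun hle => ?_
  rcases core_inf_invariant F ht' hy hyN' (L := nor t) (fun a ha => (nor t).mul_mem ((nor t).mul_mem hyN ha)
    ((nor t).inv_mem hyN)) with h | h
  · -- an involution fixes a member of the other sixteen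
    have htN : t ∈ nor t' := hle (mem_core_self F ht)
    have hmod := card_mod_fixed Nat.prime_two (pow_self_of_order ht) (core t') fun a ha => norm_conj htN ha
    have hsub : core t' ⊓ cen t ≤ core t' ⊓ nor t := inf_le_inf_left _
      (cen_le_nor F ht (mem_core_self F ht) (ne_one_of_order ht le_rfl))
    rw [h, le_bot_iff] at hsub
    rw [card_core F ht', show Subgroup.centralizer ({t} : Set G) = cen t from rfl, hsub, Subgroup.card_bot] at hmod
    norm_num [Nat.ModEq] at hmod
  · refine hne (Subgroup.eq_of_le_of_card_ge (fun b hb => ?_) (by rw [card_core F ht, card_core F ht']))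
    refine cen_core F ht' fun a ha => ?_
    by_contra hab
    have hz1 : b * a * b⁻¹ * a⁻¹ ∈ core t := by
      rw [show b * a * b⁻¹ * a⁻¹ = b * (a * b⁻¹ * a⁻¹) by group]
      exact mul_mem hb (norm_conj (h ha) (inv_mem hb))
    have hz2 : b * a * b⁻¹ * a⁻¹ ∈ core t' := mul_mem (norm_conj (hle hb) ha) (inv_mem ha)
    exact hne (core_ti F ht ht' hz1 hz2 fun e => hab
      (commutatorElement_eq_one_iff_mul_comm.mp (by rw [commutatorElement_def]; exact e)))

/-- Two sixteens whose normalisers share a subgroup of order 360 meeting neither. -/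
theorem exists_pair : ∃ t t' : G, orderOf t = 2 ∧ orderOf t' = 2 ∧ core t ⊓ nor t' = ⊥ ∧ core t' ⊓ nor t = ⊥ ∧
    Nat.card ↥(nor t ⊓ nor t') = 360 := by
  classical
  obtain ⟨t, -, ht⟩ := exists_order F Nat.prime_two (K := ⊤) (by rw [Subgroup.card_top, F.card]; norm_num)
  obtain ⟨y, hyN, hy⟩ := exists_order F (by norm_num : Nat.Prime 5) (K := nor t) (by rw [card_nor F ht]; norm_num)
  obtain ⟨s, hs, hst⟩ := exists_seven F ht
  have hsN : s ∈ nor t := cen_le_nor F ht (mem_core_self F ht) (ne_one_of_order ht le_rfl) (mem_cen.mpr hst)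
  set o : G ⧸ nor t := ((1 : G) : G ⧸ nor t) with ho
  have hfixo : ∀ k ∈ nor t, k • o = o := fun k hk => (smul_mk_eq k 1).mpr (by simpa using hk)
  obtain ⟨q, hq, hqo⟩ : ∃ q, y • q = q ∧ q ≠ o := by
    by_contra hc
    push Not at hc
    have := Set.ncard_le_ncard (show {q : G ⧸ nor t | y • q = q} ⊆ {o} from fun q hq => hc q hq) (Set.toFinite _)
    rw [fix_five F ht hy hyN, Set.ncard_singleton] at this
    omega
  obtain ⟨g, rfl⟩ := QuotientGroup.mk_surjective q
  have hgN : g ∉ nor t := fun h => hqo (QuotientGroup.eq.mpr (by simpa using h))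
  set t' := g * t * g⁻¹ with ht'd
  have ht' : orderOf t' = 2 := (order_conj g t).trans ht
  have hyN' : y ∈ nor t' := (mem_nor_conj F ht).mpr ((smul_mk_eq y g).mp hq)
  have hne : core t ≠ core t' := fun e => hgN (mem_nor F ht (e ▸ mem_core_self F ht'))
  have hbot := core_inf_nor F ht ht' hne hy hyN hyN'
  refine ⟨t, t', ht, ht', hbot, core_inf_nor F ht' ht hne.symm hy hyN' hyN, ?_⟩
  set K := nor t ⊓ nor t' with hK
  -- the orbit
  set S : Set (G ⧸ nor t) := Set.range fun n : nor t => (n : G) • (g : G ⧸ nor t) with hS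
  have horb : S.ncard * Nat.card K = 40320 := by
    have e := Nat.card_congr (MulAction.orbitProdStabilizerEquivGroup (nor t) (g : G ⧸ nor t))
    rw [Nat.card_prod, Nat.card_coe_set_eq, card_nor F ht] at e
    rw [← e]
    congr 1
    exact Nat.card_congr
      { toFun := fun a => ⟨⟨a.1, a.2.1⟩, (smul_mk_eq a.1 g).mpr ((mem_nor_conj F ht).mp a.2.2)⟩
        invFun := fun a => ⟨(a.1 : G), a.1.2, (mem_nor_conj F ht).mpr ((smul_mk_eq (a.1 : G) g).mp a.2)⟩
        left_inv := fun _ => rfl
        right_inv := fun _ => rfl }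
  have hSo : o ∉ S := by
    rintro ⟨n, hn⟩
    refine hqo ?_
    calc (g : G ⧸ nor t) = (n : G)⁻¹ • ((n : G) • (g : G ⧸ nor t)) := (inv_smul_smul _ _).symm
      _ = o := by rw [show (n : G) • (g : G ⧸ nor t) = o from hn]; exact hfixo _ (inv_mem n.2)
  have hS252 : S.ncard ≤ 252 := by
    have h := Set.ncard_le_ncard (Set.subset_compl_singleton_iff.mpr hSo) (Set.toFinite _)
    rw [Set.ncard_compl, Set.ncard_singleton, show Nat.card (G ⧸ nor t) = 253 from index_nor F ht] at h
    omega
  have hS7 : 7 ∣ S.ncard := by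
    haveI : Fact (Nat.Prime 7) := ⟨by norm_num⟩
    have hinv : ∀ z ∈ S, s • z ∈ S := by
      rintro _ ⟨n, rfl⟩
      exact ⟨⟨s * n, mul_mem hsN n.2⟩, mul_smul _ _ _⟩
    letI : Fintype S := Fintype.ofFinite _
    let f : Function.End S := fun z => ⟨s • (z : G ⧸ nor t), hinv z z.2⟩
    have hfn : ∀ n : ℕ, ∀ z : S, (((f ^ n) z : S) : G ⧸ nor t) = s ^ n • (z : G ⧸ nor t) := by
      intro n
      induction n with
      | zero => intro z; simp; rfl
      | succ n ih =>
        intro z
        rw [pow_succ']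
        show s • (((f ^ n) z : S) : G ⧸ nor t) = _
        rw [ih, pow_succ', mul_smul]
    have h := Equiv.Perm.card_fixedPoints_modEq (α := S) (f := f) (p := 7) (n := 1) (by
      funext z; refine Subtype.ext ?_
      rw [pow_one, hfn, pow_self_of_order hs, one_smul]; rfl)
    haveI : IsEmpty (Function.fixedPoints f) := ⟨fun z => by
      have hz : s • (z.1 : G ⧸ nor t) = z.1 := congrArg Subtype.val z.2
      obtain ⟨a, ha⟩ := Set.ncard_eq_one.mp (fix_seven F ht hs hst)
      have h1 : (z.1 : G ⧸ nor t) ∈ ({a} : Set (G ⧸ nor t)) := ha ▸ hz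
      have h2 : o ∈ ({a} : Set (G ⧸ nor t)) := ha ▸ (hfixo s hsN)
      exact hSo ((Set.mem_singleton_iff.mp h2).trans (Set.mem_singleton_iff.mp h1).symm ▸ z.1.2)⟩
    rw [← Nat.card_eq_fintype_card, Nat.card_coe_set_eq, Fintype.card_eq_zero] at h
    exact Nat.modEq_zero_iff_dvd.mp h
  -- the subgroup embeds in the alternating group
  obtain ⟨ψ, -, hker⟩ := exists_alt_seven F ht
  have hK2520 : Nat.card K ∣ 2520 := by
    let χ : K →* alternatingGroup (Fin 7) := ψ.comp (Subgroup.inclusion inf_le_left)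
    have hinj : Function.Injective χ := (injective_iff_map_eq_one χ).mpr fun a ha => by
      have : Subgroup.inclusion (inf_le_left : K ≤ nor t) a ∈ ψ.ker := ha
      rw [hker] at this
      have h0 : (a : G) ∈ core t ⊓ nor t' := ⟨this, a.2.2⟩
      rw [hbot, Subgroup.mem_bot] at h0
      exact Subtype.ext h0
    have := Subgroup.card_dvd_of_injective χ hinj
    rwa [nat_card_alternatingGroup, Nat.card_fin] at this
  have hK5 : 5 ∣ Nat.card K := hy ▸ Subgroup.orderOf_dvd_natCard _ (⟨hyN, hyN'⟩ : y ∈ K)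
  have hK360 : Nat.card K = 180 ∨ Nat.card K = 360 := by
    obtain ⟨r, hr⟩ := hS7
    rw [hr, mul_assoc] at horb
    have h1 : Nat.card K ∣ 5760 := ⟨r, by rw [mul_comm]; omega⟩
    have h2 : Nat.card K ∣ 360 := (Nat.dvd_gcd hK2520 h1 : _ ∣ Nat.gcd 2520 5760)
    have h160 : 160 ≤ Nat.card K := by
      have h : 40320 ≤ 252 * Nat.card K := by
        rw [← mul_assoc, ← hr] at horb
        rw [← horb]; exact Nat.mul_le_mul_right _ hS252
      omega
    obtain ⟨c, hc⟩ := h2
    have : c ≤ 2 := by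
      by_contra h
      have := Nat.mul_le_mul h160 (show 3 ≤ c by omega)
      omega
    interval_cases c <;> omega
  refine hK360.resolve_left fun h180 => ?_
  -- four fixed points of the element of order five
  obtain ⟨d, m, hd, hm, h1, h2⟩ := card_norm_prime (by norm_num) hy (show y ∈ K from ⟨hyN, hyN'⟩)
    (by rw [h180]; norm_num)
  have hc5 : Nat.card ↥(K ⊓ cen y) = 5 := by
    refine le_antisymm ((card_norZ_five_nor F ht hy hyN).2 ▸ Subgroup.card_le_of_le (inf_le_inf_right _ inf_le_left))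
      (Nat.le_of_dvd Nat.card_pos (hy ▸ Subgroup.orderOf_dvd_natCard _ ⟨⟨hyN, hyN'⟩, mem_cen.mpr rfl⟩))
  rw [hc5] at h1
  rw [h180, h1] at h2
  have hd' := Nat.le_of_dvd (by norm_num) hd
  have hd1 : d = 1 := by interval_cases d <;> omega
  set M := nor t ⊓ norZ y with hM
  have e := Nat.card_congr (MulAction.orbitProdStabilizerEquivGroup M (g : G ⧸ nor t))
  rw [Nat.card_prod, Nat.card_coe_set_eq, show Nat.card M = 20 from (card_norZ_five_nor F ht hy hyN).1] at e
  have hst' : Nat.card (MulAction.stabilizer M (g : G ⧸ nor t)) = Nat.card ↥(K ⊓ norZ y) :=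
    Nat.card_congr
      { toFun := fun a => ⟨(a.1 : G), ⟨a.1.2.1, (mem_nor_conj F ht).mpr ((smul_mk_eq (a.1 : G) g).mp a.2)⟩, a.1.2.2⟩
        invFun := fun a => ⟨⟨a.1, a.2.1.1, a.2.2⟩, (smul_mk_eq a.1 g).mpr ((mem_nor_conj F ht).mp a.2.1.2)⟩
        left_inv := fun _ => rfl
        right_inv := fun _ => rfl }
  rw [hst', h1, hd1] at e
  have hsub : MulAction.orbit M (g : G ⧸ nor t) ⊆ {q : G ⧸ nor t | y • q = q} \ {o} := by
    rintro _ ⟨n, rfl⟩
    refine ⟨?_, fun h => hSo ⟨⟨(n : G), n.2.1⟩, h⟩⟩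
    have hmem : (n : G)⁻¹ * y * n ∈ Subgroup.zpowers y := by
      have := norm_conj ((norZ y).inv_mem n.2.2) (Subgroup.mem_zpowers y)
      rwa [inv_inv] at this
    show y • ((n : G) • (g : G ⧸ nor t)) = (n : G) • (g : G ⧸ nor t)
    obtain ⟨i, hi⟩ := Subgroup.mem_zpowers_iff.mp hmem
    rw [← mul_smul, show y * (n : G) = n * y ^ i by rw [hi]; group, mul_smul]
    congr 1
    exact MulAction.mem_stabilizer_iff.mp (Subgroup.zpow_mem _ (MulAction.mem_stabilizer_iff.mpr hq) i)
  have h := Set.ncard_le_ncard hsub (Set.toFinite _)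
  rw [Set.ncard_sdiff (Set.singleton_subset_iff.mpr (show o ∈ {q : G ⧸ nor t | y • q = q} from hfixo y hyN)),
    Set.ncard_singleton, fix_five F ht hy hyN] at h
  omega

end CfsgLib.M23Order
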