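import Cfsg.Agent.Lib.M23Order.Facts
import Cfsg.Agent.Lib.SylowNumber.Coprime
import Cfsg.Agent.Lib.Fitting.Basic

/-!
# Simple groups of order 10200960: elements and their centralisers
-/

set_option autoImplicit false
set_option linter.unusedSectionVars false
set_option linter.style.haveILetI false

namespace CfsgLib.M23Order

open Cfsg CfsgLib

universe u

variable {G : Type u} [Group G] [Finite G]

theorem mem_cen {s y : G} : y ∈ Subgroup.centralizer ({s} : Set G) ↔ y * s = s * y :=
  Subgroup.mem_centralizer_singleton_iff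

theorem ne_one_of_order {g : G} {n : ℕ} (hg : orderOf g = n) (hn : 2 ≤ n) : g ≠ 1 := fun e => by
  rw [e, orderOf_one] at hg; omega

theorem sq_of_order {g : G} (hg : orderOf g = 2) : g * g = 1 := by
  rw [← pow_two, ← hg, pow_orderOf_eq_one]

theorem pow_self_of_order {g : G} {n : ℕ} (hg : orderOf g = n) : g ^ n = 1 := by
  rw [← hg, pow_orderOf_eq_one]

theorem order_of_sq {g : G} (h : g * g = 1) (h1 : g ≠ 1) : orderOf g = 2 :=
  orderOf_eq_prime (by rw [pow_two, h]) h1

theorem order_conj (g x : G) : orderOf (g * x * g⁻¹) = orderOf x :=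
  orderOf_injective (MulAut.conj g).toMonoidHom (MulAut.conj g).injective x

theorem card_map_conj (g : G) (K : Subgroup G) :
    Nat.card ↥(K.map (MulAut.conj g).toMonoidHom) = Nat.card K :=
  Subgroup.card_map_of_injective (MulAut.conj g).injective

theorem mem_norm {g : G} {K : Subgroup G} (h : ∀ k ∈ K, g * k * g⁻¹ ∈ K) :
    g ∈ Subgroup.normalizer (K : Set G) := by
  have hmap : K.map (MulAut.conj g).toMonoidHom = K := Subgroup.eq_of_le_of_card_ge
    (by rintro _ ⟨a, ha, rfl⟩; exact h a ha) (card_map_conj g K).ge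
  refine Subgroup.mem_normalizer_iff.mpr fun k => ⟨h k, fun hk => ?_⟩
  rw [← hmap] at hk
  obtain ⟨a, ha, e⟩ := hk
  rwa [← (MulAut.conj g).injective e]

theorem norm_conj {g k : G} {K : Subgroup G} (hg : g ∈ Subgroup.normalizer (K : Set G)) (hk : k ∈ K) :
    g * k * g⁻¹ ∈ K :=
  (Subgroup.mem_normalizer_iff.mp hg k).mp hk

/-- The order of an element of a finite subgroup divides its order. -/
theorem pow_card_of_mem {K : Subgroup G} {k : G} {n : ℕ} (hn : Nat.card K = n) (hk : k ∈ K) : k ^ n = 1 := by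
  subst hn
  exact orderOf_dvd_iff_pow_eq_one.mp (Subgroup.orderOf_dvd_natCard _ hk)

/-- An invariant subgroup and its fixed points agree modulo the prime order of the acting element. -/
theorem card_mod_fixed {p : ℕ} (hp : p.Prime) {x : G} (hx : x ^ p = 1) (K : Subgroup G)
    (hinv : ∀ k ∈ K, x * k * x⁻¹ ∈ K) :
    Nat.card K ≡ Nat.card ↥(K ⊓ Subgroup.centralizer ({x} : Set G)) [MOD p] := by
  classical
  haveI := Fact.mk hp
  letI : Fintype K := Fintype.ofFinite K
  set f : Function.End K := fun k => ⟨x * k * x⁻¹, hinv k k.2⟩ with hf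
  have hfn : ∀ n : ℕ, ∀ k : K, (((f ^ n) k : K) : G) = x ^ n * k * (x ^ n)⁻¹ := by
    intro n
    induction n with
    | zero => intro k; simp; rfl
    | succ n ih =>
      intro k
      rw [pow_succ']
      show x * (((f ^ n) k : K) : G) * x⁻¹ = _
      rw [ih, pow_succ']; group
  have h := Equiv.Perm.card_fixedPoints_modEq (α := K) (f := f) (p := p) (n := 1) (by
    funext k; refine Subtype.ext ?_
    rw [pow_one, hfn, hx]
    simp; rfl)
  simp only [← Nat.card_eq_fintype_card] at h
  have e : Nat.card (Function.fixedPoints f) = Nat.card ↥(K ⊓ Subgroup.centralizer ({x} : Set G)) :=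
    Nat.card_congr
    { toFun := fun k => ⟨(k.1 : G), k.1.2, mem_cen.mpr
        (mul_inv_eq_iff_eq_mul.mp (congrArg Subtype.val k.2 : x * (k.1 : G) * x⁻¹ = (k.1 : G))).symm⟩
      invFun := fun k => ⟨⟨k.1, k.2.1⟩, Subtype.ext (by
        show x * k.1 * x⁻¹ = k.1
        rw [← mem_cen.mp k.2.2, mul_inv_cancel_right])⟩
      left_inv := fun _ => rfl
      right_inv := fun _ => rfl }
  rwa [e] at h

variable (F : Facts G)
include F

theorem exists_order {p : ℕ} (hp : p.Prime) {K : Subgroup G} (h : p ∣ Nat.card K) :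
    ∃ g ∈ K, orderOf g = p := by
  haveI := Fact.mk hp
  obtain ⟨g, hg⟩ := exists_prime_orderOf_dvd_card' (G := K) p h
  exact ⟨g, g.2, by rw [Subgroup.orderOf_coe]; exact hg⟩

theorem dvd_fourteen {s u : G} (hs : orderOf s = 7) (hc : u * s = s * u) : orderOf u ∣ 14 :=
  F.card_seven s hs ▸ Subgroup.orderOf_dvd_natCard _ (mem_cen.mpr hc)

/-- An element of order seven centralises no element of order three. -/
theorem not_comm_seven {s x : G} (hs : orderOf s = 7) (hx : orderOf x = 3) : x * s ≠ s * x := fun hc => by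
  have := dvd_fourteen F hs hc
  rw [hx] at this
  norm_num at this

/-- A subgroup of order three or nine is not normalised by an element of order seven. -/
theorem false_of_seven_three {s : G} (hs : orderOf s = 7) (R : Subgroup G) {a : ℕ} (ha : 1 ≤ a)
    (hR : Nat.card R = 3 ^ a) (hinv : ∀ k ∈ R, s * k * s⁻¹ ∈ R) : False := by
  haveI : Fact (Nat.Prime 7) := ⟨by norm_num⟩
  have ha2 : a ≤ 2 := by
    have hd := Subgroup.card_subgroup_dvd_card R
    rw [hR, F.card] at hd
    by_contra h
    have := (pow_dvd_pow 3 (show 3 ≤ a by omega)).trans hd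
    norm_num at this
  letI : Fintype R := Fintype.ofFinite R
  classical
  set f : Function.End R := fun k => ⟨s * k * s⁻¹, hinv k k.2⟩ with hf
  have hfn : ∀ n : ℕ, ∀ k : R, (((f ^ n) k : R) : G) = s ^ n * k * (s ^ n)⁻¹ := by
    intro n
    induction n with
    | zero => intro k; simp; rfl
    | succ n ih =>
      intro k
      rw [pow_succ']
      show s * (((f ^ n) k : R) : G) * s⁻¹ = _
      rw [ih, pow_succ']; group
  have h := Equiv.Perm.card_fixedPoints_modEq (α := R) (f := f) (p := 7) (n := 1) (by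
    funext k; refine Subtype.ext ?_
    rw [pow_one, hfn, pow_self_of_order hs]
    simp; rfl)
  have hone : ∀ k : R, f k = k → k = 1 := by
    intro k hk
    by_contra h1
    have hc : (k : G) * s = s * k := (mul_inv_eq_iff_eq_mul.mp (congrArg Subtype.val hk)).symm
    have h14 := dvd_fourteen F hs hc
    have h3 : orderOf (k : G) ∣ 3 ^ a := hR ▸ Subgroup.orderOf_dvd_natCard _ k.2
    have h1' := Nat.dvd_gcd h14 h3
    rw [show Nat.gcd 14 (3 ^ a) = 1 from Nat.Coprime.pow_right a (by norm_num)] at h1'
    exact h1 (Subtype.ext (orderOf_eq_one_iff.mp (Nat.dvd_one.mp h1')))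
  haveI : Subsingleton (Function.fixedPoints f) :=
    ⟨fun x y => Subtype.ext ((hone _ x.2).trans (hone _ y.2).symm)⟩
  haveI : Nonempty (Function.fixedPoints f) := ⟨⟨1, Subtype.ext (by simp [f])⟩⟩
  have h' : Nat.card R ≡ 1 [MOD 7] := by
    have e1 : Nat.card (Function.fixedPoints f) = 1 := Nat.card_eq_one_iff_unique.mpr ⟨inferInstance, inferInstance⟩
    rw [Nat.card_eq_fintype_card] at e1 ⊢
    rwa [e1] at h
  rw [hR] at h'
  interval_cases a <;> norm_num [Nat.ModEq] at h'

/-- An element of order seven normalises no subgroup of order divisible by three and prime to seven. -/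
theorem false_of_seven {s : G} (hs : orderOf s = 7) (K : Subgroup G) (hinv : ∀ k ∈ K, s * k * s⁻¹ ∈ K)
    (h3 : 3 ∣ Nat.card K) (h7 : ¬ 7 ∣ Nat.card K) : False := by
  haveI : Fact (Nat.Prime 7) := ⟨by norm_num⟩
  haveI : Fact (Nat.Prime 3) := ⟨Nat.prime_three⟩
  obtain ⟨S, hS⟩ := SylowNumber.exists_invariant_sylow (r := 3) (P := Subgroup.zpowers s) (L := K)
    (IsPGroup.of_card (n := 1) (by rw [Nat.card_zpowers, hs, pow_one]))
    (Subgroup.zpowers_le.mpr (mem_norm hinv)) h7
  obtain ⟨a, ha⟩ := IsPGroup.iff_card.mp S.2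
  refine false_of_seven_three F hs _ (a := a) ?_
    (by rw [Subgroup.card_map_of_injective K.subtype_injective, ha])
    fun k hk => norm_conj (hS (Subgroup.mem_zpowers s)) hk
  by_contra h0
  have hi := (S : Subgroup K).index_mul_card
  rw [ha, show a = 0 by omega, pow_zero, mul_one] at hi
  exact S.not_dvd_index (hi ▸ h3)

end CfsgLib.M23Order
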