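import Cfsg.Agent.Lib.M23Order.Vector

/-!
# Simple groups of order 10200960: the blocks of seven points
-/

set_option autoImplicit false
set_option linter.unusedSectionVars false
set_option linter.style.haveILetI false

namespace CfsgLib.M23Order

open Cfsg CfsgLib
open scoped Pointwise

universe u

variable {G : Type u} [Group G] [Finite G] (F : Facts G) [IsSimpleGroup G]
include F

/-- A proper subgroup has index at least 23. -/
theorem index_ge {L : Subgroup G} (hL : L ≠ ⊤) : 23 ≤ L.index := by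
  by_contra hlt
  have hinj : Function.Injective (MulAction.toPermHom G (G ⧸ L)) := by
    rw [← MonoidHom.ker_eq_bot_iff]
    refine (IsSimpleGroup.eq_bot_or_eq_top_of_normal _ (MonoidHom.normal_ker _)).resolve_right fun h => hL ?_
    refine eq_top_iff.mpr fun a _ => ?_
    have ha : a ∈ (MulAction.toPermHom G (G ⧸ L)).ker := h ▸ Subgroup.mem_top a
    have := Equiv.ext_iff.mp (MonoidHom.mem_ker.mp ha) ((1 : G) : G ⧸ L)
    simpa using (smul_mk_eq a 1).mp this
  have h := Subgroup.card_dvd_of_injective _ hinj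
  rw [F.card, Nat.card_perm, show Nat.card (G ⧸ L) = L.index from rfl] at h
  have h22 : L.index.factorial ∣ Nat.factorial 22 := Nat.factorial_dvd_factorial (by omega)
  have h23 : 23 ∣ Nat.factorial 22 := (by norm_num : 23 ∣ 10200960).trans (h.trans h22)
  rw [(by norm_num : Nat.Prime 23).dvd_factorial] at h23
  omega

/-- The standing situation: two sixteens in a subgroup of index 23. -/
structure Setup (t : G) (M : Subgroup G) : Prop where
  ord : orderOf t = 2
  le : core t ≤ M
  index : M.index = 23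
  card_inf : Nat.card ↥(nor t ⊓ M) = 5760
  fix : ∀ g : G, {q : G ⧸ M | g • q = q}.Nonempty →
    (orderOf g = 2 → {q : G ⧸ M | g • q = q}.ncard = 7) ∧ (orderOf g = 3 → {q : G ⧸ M | g • q = q}.ncard = 5) ∧
    (orderOf g = 5 → {q : G ⧸ M | g • q = q}.ncard = 3)

theorem exists_setup : ∃ (t : G) (M : Subgroup G), Setup t M := by
  obtain ⟨t, t', M, ht, ht', hbot, hbot', hE, hE', hidx, hd, hfix⟩ := exists_index F
  refine ⟨t, M, ht, hE, hidx, ?_, hfix⟩
  have hM : Nat.card M = 443520 := by
    have := M.index_mul_card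
    rw [hidx, F.card] at this
    omega
  have hdd : Nat.card ↥(nor t ⊓ M) ∣ 40320 := card_nor F ht ▸ Subgroup.card_dvd_of_le inf_le_left
  obtain ⟨r, hr⟩ := hd
  rw [hr] at hdd
  have hr7 : r ∣ 7 := (Nat.mul_dvd_mul_iff_left (by norm_num : 0 < 5760)).mp hdd
  rcases (Nat.dvd_prime (by norm_num)).mp hr7 with rfl | rfl
  · exact hr
  exfalso
  have hinj : Function.Injective fun a : core t' =>
      ((⟨(a : G), hE' a.2⟩ : M) : M ⧸ (nor t ⊓ M).subgroupOf M) := by
    intro a b hab
    have h := QuotientGroup.eq.mp hab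
    rw [Subgroup.mem_subgroupOf] at h
    have h0 : (a : G)⁻¹ * b ∈ core t' ⊓ nor t := Subgroup.mem_inf.mpr ⟨mul_mem (inv_mem a.2) b.2, h.1⟩
    rw [hbot', Subgroup.mem_bot, inv_mul_eq_one] at h0
    exact Subtype.ext h0
  have h16 := Nat.card_le_card_of_injective _ hinj
  rw [card_core F ht'] at h16
  have := ((nor t ⊓ M).subgroupOf M).index_mul_card
  rw [Nat.card_congr (Subgroup.subgroupOfEquivOfLe inf_le_right).toEquiv, hr, hM] at this
  have := Nat.mul_le_mul h16 (le_refl (5760 * 7))
  simp only [Subgroup.index] at *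
  omega

variable {t : G} {M : Subgroup G}

/-- The fixed points of a sixteen. -/
def blockPts (t : G) (M : Subgroup G) : Set (G ⧸ M) := {q | ∀ e ∈ core t, e • q = q}

theorem fix_core (S : Setup t M) :
    (blockPts t M).ncard = 7 ∧
      ∀ e ∈ core t, e ≠ 1 → {q : G ⧸ M | e • q = q} = blockPts t M := by
  classical
  set o : G ⧸ M := ((1 : G) : G ⧸ M) with ho
  have hmk : ∀ k : G, k • o = o ↔ k ∈ M := fun k => by
    rw [ho, smul_mk_eq]; simp
  have hsub : MulAction.orbit (nor t) o ⊆ blockPts t M := by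
    rintro _ ⟨n, rfl⟩ e he
    show e • ((n : G) • o) = (n : G) • o
    rw [← mul_smul, show e * (n : G) = n * ((n : G)⁻¹ * e * (n : G)⁻¹⁻¹) by group, mul_smul,
      (hmk _).mpr (S.le (norm_conj ((nor t).inv_mem n.2) he))]
  have horb : (MulAction.orbit (nor t) o).ncard = 7 := by
    have e := Nat.card_congr (MulAction.orbitProdStabilizerEquivGroup (nor t) o)
    rw [Nat.card_prod, Nat.card_coe_set_eq, card_nor F S.ord] at e
    have hs : Nat.card (MulAction.stabilizer (nor t) o) = Nat.card ↥(nor t ⊓ M) :=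
      Nat.card_congr
        { toFun := fun a => ⟨(a.1 : G), a.1.2, (hmk _).mp a.2⟩
          invFun := fun a => ⟨⟨a.1, a.2.1⟩, (hmk a.1).mpr a.2.2⟩
          left_inv := fun _ => rfl
          right_inv := fun _ => rfl }
    rw [hs, S.card_inf] at e
    omega
  have h7 : ∀ e ∈ core t, e ≠ 1 → {q : G ⧸ M | e • q = q}.ncard = 7 := fun e he he1 =>
    (S.fix e ⟨o, (hmk e).mpr (S.le he)⟩).1 (order_core F S.ord he he1)
  have heq : ∀ e ∈ core t, e ≠ 1 → {q : G ⧸ M | e • q = q} = MulAction.orbit (nor t) o := fun e he he1 => by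
    refine (Set.eq_of_subset_of_ncard_le (fun q hq => hsub hq e he) ?_ (Set.toFinite _)).symm
    exact le_of_eq ((h7 e he he1).trans horb.symm)
  have hB : blockPts t M = MulAction.orbit (nor t) o := by
    refine Set.Subset.antisymm (fun q hq => ?_) hsub
    rw [← heq t (mem_core_self F S.ord) (ne_one_of_order S.ord le_rfl)]
    exact hq t (mem_core_self F S.ord)
  exact ⟨hB ▸ horb, fun e he he1 => hB ▸ heq e he he1⟩

/-- The sixteen is transitive on the other points. -/
theorem core_orbit (S : Setup t M) {q : G ⧸ M} (hq : q ∉ blockPts t M) :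
    MulAction.orbit (core t) q = (blockPts t M)ᶜ := by
  classical
  obtain ⟨h7, heq⟩ := fix_core F S
  have hstab : MulAction.stabilizer (core t) q = ⊥ := by
    rw [Subgroup.eq_bot_iff_forall]
    intro a ha
    by_contra h1
    exact hq (heq a a.2 (fun e => h1 (Subtype.ext e)) ▸ (show (a : G) • q = q from ha))
  refine Set.eq_of_subset_of_ncard_le ?_ ?_ (Set.toFinite _)
  · rintro _ ⟨a, rfl⟩ hmem
    have h := hmem (a : G) a.2
    have h' : (a : G) • q = q := MulAction.injective (a : G) h
    have hmem' : (a : G) • q ∈ blockPts t M := hmem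
    rw [h'] at hmem'
    exact hq hmem'
  · have e := Nat.card_congr (MulAction.orbitProdStabilizerEquivGroup (core t) q)
    rw [Nat.card_prod, Nat.card_coe_set_eq, hstab, Subgroup.card_bot, mul_one, card_core F S.ord] at e
    rw [Set.ncard_compl, h7, show Nat.card (G ⧸ M) = 23 from S.index, e]

/-- The stabiliser of the block is the normaliser of the sixteen. -/
theorem stab_block (S : Setup t M) {g : G} (hg : g • blockPts t M = blockPts t M) : g ∈ nor t := by
  classical
  obtain ⟨h7, heq⟩ := fix_core F S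
  set B := blockPts t M with hBd
  set L := MulAction.stabilizer G B with hLd
  have hNL : nor t ≤ L := by
    intro n hn
    rw [hLd, MulAction.mem_stabilizer_iff]
    refine Set.eq_of_subset_of_ncard_le ?_ (le_of_eq (Set.ncard_image_of_injective _ (MulAction.injective n)).symm)
      (Set.toFinite _)
    rintro _ ⟨q, hq, rfl⟩ e he
    show e • (n • q) = n • q
    rw [← mul_smul, show e * n = n * (n⁻¹ * e * n⁻¹⁻¹) by group, mul_smul, hq _ (norm_conj ((nor t).inv_mem hn) he)]
  by_contra hgN
  have hLne : L ≠ ⊤ := by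
    intro h
    have huniv : B = Set.univ := by
      obtain ⟨a, ha⟩ := Set.nonempty_of_ncard_ne_zero (s := B) (by omega)
      refine Set.eq_univ_of_forall fun q => ?_
      obtain ⟨x, hx⟩ := MulAction.exists_smul_eq G a q
      have hxB : x • B = B := (h ▸ Subgroup.mem_top x : x ∈ L)
      rw [← hx, ← hxB]
      exact Set.smul_mem_smul_set ha
    rw [huniv, Set.ncard_univ, show Nat.card (G ⧸ M) = 23 from S.index] at h7
    omega
  have hidx := index_ge F hLne
  obtain ⟨k, hk⟩ := Subgroup.card_dvd_of_le hNL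
  rw [card_nor F S.ord] at hk
  have hprod := L.index_mul_card
  rw [F.card, hk] at hprod
  have hk2 : 2 ≤ k := by
    by_contra hlt
    have hk0 : Nat.card L ≠ 0 := Nat.card_pos.ne'
    have hk1 : k = 1 := by
      rcases k with _ | _ | k
      · omega
      · rfl
      · omega
    refine hgN ((Subgroup.eq_of_le_of_card_ge hNL (by rw [hk, card_nor F S.ord, hk1])) ▸ hg)
  have hdk : L.index * k = 253 := by
    rw [show L.index * (40320 * k) = 40320 * (L.index * k) by ring] at hprod
    omega
  have hk11 : k = 11 := by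
    have hle : k ≤ 11 := by
      by_contra h
      have := Nat.mul_le_mul hidx (show 12 ≤ k by omega)
      omega
    interval_cases k <;> omega
  subst hk11
  -- the kernel on the block
  let φ : L →* Equiv.Perm B :=
    { toFun := fun a =>
        { toFun := fun q => ⟨(a : G) • (q : G ⧸ M), by
            exact (Set.ext_iff.mp (show (a : G) • B = B from a.2) _).mp (Set.smul_mem_smul_set q.2)⟩
          invFun := fun q => ⟨(a : G)⁻¹ • (q : G ⧸ M), by
            have h : (a : G)⁻¹ • B = B := inv_smul_eq_iff.mpr (show (a : G) • B = B from a.2).symm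
            exact (Set.ext_iff.mp h _).mp (Set.smul_mem_smul_set q.2)⟩
          left_inv := fun q => Subtype.ext (inv_smul_smul _ _)
          right_inv := fun q => Subtype.ext (smul_inv_smul _ _) }
      map_one' := Equiv.ext fun q => Subtype.ext (one_smul _ _)
      map_mul' := fun a b => Equiv.ext fun q => Subtype.ext (mul_smul (a : G) (b : G) _) }
  set K := φ.ker.map L.subtype with hKd
  have hmemK : ∀ a : G, a ∈ K ↔ a ∈ L ∧ ∀ q ∈ B, a • q = q := fun a => by
    constructor
    · rintro ⟨b, hb, rfl⟩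
      exact ⟨b.2, fun q hq => congrArg Subtype.val (Equiv.ext_iff.mp (MonoidHom.mem_ker.mp hb) ⟨q, hq⟩)⟩
    · rintro ⟨haL, ha⟩
      exact ⟨⟨a, haL⟩, MonoidHom.mem_ker.mpr (Equiv.ext fun q => Subtype.ext (ha q q.2)), rfl⟩
  have hEK : core t ≤ K := fun e he => (hmemK e).mpr ⟨hNL (core_le_nor F S.ord he), fun q hq => hq e he⟩
  have hKN : K ⊓ nor t = core t := by
    have hNn : ∀ n ∈ nor t, ∀ a ∈ K ⊓ nor t, n * a * n⁻¹ ∈ K ⊓ nor t := by
      intro n hn a ha
      refine Subgroup.mem_inf.mpr ⟨(hmemK _).mpr ⟨mul_mem (mul_mem (hNL hn) (hNL ha.2)) (inv_mem (hNL hn)), fun q hq => ?_⟩,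
        mul_mem (mul_mem hn ha.2) (inv_mem hn)⟩
      have hq' : n⁻¹ • q ∈ B := by
        have h : n⁻¹ • B = B := inv_smul_eq_iff.mpr (show n • B = B from hNL hn).symm
        rw [← h]; exact Set.smul_mem_smul_set hq
      rw [mul_smul, mul_smul, ((hmemK a).mp ha.1).2 _ hq', smul_inv_smul]
    rcases nor_normal_cases F S.ord (le_inf hEK (core_le_nor F S.ord)) inf_le_right hNn with h | h
    · exact h
    exfalso
    have hle : nor t ≤ M := by
      intro n hn
      have hn' : n ∈ K ⊓ nor t := by rw [h]; exact hn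
      have hnK : n ∈ K := hn'.1
      have ho : ((1 : G) : G ⧸ M) ∈ B := fun e he => (smul_mk_eq e 1).mpr (by simpa using S.le he)
      simpa using (smul_mk_eq n 1).mp (((hmemK n).mp hnK).2 _ ho)
    have := S.card_inf
    rw [inf_eq_left.mpr hle, card_nor F S.ord] at this
    omega
  have hK176 : Nat.card K = 176 := by
    have hKc : Nat.card K = Nat.card φ.ker :=
      (Nat.card_congr (φ.ker.equivMapOfInjective _ L.subtype_injective).toEquiv).symm
    have hi := φ.ker.index_mul_card
    rw [hk, ← hKc, Subgroup.index_ker] at hi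
    have hr : Nat.card φ.range ∣ 5040 := by
      have := Subgroup.card_subgroup_dvd_card φ.range
      rwa [Nat.card_perm, Nat.card_coe_set_eq, h7, show Nat.factorial 7 = 5040 from rfl] at this
    let φN : nor t →* Equiv.Perm B := φ.comp (Subgroup.inclusion hNL)
    have hN2520 : 2520 ∣ Nat.card φ.range := by
      have hkN : Nat.card φN.ker = 16 := by
        rw [← card_core F S.ord]
        exact Nat.card_congr
          { toFun := fun a => ⟨(a.1 : G), hKN ▸ Subgroup.mem_inf.mpr
              ⟨⟨Subgroup.inclusion hNL a.1, a.2, rfl⟩, a.1.2⟩⟩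
            invFun := fun a => ⟨⟨a.1, core_le_nor F S.ord a.2⟩, MonoidHom.mem_ker.mpr
              (Equiv.ext fun q => Subtype.ext (((hmemK a.1).mp (hEK a.2)).2 q q.2))⟩
            left_inv := fun _ => rfl
            right_inv := fun _ => rfl }
      have := φN.ker.index_mul_card
      rw [Subgroup.index_ker, hkN, card_nor F S.ord] at this
      rw [show 2520 = Nat.card φN.range by omega]
      exact Subgroup.card_dvd_of_le (by rintro _ ⟨a, rfl⟩; exact ⟨_, rfl⟩)
    have h16 : 16 ∣ Nat.card K := card_core F S.ord ▸ Subgroup.card_dvd_of_le hEK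
    obtain ⟨r, hr'⟩ := hN2520
    rw [hr'] at hr hi
    have : r ∣ 2 := (Nat.mul_dvd_mul_iff_left (by norm_num : 0 < 2520)).mp hr
    rcases (Nat.dvd_prime Nat.prime_two).mp this with rfl | rfl <;> omega
  obtain ⟨w, hwK, hw⟩ := exists_order F (by norm_num : Nat.Prime 11) (K := K) (by rw [hK176]; norm_num)
  obtain ⟨d, m, hd, hm, h1, h2⟩ := card_norm_prime (by norm_num) hw hwK (by rw [hK176]; norm_num)
  have hd10 := Nat.le_of_dvd (by norm_num) hd
  have hcl : 11 ∣ Nat.card ↥(K ⊓ cen w) := hw ▸ Subgroup.orderOf_dvd_natCard _ ⟨hwK, mem_cen.mpr rfl⟩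
  rw [hK176, h1] at h2
  have h8 : 2 ∣ Nat.card ↥(K ⊓ cen w) := by
    generalize Nat.card ↥(K ⊓ cen w) = c at hcl h2 ⊢
    obtain ⟨c', rfl⟩ := hcl
    have h16 : m * (c' * d) = 16 := by
      rw [show m * (11 * c' * d) = 11 * (m * (c' * d)) by ring] at h2
      omega
    have hmd : m ∣ 16 := ⟨_, h16.symm⟩
    have hm1 : m = 1 := by
      have := Nat.le_of_dvd (by norm_num) hmd
      interval_cases m <;> omega
    subst hm1
    rw [one_mul] at h16
    interval_cases d <;> omega
  obtain ⟨x, hx, hx2⟩ := exists_order F Nat.prime_two (K := K ⊓ cen w) h8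
  have h11 : 11 ∣ Nat.card (cen x) := hw ▸ Subgroup.orderOf_dvd_natCard _ (mem_cen.mpr (mem_cen.mp hx.2).symm)
  rw [show Nat.card (cen x) = 2688 from F.card_invol x hx2] at h11
  norm_num at h11

/-- The block of a coset of the normaliser. -/
theorem block_smul_eq (S : Setup t M) {g h : G} :
    g • blockPts t M = h • blockPts t M ↔ (g : G ⧸ nor t) = h := by
  constructor
  · intro e
    refine QuotientGroup.eq.mpr (stab_block F S ?_)
    rw [mul_smul, ← e, inv_smul_smul]
  · intro e
    have hn := QuotientGroup.eq.mp e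
    have : (g⁻¹ * h) • blockPts t M = blockPts t M := by
      refine Set.eq_of_subset_of_ncard_le ?_ (le_of_eq (Set.ncard_image_of_injective _ (MulAction.injective _)).symm)
        (Set.toFinite _)
      rintro _ ⟨q, hq, rfl⟩ a ha
      show a • ((g⁻¹ * h) • q) = (g⁻¹ * h) • q
      rw [← mul_smul, show a * (g⁻¹ * h) = (g⁻¹ * h) * ((g⁻¹ * h)⁻¹ * a * (g⁻¹ * h)⁻¹⁻¹) by group, mul_smul,
        hq _ (norm_conj ((nor t).inv_mem hn) ha)]
    conv_rhs => rw [show h = g * (g⁻¹ * h) by group, mul_smul, this]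

/-- Two blocks with four common points are equal. -/
theorem block_meet (S : Setup t M) {g : G} (hne : g • blockPts t M ≠ blockPts t M) :
    (g • blockPts t M ∩ blockPts t M).ncard ≤ 3 := by
  classical
  obtain ⟨h7, heq⟩ := fix_core F S
  set B := blockPts t M with hBd
  set B' := g • B with hB'd
  set D := B' ∩ B with hDd
  have hB'7 : B'.ncard = 7 := by
    rw [hB'd, ← h7]; exact Set.ncard_image_of_injective _ (MulAction.injective g)
  have hD6 : D.ncard ≤ 6 := by
    by_contra h
    have hD : D = B := Set.eq_of_subset_of_ncard_le Set.inter_subset_right (by omega) (Set.toFinite _)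
    refine hne (Set.eq_of_subset_of_ncard_le ?_ (by omega) (Set.toFinite _)).symm
    rw [← hD]; exact Set.inter_subset_left
  by_contra hcon
  let P : Subgroup G :=
    { carrier := {a | ∀ q ∈ D, a • q = q}
      one_mem' := fun q _ => one_smul _ _
      mul_mem' := fun {a b} ha hb q hq => by rw [mul_smul, hb q hq, ha q hq]
      inv_mem' := fun {a} ha q hq => by conv_lhs => rw [← ha q hq, inv_smul_smul] }
  have hEP : core t ≤ P := fun e he q hq => hq.2 e he
  have hE'P : ∀ e ∈ core t, g * e * g⁻¹ ∈ P := fun e he q hq => by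
    obtain ⟨b, hb, rfl⟩ := hq.1
    show (g * e * g⁻¹) • (g • b) = g • b
    rw [mul_smul, mul_smul, inv_smul_smul, hb e he]
  -- the orbit of the pointwise stabiliser
  have hcompl : Bᶜ ∩ B'ᶜ ≠ ∅ := by
    intro h
    have hu : Bᶜ ⊆ B' := fun q hq => by
      by_contra hq'
      exact (Set.eq_empty_iff_forall_notMem.mp h q) ⟨hq, hq'⟩
    have := Set.ncard_le_ncard hu (Set.toFinite _)
    rw [Set.ncard_compl, h7, hB'7, show Nat.card (G ⧸ M) = 23 from S.index] at this
    omega
  obtain ⟨q, hqB, hqB'⟩ := Set.nonempty_iff_ne_empty.mpr hcompl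
  have horb : MulAction.orbit P q = Dᶜ := by
    refine Set.Subset.antisymm ?_ fun r hr => ?_
    · rintro _ ⟨a, rfl⟩ hmem
      have h : (a : G)⁻¹ • ((a : G) • q) = (a : G) • q := (inv_mem a.2 : (a : G)⁻¹ ∈ P) _ hmem
      rw [inv_smul_smul] at h
      have hmem' : (a : G) • q ∈ D := hmem
      rw [← h] at hmem'
      exact hqB hmem'.2
    · by_cases hrB : r ∈ B
      · have hrB' : r ∉ B' := fun h => hr ⟨h, hrB⟩
        have hr' : g⁻¹ • r ∉ B := fun h => hrB' (Set.mem_smul_set_iff_inv_smul_mem.mpr h)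
        have hq' : g⁻¹ • q ∉ B := fun h => hqB' (Set.mem_smul_set_iff_inv_smul_mem.mpr h)
        rw [← Set.mem_compl_iff, ← core_orbit F S hq'] at hr'
        obtain ⟨e, he⟩ := hr'
        refine ⟨⟨g * e * g⁻¹, hE'P e e.2⟩, ?_⟩
        show (g * e * g⁻¹) • q = r
        rw [mul_smul, mul_smul, show (e : G) • g⁻¹ • q = g⁻¹ • r from he, smul_inv_smul]
      · rw [← Set.mem_compl_iff, ← core_orbit F S hqB] at hrB
        obtain ⟨e, he⟩ := hrB
        exact ⟨⟨e, hEP e.2⟩, he⟩
  have hdvd : 23 - D.ncard ∣ Nat.card P := by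
    have e := Nat.card_congr (MulAction.orbitProdStabilizerEquivGroup P q)
    rw [Nat.card_prod, Nat.card_coe_set_eq, horb, Set.ncard_compl, show Nat.card (G ⧸ M) = 23 from S.index] at e
    exact ⟨_, e.symm⟩
  have hPG : Nat.card P ∣ 10200960 := F.card ▸ Subgroup.card_subgroup_dvd_card P
  have h19 := hdvd.trans hPG
  have hD5 : D.ncard = 5 := by
    generalize D.ncard = k at h19 hD6 hcon ⊢
    interval_cases k <;> first | rfl | norm_num at h19
  rw [hD5] at hdvd
  -- a Sylow three-subgroup fixes five points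
  haveI : Fact (Nat.Prime 3) := ⟨Nat.prime_three⟩
  obtain ⟨R, hR, hRc⟩ : ∃ R : Subgroup G, R ≤ P ∧ Nat.card R = 9 := by
    obtain ⟨R', hR'⟩ := Sylow.exists_subgroup_card_pow_prime (G := P) 3 (n := 2)
      ((by norm_num : 3 ^ 2 ∣ 23 - 5).trans hdvd)
    exact ⟨R'.map P.subtype, Subgroup.map_subtype_le _,
      (Nat.card_congr (R'.equivMapOfInjective _ P.subtype_injective).toEquiv).symm.trans hR'⟩
  have hRcomm : ∀ a ∈ R, ∀ b ∈ R, a * b = b * a := fun a ha b hb =>
    congrArg Subtype.val (IsPGroup.commutative_of_card_eq_prime_sq (p := 3) (G := R) (by rw [hRc]; rfl)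
      ⟨a, ha⟩ ⟨b, hb⟩)
  obtain ⟨x, hxR, hx⟩ := exists_order F Nat.prime_three (K := R) (by rw [hRc]; norm_num)
  have hDne : D.Nonempty := Set.nonempty_of_ncard_ne_zero (by omega)
  have hxD : {r : G ⧸ M | x • r = r} = D := by
    refine (Set.eq_of_subset_of_ncard_le (fun r hr => hR hxR r hr) ?_ (Set.toFinite _)).symm
    exact le_of_eq (((S.fix x (hDne.mono fun r hr => hR hxR r hr)).2.1 hx).trans hD5.symm)
  set C := cen x with hCd
  have hCc : Nat.card C = 180 := F.card_three x hx
  have hRC : R ≤ C := fun a ha => mem_cen.mpr (hRcomm a ha x hxR)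
  have hCD : ∀ c ∈ C, ∀ r ∈ D, c • r ∈ D := fun c hc r hr => by
    rw [← hxD] at hr ⊢
    show x • c • r = c • r
    rw [← mul_smul, ← mem_cen.mp hc, mul_smul, show x • r = r from hr]
  set K := P.subgroupOf C with hKd
  haveI : K.Normal := ⟨fun a ha c r hr => by
    show ((c : G) * a * (c : G)⁻¹) • r = r
    rw [mul_smul, mul_smul, (show (a : G) ∈ P from ha) _ (hCD _ (inv_mem c.2) r hr), smul_inv_smul]⟩
  have h5K : ¬ 5 ∣ Nat.card K := by
    intro h
    obtain ⟨y, hy⟩ := exists_prime_orderOf_dvd_card' (hp := ⟨by norm_num⟩) 5 h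
    have hy5 : orderOf ((y : C) : G) = 5 := by rw [Subgroup.orderOf_coe, Subgroup.orderOf_coe, hy]
    have hsub : D ⊆ {r : G ⧸ M | ((y : C) : G) • r = r} := fun r hr => y.2 r hr
    have := Set.ncard_le_ncard hsub (Set.toFinite _)
    rw [(S.fix _ (hDne.mono hsub)).2.2 hy5, hD5] at this
    omega
  set R₀ := R.subgroupOf C with hR0
  have hR0c : Nat.card R₀ = 9 := (Nat.card_congr (Subgroup.subgroupOfEquivOfLe hRC).toEquiv).trans hRc
  set R₁ := R₀.subgroupOf K with hR1
  have hR0K : R₀ ≤ K := fun a ha => hR ha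
  have hR1c : Nat.card R₁ = 3 ^ (Nat.card K).factorization 3 := by
    have h9 : Nat.card R₁ = 9 := (Nat.card_congr (Subgroup.subgroupOfEquivOfLe hR0K).toEquiv).trans hR0c
    have hd : 9 ∣ Nat.card K := h9 ▸ Subgroup.card_subgroup_dvd_card R₁
    have hd' : Nat.card K ∣ 180 := hCc ▸ Subgroup.card_subgroup_dvd_card K
    have h1 : 2 ≤ (Nat.card K).factorization 3 :=
      (Nat.prime_three.pow_dvd_iff_le_factorization Nat.card_pos.ne').mp hd
    have h2 : (Nat.card K).factorization 3 ≤ 2 := by
      by_contra h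
      have h27 : 3 ^ 3 ∣ Nat.card K := (Nat.prime_three.pow_dvd_iff_le_factorization Nat.card_pos.ne').mpr (by omega)
      have := h27.trans hd'
      norm_num at this
    rw [h9, show (Nat.card K).factorization 3 = 2 by omega]; rfl
  have hmap : ((Sylow.ofCard R₁ hR1c : Sylow 3 K) : Subgroup K).map K.subtype = R₀ := by
    show R₁.map K.subtype = R₀
    rw [hR1, Subgroup.subgroupOf_map_subtype, inf_eq_left.mpr hR0K]
  have hfr := Sylow.normalizer_sup_eq_top (Sylow.ofCard R₁ hR1c : Sylow 3 K)
  rw [hmap] at hfr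
  set N := Subgroup.normalizer (R₀ : Set C) with hNd
  have hsurj : Function.Surjective ((QuotientGroup.mk' K).comp N.subtype) := by
    intro z
    obtain ⟨c, rfl⟩ := QuotientGroup.mk'_surjective K z
    have hc : c ∈ N ⊔ K := hfr ▸ Subgroup.mem_top c
    obtain ⟨n, hn, k, hk, rfl⟩ := Subgroup.mem_sup_of_normal_right.mp hc
    exact ⟨⟨n, hn⟩, QuotientGroup.eq.mpr (by simpa using hk)⟩
  have h5N : 5 ∣ Nat.card N := by
    refine dvd_trans ?_ (Subgroup.card_dvd_of_surjective _ hsurj)
    have := K.index_mul_card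
    rw [hCc] at this
    show 5 ∣ K.index
    exact ((Nat.Prime.dvd_mul (by norm_num)).mp (by rw [this]; norm_num : 5 ∣ K.index * Nat.card K)).resolve_right h5K
  obtain ⟨y, hy⟩ := exists_prime_orderOf_dvd_card' (hp := ⟨by norm_num⟩) 5 h5N
  set y' : G := ((y : C) : G) with hy'd
  have hy5 : orderOf y' = 5 := by rw [hy'd, Subgroup.orderOf_coe, Subgroup.orderOf_coe, hy]
  have hyR : ∀ a ∈ R, y' * a * y'⁻¹ ∈ R := fun a ha =>
    ((Subgroup.mem_normalizer_iff.mp y.2) ⟨a, hRC ha⟩).mp ha
  have hmod := card_mod_fixed (by norm_num : Nat.Prime 5) (pow_self_of_order hy5) R hyR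
  rw [show Subgroup.centralizer ({y'} : Set G) = cen y' from rfl, hRc] at hmod
  have h1 := Subgroup.card_dvd_of_le (inf_le_left : R ⊓ cen y' ≤ R)
  have h2 := Subgroup.card_dvd_of_le (inf_le_right : R ⊓ cen y' ≤ cen y')
  rw [hRc] at h1
  rw [show Nat.card (cen y') = 15 from F.card_five y' hy5] at h2
  have h3 : Nat.card ↥(R ⊓ cen y') ∣ 3 := Nat.dvd_gcd h1 h2
  rcases (Nat.dvd_prime Nat.prime_three).mp h3 with e | e <;> rw [e] at hmod <;> norm_num [Nat.ModEq] at hmod

end CfsgLib.M23Order
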