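import Cfsg.Agent.Lib.OrderBlocks.Section

/-!
# Simple groups of order 10200960: common notions for the character analysis
-/

set_option autoImplicit false
set_option linter.unusedSectionVars false
set_option linter.style.haveILetI false

namespace CfsgLib.M23Order

open Cfsg
open scoped ComplexConjugate CfsgLib.Char
open CfsgLib CfsgLib.BrauerTuan CfsgLib.OrderBlocks
open scoped _root_.Classical

universe u

/-- The context of a prime for a group of order 10200960. -/
abbrev Ctx (G : Type u) [Group G] [Fintype G] (p : ℕ) [Fact p.Prime] (k : ℕ) :=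
  OrderCtx G 10200960 p [5, 7, 11, 23] 3193 k

/-- A numbered principal block for a group of order 10200960. -/
abbrev Blk (G : Type u) [Group G] [Fintype G] (p : ℕ) [Fact p.Prime] (o : Opt) :=
  PBlk G 10200960 [5, 7, 11, 23] 3193 p o

/-- The divisors of a product, from the divisors of its factors. -/
def divs : List ℕ → List ℕ
  | [] => [1]
  | a :: as => ((List.range (a + 1)).filter fun i => decide (a % i = 0)).flatMap fun i => (divs as).map (i * ·)

/-- The triples `(number of Sylow subgroups, e, k)` left by the arithmetic. -/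
def trips (n p : ℕ) (fs : List ℕ) : List (ℕ × ℕ × ℕ) :=
  ((divs fs).filter fun c => decide (c % p = 1) && decide (c ≠ 1) && decide (n / p % c = 0)).flatMap fun c =>
    ((List.range p).filter fun e =>
      decide (2 ≤ e) && decide ((p - 1) % e = 0) && decide (n / p / c % e = 0)).map fun e => (c, e, n / p / c / e)

theorem mem_divs : ∀ (as : List ℕ), as.prod ≠ 0 → ∀ c, c ∣ as.prod → c ∈ divs as
  | [], _, c, h => by
    simp only [List.prod_nil, Nat.dvd_one] at h
    simp [divs, h]
  | a :: as, h0, c, h => by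
    rw [List.prod_cons] at h h0
    obtain ⟨c₁, c₂, h1, h2, rfl⟩ := Nat.dvd_mul.mp h
    simp only [divs, List.mem_flatMap, List.mem_filter, List.mem_range, decide_eq_true_eq, List.mem_map]
    have ha : a ≠ 0 := fun e => h0 (by rw [e, zero_mul])
    exact ⟨c₁, ⟨Nat.lt_succ_of_le (Nat.le_of_dvd (Nat.pos_of_ne_zero ha) h1), Nat.mod_eq_zero_of_dvd h1⟩,
      c₂, mem_divs as (fun e => h0 (by rw [e, mul_zero])) c₂ h2, rfl⟩

/-- The residues of the degrees modulo `23`. -/
def g23 (d : ℕ) : Bool := [0, 1, 22, 11, 12].contains (d % 23)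

/-- The residues of the degrees modulo `23` and modulo `11`. -/
def g2 (d : ℕ) : Bool := g23 d && [0, 1, 10, 5, 6].contains (d % 11)

theorem not_dvd_quot {n c r : ℕ} (hr : r.Prime) (hn : ¬ r * r ∣ n) (hrc : r ∣ c) (hcn : c ∣ n) :
    ¬ r ∣ n / c := by
  intro h
  refine hn ?_
  obtain ⟨j, rfl⟩ := hcn
  rcases Nat.eq_zero_or_pos c with rfl | hc
  · simp
  · rw [Nat.mul_div_cancel_left _ hc] at h
    exact mul_dvd_mul hrc h

variable {G : Type u} [Group G] [Fintype G] [IsSimpleGroup G]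

/-- The conditions on the value of a character at an involution. -/
theorem iv_facts (hn : Nat.card G = 10200960) (hcomm : ¬ IsMulCommutative G) {χ : IrrCharacter G}
    (hne : χ ≠ Blocks.trivIrr G) {g : G} (hg : orderOf g = 2) :
    iv χ g * iv χ g ≤ (cC g : ℤ) ∧ ((deg χ : ℤ) - iv χ g) % 4 = 0 ∧
      ((10200960 / cC g : ℕ) : ℤ) * iv χ g % (deg χ : ℤ) = 0 ∧ (iv χ g).natAbs < deg χ := by
  have h := iv_mem_vals hn hcomm hne hg
  simp only [vals, List.mem_filter, Bool.and_eq_true, decide_eq_true_eq, List.mem_map, List.mem_range] at h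
  obtain ⟨⟨i, hi, he⟩, ⟨h1, h2⟩, h3⟩ := h
  have := deg_pos χ
  exact ⟨h1, h2, h3, by omega⟩

variable {p : ℕ} [Fact p.Prime] {k : ℕ}

/-- The principal block of a prime dividing the order once. -/
theorem exists_ctx (hn : Nat.card G = 10200960) (fs : List ℕ) (hfs : fs.prod = 10200960) (hdvd : p ∣ 10200960)
    (hsq : ¬ p * p ∣ 10200960) :
    ∃ (k : ℕ) (T : Ctx G p k), (1 + T.D.n * p, T.D.e, k) ∈ trips 10200960 p fs := by
  have hp : p.Prime := Fact.out
  have hcomm : ¬ IsMulCommutative G := SmallOrder.not_comm_of_not_prime (hn ▸ by norm_num)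
  have hcyc : ¬ IsCyclic G := fun hc =>
    hcomm ⟨⟨fun a b => (IsCyclic.commGroup (α := G)).mul_comm a b⟩⟩
  obtain ⟨P⟩ := (inferInstance : Nonempty (Sylow p G))
  obtain ⟨m, hm⟩ := hdvd
  have hmp : ¬ p ∣ m := fun h' => hsq (hm ▸ mul_dvd_mul_left p h')
  have hP : Nat.card (P : Subgroup G) = p := by
    rw [P.card_eq_multiplicity, hn, hm,
      Nat.factorization_mul hp.ne_zero (fun h => hmp (by rw [h]; exact dvd_zero _)), Finsupp.add_apply,
      hp.factorization_self, Nat.factorization_eq_zero_of_not_dvd hmp, add_zero, pow_one]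
  obtain ⟨D⟩ := nonempty_data hcyc P hP
  have hle : (P : Subgroup G) ≤ Subgroup.centralizer ((P : Subgroup G) : Set G) := fun a ha => by
    haveI : IsCyclic (P : Subgroup G) := isCyclic_of_prime_card hP
    exact Subgroup.mem_centralizer_iff.mpr fun c hc =>
      congrArg Subtype.val ((IsCyclic.commGroup (α := (P : Subgroup G))).mul_comm ⟨c, hc⟩ ⟨a, ha⟩)
  obtain ⟨k, hk⟩ : p ∣ Nat.card (Subgroup.centralizer ((P : Subgroup G) : Set G)) := by
    have h := Subgroup.card_dvd_of_le hle
    rwa [hP] at h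
  refine ⟨k, ⟨P, hP, D, hcomm, hn, hsq, by norm_num, ?_, hk⟩, ?_⟩
  · simp only [List.forall_mem_cons]
    norm_num
  have hm' : m = D.e * (1 + D.n * p) * k := by
    refine Nat.eq_of_mul_eq_mul_left hp.pos (hm.symm.trans (hn.symm.trans (D.card_G.trans ?_)))
    rw [hk]
    ring
  have hnp : 10200960 / p = m := by rw [hm, Nat.mul_div_cancel_left _ hp.pos]
  have hc0 : 0 < 1 + D.n * p := by omega
  have hmc : m / (1 + D.n * p) = D.e * k := by
    rw [hm', show D.e * (1 + D.n * p) * k = D.e * k * (1 + D.n * p) by ring, Nat.mul_div_cancel _ hc0]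
  have het := D.het
  have he2 := D.two_le_e
  have hep : D.e < p := by
    have := Nat.le_mul_of_pos_right D.e D.one_le_t
    omega
  simp only [trips, List.mem_flatMap, List.mem_filter, List.mem_map, List.mem_range, Bool.and_eq_true,
    decide_eq_true_eq]
  have hcm : 1 + D.n * p ∣ m := ⟨D.e * k, by rw [hm']; ring⟩
  refine ⟨1 + D.n * p, ⟨mem_divs fs (by rw [hfs]; norm_num) _ ?_, ⟨?_, ?_⟩, ?_⟩, D.e, ⟨hep, ⟨he2, ?_⟩, ?_⟩, ?_⟩
  · rw [hfs, hm]
    exact hcm.mul_left p
  · rw [Nat.add_mul_mod_self_right, Nat.mod_eq_of_lt hp.one_lt]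
  · have := Nat.mul_pos D.n_pos hp.pos
    omega
  · rw [hnp]; exact Nat.mod_eq_zero_of_dvd hcm
  · exact Nat.mod_eq_zero_of_dvd ⟨D.t, by omega⟩
  · rw [hnp, hmc, Nat.mul_mod_right]
  · rw [hnp, hmc, Nat.mul_div_cancel_left _ (by omega)]

/-- An involution of `C(P)`: congruence for a character constant on the section. -/
theorem dvd_sub_of_section (T : Ctx G p k) (hp2 : p ≠ 2) {z : G} (hz : orderOf z = 2)
    (hzC : z ∈ Subgroup.centralizer ((T.P : Subgroup G) : Set G)) {χ : IrrCharacter G} {s : ℤ}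
    (hs : ∀ v ∈ (T.P : Subgroup G), v ≠ 1 → ∀ y ∈ Subgroup.centralizer ((T.P : Subgroup G) : Set G),
      ¬ p ∣ orderOf y → (χ : G → ℂ) (v * y) = s) :
    (p : ℤ) ∣ iv χ z - s := by
  have hp : p.Prime := Fact.out
  have hφ := Char.isCharacter_of_isIrr χ.2
  have hzz := mul_self_of_order_two hz
  have hzr : ¬ p ∣ orderOf z := by
    rw [hz]
    exact fun h => hp2 ((Nat.prime_dvd_prime_iff_eq hp Nat.prime_two).mp h)
  obtain ⟨K, hK⟩ := M12Order.exists_nat_sum_subgroup hφ (T.P : Subgroup G)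
  rw [T.card_P] at hK
  obtain ⟨a, ha, -⟩ := exists_fixed_trace_sum hφ (T.P : Subgroup G) T.card_P hzz
    (Subgroup.centralizer_le_normalizer _ hzC) hK
  rw [← Finset.add_sum_erase _ _ (Finset.mem_univ (1 : (T.P : Subgroup G))),
    Finset.sum_congr rfl (g := fun _ => (s : ℂ)) (fun (w : (T.P : Subgroup G)) hw =>
      hs w w.2 (fun e => Finset.ne_of_mem_erase hw (Subtype.ext e)) z hzC hzr),
    Finset.sum_const, Finset.card_erase_of_mem (Finset.mem_univ _), Finset.card_univ,
    ← Nat.card_eq_fintype_card, T.card_P, Subgroup.coe_one, one_mul, iv_spec χ hzz, nsmul_eq_mul,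
    Nat.cast_sub hp.one_le, Nat.cast_one] at ha
  have h : ((iv χ z + ((p : ℤ) - 1) * s : ℤ) : ℂ) = (((p : ℤ) * a : ℤ) : ℂ) := by
    push_cast
    exact ha
  exact ⟨a - s, by linear_combination Int.cast_injective (α := ℂ) h⟩

/-- Every degree is `0` or the residue of a member of the principal block, if `C(P) = P`. -/
theorem degree_residue (T : Ctx G p 1) (χ : IrrCharacter G) :
    p ∣ deg χ ∨ ∃ s : ℤ, (s = 1 ∨ s = -1) ∧
      ((deg χ : ℤ) ≡ s [ZMOD p] ∨ (deg χ : ℤ) ≡ s * T.D.e [ZMOD p]) := by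
  by_cases hX : χ ∈ T.D.X
  · exact Or.inr ⟨_, T.D.hδ χ hX, Or.inl (T.D.degX χ hX)⟩
  by_cases hY : χ ∈ T.D.Y
  · exact Or.inr ⟨_, T.D.hε, Or.inr (T.D.degY χ hY)⟩
  refine Or.inl (dvd_degree_of_vanish (T.P : Subgroup G) T.card_P fun v hv hv1 => T.D.out ?_ χ hX hY v hv hv1)
  refine (Subgroup.eq_of_le_of_card_ge ?_ ?_).symm
  · haveI : IsCyclic (T.P : Subgroup G) := isCyclic_of_prime_card T.card_P
    exact fun a ha => Subgroup.mem_centralizer_iff.mpr fun c hc =>
      congrArg Subtype.val ((IsCyclic.commGroup (α := (T.P : Subgroup G))).mul_comm ⟨c, hc⟩ ⟨a, ha⟩)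
  · rw [T.card_C, T.card_P, mul_one]

/-- All elements of order `p` have centralisers of order `p k`. -/
theorem cC_of_ctx (T : Ctx G p k) {w : G} (hw : orderOf w = p) : cC w = p * k := by
  obtain ⟨v, hv, hv1⟩ := M12Order.exists_ne_one_P T
  have hvo := orderOf_of_mem T.card_P hv hv1
  have hzp := zpowers_of_mem T.card_P hv hv1
  have hcv : cC v = p * k := by
    rw [cC, ← T.card_C]
    congr 2
    ext c
    rw [Subgroup.mem_centralizer_singleton_iff]
    refine ⟨fun h => Subgroup.mem_centralizer_iff.mpr fun x hx => ?_,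
      fun h => (Subgroup.mem_centralizer_iff.mp h v hv).symm⟩
    rw [← hzp] at hx
    obtain ⟨i, rfl⟩ := Subgroup.mem_zpowers_iff.mp hx
    exact ((show Commute c v from h).zpow_right i).symm.eq
  obtain ⟨S, hS⟩ : ∃ S : Sylow p G, (S : Subgroup G) = Subgroup.zpowers w := by
    have h : IsPGroup p (Subgroup.zpowers w) := IsPGroup.of_card (n := 1) (by rw [Nat.card_zpowers, hw, pow_one])
    obtain ⟨S, hS⟩ := h.exists_le_sylow
    refine ⟨S, (Subgroup.eq_of_le_of_card_ge hS ?_).symm⟩
    obtain ⟨n, hn⟩ := S.isPGroup'.exists_card_eq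
    rw [Nat.card_zpowers, hw, hn]
    rcases Nat.lt_or_ge n 2 with h | h
    · exact le_trans (Nat.pow_le_pow_right (Fact.out : p.Prime).pos (Nat.le_of_lt_succ h)) (by rw [pow_one])
    · exact absurd ((pow_dvd_pow p h).trans (hn ▸ Subgroup.card_subgroup_dvd_card _))
        (by rw [pow_two, T.card_eq]; exact T.sq)
  obtain ⟨a, ha⟩ := MulAction.exists_smul_eq G T.P S
  have hmem : a * v * a⁻¹ ∈ Subgroup.zpowers w := by
    rw [← hS, ← ha, Sylow.smul_def]
    exact Subgroup.mem_map_of_mem _ hv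
  have hzp' : Subgroup.zpowers (a * v * a⁻¹) = Subgroup.zpowers w := by
    refine Subgroup.eq_of_le_of_card_ge (Subgroup.zpowers_le.mpr hmem) ?_
    rw [Nat.card_zpowers, Nat.card_zpowers, hw,
      show orderOf (a * v * a⁻¹) = orderOf v from (MulAut.conj a).orderOf_eq v, hvo]
  rw [← hcv, ← cC_conj a v, cC, cC]
  have key : ∀ x y : G, Subgroup.zpowers x = Subgroup.zpowers y →
      Subgroup.centralizer ({x} : Set G) ≤ Subgroup.centralizer ({y} : Set G) := fun x y h c hc => by
    rw [Subgroup.mem_centralizer_singleton_iff] at hc ⊢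
    obtain ⟨i, rfl⟩ := Subgroup.mem_zpowers_iff.mp (h ▸ Subgroup.mem_zpowers y)
    exact (show Commute c x from hc).zpow_right i
  rw [le_antisymm (key _ _ hzp'.symm) (key _ _ hzp')]

/-- A prime dividing `|C(P) : P|` with a known centraliser: its order is a multiple of `p`. -/
theorem dvd_of_dvd_k (T : Ctx G p k) {r : ℕ} [Fact r.Prime] {j : ℕ} (R : Ctx G r j) (h : r ∣ k) :
    p ∣ r * j := by
  obtain ⟨w, hw, hd⟩ := exists_commuting T h
  rwa [cC_of_ctx R hw] at hd

end CfsgLib.M23Order
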