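import Cfsg.Agent.Lib.M23Order.CharDefs

/-!
# Simple groups of order 10200960: the block computations for the primes 7 and 11
-/

set_option autoImplicit false
set_option maxHeartbeats 2000000

namespace CfsgLib.M23Order

open CfsgLib CfsgLib.BrauerTuan CfsgLib.OrderBlocks

/-- The factors of the order. -/
def fs : List ℕ := [128, 9, 5, 7, 11, 23]

/-- The residue filter on signed degrees. -/
def kp23 (x : ℤ) : Bool := g23 x.natAbs

/-- The signed degrees for a triple. -/
def tabX (kp : ℤ → Bool) (p : ℕ) (r : ℕ × ℕ × ℕ) : List ℤ :=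
  (xList 10200960 p r.2.2 (r.2.1 * r.1) [5, 7, 11, 23] 3193).filter kp

/-- The exceptional signed degrees for a triple. -/
def tabY (kp : ℤ → Bool) (p : ℕ) (r : ℕ × ℕ × ℕ) : List ℤ :=
  if r.2.1 + 1 = p then [] else (yList 10200960 p r.2.2 (r.2.1 * r.1) r.2.1 [5, 7, 11, 23] 3193).filter kp

/-- The block candidates for a triple. -/
def cands (kp : ℤ → Bool) (p : ℕ) (r : ℕ × ℕ × ℕ) : List Opt :=
  optsFrom p r.2.2 r.2.1 (tabX kp p r) (tabY kp p r)

/-- The candidates for the `7`-block with `11` dividing `|C(P) : P|`. -/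
def opts7 : List Opt := [⟨7, 660, 3, [-69, 92], some 24⟩, ⟨7, 44, 3, [-69, 92], some 24⟩]

/-- The candidates for the `11`-block with `e = 2`. -/
def opts11b : List Opt := [⟨11, 30, 2, [23], some 24⟩, ⟨11, 8, 2, [23], some 24⟩, ⟨11, 8, 2, [45], some 46⟩]

/-- The candidates for the `11`-block with `|C(P) : P| = 12`. -/
def opts11c : List Opt :=
  [⟨11, 12, 5, [23, 23, 23, -230], some (-160)⟩,
   ⟨11, 12, 5, [23, 23, 276, -483], some (-160)⟩,
   ⟨11, 12, 5, [23, -230, -230, 276], some (-160)⟩,
   ⟨11, 12, 5, [23, 276, 276, -736], some (-160)⟩,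
   ⟨11, 12, 5, [23, -736, -736, 1288], some (-160)⟩,
   ⟨11, 12, 5, [23, 1288, 1288, -2760], some (-160)⟩,
   ⟨11, 12, 5, [-230, 276, 276, -483], some (-160)⟩,
   ⟨11, 12, 5, [-230, -483, -736, 1288], some (-160)⟩,
   ⟨11, 12, 5, [-483, -483, -483, 1288], some (-160)⟩]

theorem key_trips7 : ((trips 10200960 7 fs).filter fun r => decide (r.2.2 % 11 = 0) && decide (r.2.2 % 23 ≠ 0)).all
    (fun r => (cands kp23 7 r).all fun o => opts7.contains o) = true := by decide +kernel

theorem key_trips11 : ((trips 10200960 11 fs).filter fun r => decide (r.2.2 % 23 ≠ 0) && decide (r.2.2 % 7 ≠ 0)).all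
    (fun r => (decide (r.2.2 = 1) && decide (r.2.1 = 5)) ||
      (cands kp23 11 r).all fun o => opts11b.contains o || opts11c.contains o) = true := by decide +kernel

theorem key_k1 : ((trips 10200960 11 fs).filter fun r => decide (r.2.2 = 1)).all
    (fun r => decide (r.2.1 = 5)) = true := by decide +kernel

/-- The conditions on the value at an involution `z` of `C(P)`. -/
def okV (p : ℕ) (x A : ℤ) : Bool :=
  decide ((A - sgn x) % (p : ℤ) = 0) && decide (((x.natAbs : ℤ) - A) % 4 = 0) &&
    decide (-(x.natAbs : ℤ) < A) && decide (A < (x.natAbs : ℤ))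

/-- The same, for an involution centralised by an element of order `5`. -/
def okV5 (x A : ℤ) : Bool := okV 11 x A && (decide (x.natAbs % 5 ≠ 0) || decide (A % 5 = 0))

/-- The integers of absolute value less than `d`. -/
def below (d : ℕ) : List ℤ := (List.range (2 * d)).map fun i : ℕ => (i : ℤ) - (d : ℤ)

/-- No values at an involution fit the `7`-block. -/
def free7 (o : Opt) : Bool :=
  match o.xs with
  | [x₁, x₂] => ((below x₁.natAbs).filter (okV 7 x₁)).all fun A₁ => ((below x₂.natAbs).filter (okV 7 x₂)).all fun A₂ =>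
      decide ((tFrac o [A₁, A₂] (yVal o [A₁, A₂])).1 ≠ 0)
  | _ => false

/-- No values at an involution centralised by an element of order `5` fit the `11`-block. -/
def free11 (o : Opt) : Bool :=
  match o.xs with
  | [x₁, x₂, x₃, x₄] =>
    ((below x₁.natAbs).filter (okV5 x₁)).all fun A₁ => ((below x₂.natAbs).filter (okV5 x₂)).all fun A₂ =>
      ((below x₃.natAbs).filter (okV5 x₃)).all fun A₃ =>
        let A₄ := sgn x₄ * (59 - sgn x₁ * A₁ - sgn x₂ * A₂ - sgn x₃ * A₃)
        !okV5 x₄ A₄ || decide ((tFrac o [A₁, A₂, A₃, A₄] (-60)).1 ≠ 0)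
  | _ => false

theorem key_free7 : opts7.all free7 = true := by decide +kernel

theorem key_free11 : opts11c.all free11 = true := by decide +kernel

theorem key_big : ((divs [128, 7, 11, 23]).filter fun c =>
    decide (76324864 % (c * c) = 0) && decide (54208 ≤ c * c)).all
    (fun c => decide (c = 352) || decide (c = 704)) = true := by decide +kernel

end CfsgLib.M23Order
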