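import Cfsg.Agent.Lib.M23Order.CharTwentyThree
import Cfsg.Agent.Lib.M23Order.CharKeys11

/-!
# Simple groups of order 10200960: the Sylow 11-subgroups are self-centralising
-/

set_option autoImplicit false
set_option linter.unusedSectionVars false
set_option linter.style.haveILetI false
set_option maxHeartbeats 2000000

namespace CfsgLib.M23Order

open Cfsg
open scoped ComplexConjugate CfsgLib.Char
open CfsgLib CfsgLib.BrauerTuan CfsgLib.OrderBlocks
open scoped _root_.Classical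

universe u

variable {G : Type u} [Group G] [Fintype G] [IsSimpleGroup G] {p : ℕ} [Fact p.Prime]

theorem mem_below {d : ℕ} {A : ℤ} (h : A.natAbs < d) : A ∈ below d := by
  simp only [below, List.mem_map, List.mem_range]
  exact ⟨(A + d).toNat, by omega, by omega⟩

/-- The conditions at an involution of `C(P)` for a member of the block. -/
theorem okV_of {o : Opt} (B : Blk G p o) (hp2 : p ≠ 2) {z : G} (hz : orderOf z = 2)
    (hzC : z ∈ Subgroup.centralizer ((B.T.P : Subgroup G) : Set G)) {χ : IrrCharacter G} (hχ : χ ∈ B.xl) :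
    okV p (B.σ χ * (deg χ : ℤ)) (iv χ z) = true ∧ iv χ z ∈ below (deg χ) := by
  obtain ⟨-, h4, -, hlt⟩ := iv_facts B.T.card_eq B.T.noncomm (B.ne_triv (List.mem_append_left _ hχ)) hz
  have hc := B.dvd_sub hp2 hz hzC hχ
  obtain ⟨hs, hd⟩ := B.sgn_eq hχ
  refine ⟨?_, mem_below hlt⟩
  simp only [okV, hs, hd, Bool.and_eq_true, decide_eq_true_eq]
  exact ⟨⟨⟨Int.emod_eq_zero_of_dvd hc, h4⟩, by omega⟩, by omega⟩

/-- An involution of `C(P)`. -/
theorem exists_invol_cent {k : ℕ} (T : Ctx G p k) (hk : 2 ∣ k) :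
    ∃ z : G, orderOf z = 2 ∧ z ∈ Subgroup.centralizer ((T.P : Subgroup G) : Set G) := by
  haveI : Fact (Nat.Prime 2) := ⟨Nat.prime_two⟩
  obtain ⟨z, hz⟩ := exists_prime_orderOf_dvd_card' (G := Subgroup.centralizer ((T.P : Subgroup G) : Set G)) 2
    (by rw [T.card_C]; exact hk.mul_left p)
  exact ⟨z, by rw [Subgroup.orderOf_coe]; exact hz, z.2⟩

theorem false_of_opts7 [Fact (Nat.Prime 7)] {o : Opt} (ho : o ∈ opts7) (B : Blk G 7 o) : False := by
  have hfree := List.all_eq_true.mp key_free7 o ho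
  have hk : 2 ∣ o.k ∧ ¬ 2 ∣ o.e ∧ ∃ x₁ x₂ y, o.xs = [x₁, x₂] ∧ o.y = some y := by
    simp only [opts7, List.mem_cons, List.not_mem_nil, or_false] at ho
    rcases ho with rfl | rfl <;> exact ⟨by norm_num, by norm_num, _, _, _, rfl, rfl⟩
  obtain ⟨hk, he, x₁, x₂, y, hxs, hy⟩ := hk
  obtain ⟨z, hz, hzC⟩ := exists_invol_cent B.T hk
  have hzz := mul_self_of_order_two hz
  have hmap := B.xs_eq.symm.trans hxs
  obtain ⟨a, l, hl, ha, hl'⟩ := List.map_eq_cons_iff.mp hmap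
  obtain ⟨b, l₂, hl₂, hb, hl₂'⟩ := List.map_eq_cons_iff.mp hl'
  rw [List.map_eq_nil_iff] at hl₂'
  subst hl₂' hl₂
  obtain ⟨hr0, hr1⟩ := B.rel_iv (g := z) (by rw [hz]; norm_num) fun χ _ => iv_spec χ hzz
  have h0 := B.tFrac_eq_zero_of_odd (by norm_num) he hzz (fun χ => iv χ z) (yVal o (B.xl.map (iv · z)))
    (fun χ _ => iv_spec χ hzz) (fun ψ hψ => by rw [iv_spec ψ hzz, hr1 y hy ψ hψ])
  obtain ⟨oa, ma⟩ := okV_of B (by norm_num) hz hzC (show a ∈ B.xl by rw [hl]; simp)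
  obtain ⟨ob, mb⟩ := okV_of B (by norm_num) hz hzC (show b ∈ B.xl by rw [hl]; simp)
  rw [ha] at oa
  rw [hb] at ob
  rw [show deg a = x₁.natAbs by rw [← ha]; exact (B.sgn_eq (by rw [hl]; simp)).2.symm] at ma
  rw [show deg b = x₂.natAbs by rw [← hb]; exact (B.sgn_eq (by rw [hl]; simp)).2.symm] at mb
  simp only [free7, hxs, List.all_eq_true, List.mem_filter, decide_eq_true_eq] at hfree
  rw [hl] at h0
  exact hfree _ ⟨ma, oa⟩ _ ⟨mb, ob⟩ h0

theorem false_of_opts11b [Fact (Nat.Prime 11)] {o : Opt} (ho : o ∈ opts11b) (B : Blk G 11 o) : False := by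
  simp only [opts11b, List.mem_cons, List.not_mem_nil, or_false] at ho
  obtain ⟨d, y, hxs, hy, hk, hcases⟩ : ∃ (d : ℕ) (y : ℤ), o.xs = [(d : ℤ)] ∧ o.y = some y ∧ 2 ∣ o.k ∧
      ((d = 23 ∧ y = 24) ∨ (d = 45 ∧ y = 46 ∧ o.k = 8 ∧ o.e = 2)) := by
    rcases ho with rfl | rfl | rfl
    · exact ⟨23, 24, rfl, rfl, by norm_num, Or.inl ⟨rfl, rfl⟩⟩
    · exact ⟨23, 24, rfl, rfl, by norm_num, Or.inl ⟨rfl, rfl⟩⟩
    · exact ⟨45, 46, rfl, rfl, by norm_num, Or.inr ⟨rfl, rfl, rfl, rfl⟩⟩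
  obtain ⟨z, hz, hzC⟩ := exists_invol_cent B.T hk
  have hzz := mul_self_of_order_two hz
  obtain ⟨a, l, hl, ha, hl'⟩ := List.map_eq_cons_iff.mp (B.xs_eq.symm.trans hxs)
  rw [List.map_eq_nil_iff] at hl'
  subst hl'
  have hax : a ∈ B.xl := by rw [hl]; simp
  have hσ : B.σ a = 1 ∧ deg a = d := by
    have h1 := B.σ_unit hax
    have h2 := deg_pos a
    rcases h1 with e | e <;> rw [e] at ha
    · exact ⟨e, by omega⟩
    · omega
  obtain ⟨-, h4, hdvd, hlt⟩ := iv_facts B.T.card_eq B.T.noncomm (B.ne_triv (List.mem_append_left _ hax)) hz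
  have hcong := B.dvd_sub (by norm_num) hz hzC hax
  rw [hσ.1] at hcong
  rw [hσ.2] at h4 hdvd hlt
  obtain ⟨A, hA⟩ : ∃ A, A = iv a z := ⟨_, rfl⟩
  rw [← hA] at h4 hdvd hlt hcong
  obtain ⟨hr0, hr1⟩ := B.rel_iv (g := z) (by rw [hz]; norm_num) fun χ _ => iv_spec χ hzz
  obtain ⟨v, hv, hv1⟩ := M12Order.exists_ne_one_P B.T
  have hY : ∀ ψ ∈ B.yl, (ψ : G → ℂ) z = ((1 + A : ℤ) : ℂ) := fun ψ hψ => by
    rw [iv_spec ψ hzz, hr1 y hy ψ hψ]
    simp only [yVal, hy, hxs, hl, List.map_cons, List.map_nil, sigSum, ← hA]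
    rcases hcases with ⟨rfl, rfl⟩ | ⟨rfl, rfl, -⟩ <;> norm_num [sgn, add_comm]
  -- no pairs when the value exceeds the bound
  have hbig : (A = -21 ∨ A = -43) → False := fun hA' => by
    have h0 := B.tFrac_eq_zero hzz hv hv1 (fun u hu huv => ?_) (fun χ => iv χ z) (1 + A)
      (fun χ _ => iv_spec χ hzz) hY
    · simp only [hl, List.map_cons, List.map_nil, tFrac, hy, hxs, fracSum, ← hA] at h0
      rcases hcases with ⟨rfl, rfl⟩ | ⟨rfl, rfl, -⟩ <;> rcases hA' with e | e <;> rw [e] at h0 <;>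
        norm_num at h0
    · have hiv : iv a u = A := by
        rw [hA]
        obtain ⟨c, rfl⟩ := isConj_iff.mp hu
        exact iv_eq ((Char.isClassFunction_of_isCharacter (Char.isCharacter_of_isIrr a.2) z c).trans
          (iv_spec a hzz))
      have huu : u * u = 1 := by
        obtain ⟨c, rfl⟩ := isConj_iff.mp hu
        calc c * z * c⁻¹ * (c * z * c⁻¹) = c * (z * z) * c⁻¹ := by group
          _ = 1 := by rw [hzz]; group
      have hb := B.inverting_bound (by norm_num) huu hv hv1 huv hax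
      rw [hiv, hσ.1, hσ.2] at hb
      rcases hcases with ⟨rfl, rfl⟩ | ⟨rfl, rfl, -⟩ <;> rcases hA' with rfl | rfl <;>
        first | omega | (rw [abs_of_neg (by norm_num)] at hb; omega)
  rcases hcases with ⟨rfl, rfl⟩ | ⟨rfl, rfl, hk8, he2⟩
  · exact hbig (Or.inl (by omega))
  have hA1 : A = -43 ∨ A = 1 := by omega
  rcases hA1 with e | e
  · exact hbig (Or.inr e)
  subst e
  -- the centraliser is too large
  obtain ⟨c, hc⟩ : ∃ c, c = cC z := ⟨_, rfl⟩
  have hPH : (B.T.P : Subgroup G) ≤ Subgroup.centralizer ({z} : Set G) := fun w hw =>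
    Subgroup.mem_centralizer_singleton_iff.mpr (Subgroup.mem_centralizer_iff.mp hzC w hw)
  have hN : Nat.card (Subgroup.normalizer ((B.T.P : Subgroup G) : Set G)) = 176 :=
    (card_normalizer B.T).trans (by rw [B.e_eq, he2, hk8])
  have hcount := B.count_sections hv hv1 (fun χ => iv χ z) (1 + 1) (fun χ _ => iv_spec χ hzz) hY
  obtain ⟨S, hS⟩ : ∃ S, S = ∑ y ∈ regs B.T.P,
      Nat.card {pr : G × G // IsConj z pr.1 ∧ IsConj z pr.2 ∧ pr.1 * pr.2 = v * y} := ⟨_, rfl⟩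
  rw [← hS] at hcount
  simp only [hl, List.map_cons, List.map_nil, tFrac, hy, hxs, fracSum, ← hA, hk8] at hcount
  have hSle : S ≤ 1408 := by
    rw [hS]
    refine le_trans (Finset.sum_le_card_nsmul _ _ 176 fun y hy' => ?_) ?_
    · obtain ⟨hyC, hyr⟩ := mem_regs.mp hy'
      rw [← hN]
      refine Nat.card_le_card_of_injective (fun pr => ⟨pr.1.1, ?_⟩) ?_
      · obtain ⟨⟨u, u'⟩, h1, h2, h3⟩ := pr
        obtain ⟨huu, huv⟩ := inverts_of_pair hzz h1 h2 h3 (Subgroup.mem_centralizer_iff.mp hyC v hv)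
          (orderOf_of_mem B.T.card_P hv hv1) hyr
        exact (mem_normalizer_of_inverts B.T.card_P hv hv1 huu huv).1
      · rintro ⟨⟨u, u'⟩, h1, h2, h3⟩ ⟨⟨w, w'⟩, g1, g2, g3⟩ he'
        obtain rfl : u = w := congrArg Subtype.val he'
        simp only [Subtype.mk.injEq, Prod.mk.injEq, true_and]
        exact mul_left_cancel (h3.trans g3.symm)
    · have hr : (regs B.T.P).card = 8 := Nat.eq_of_mul_eq_mul_left (show 0 < 11 by norm_num)
        ((card_regs B.T.P B.T.card_P).trans (B.T.card_C.trans (by rw [hk8])))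
      rw [hr]; norm_num
  have hSc : 76324864 = S * (c * c) := by
    rw [← hc] at hcount
    norm_num at hcount
    have h' : ((76324864 : ℕ) : ℤ) = ((S * (c * c) : ℕ) : ℤ) := by push_cast; linarith
    exact_mod_cast h'
  have hc45 : c ∣ (([128, 7, 11, 23] : List ℕ)).prod := by
    rw [← hc] at hdvd
    obtain ⟨j, hj⟩ : c ∣ 10200960 := hc ▸ cC_dvd B.T.card_eq z
    have hj' : 10200960 / c = j := by rw [hj, Nat.mul_div_cancel_left _ (hc ▸ cC_pos z)]
    rw [hj', mul_one] at hdvd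
    obtain ⟨i, rfl⟩ : 45 ∣ j := by omega
    exact ⟨i, by norm_num; linarith⟩
  have hbig' := List.all_eq_true.mp key_big c (List.mem_filter.mpr ⟨mem_divs _ (by norm_num) c hc45,
    by
      simp only [Bool.and_eq_true, decide_eq_true_eq]
      refine ⟨Nat.mod_eq_zero_of_dvd ⟨S, by rw [hSc]; ring⟩, ?_⟩
      have := Nat.mul_le_mul_right (c * c) hSle
      omega⟩)
  simp only [Bool.or_eq_true, decide_eq_true_eq] at hbig'
  -- the Sylow subgroup is normal in `C(z)`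
  obtain ⟨H, hH⟩ : ∃ H, H = Subgroup.centralizer ({z} : Set G) := ⟨_, rfl⟩
  rw [← hH] at hPH
  have hHc : Nat.card H = c := by rw [hH, hc]; rfl
  have hmod := card_sylow_modEq_one 11 H
  have hidx := Sylow.card_eq_index_normalizer (B.T.P.subtype hPH)
  have hdv : Nat.card (Sylow 11 H) ∣ c := hidx ▸ hHc ▸ Subgroup.index_dvd_card _
  have hone : Nat.card (Sylow 11 H) = 1 := by
    rw [Nat.ModEq] at hmod
    have hd704 : Nat.card (Sylow 11 H) ∣ 704 := hdv.trans (by rcases hbig' with e | e <;> rw [e] <;> norm_num)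
    have hmem := mem_divs [64, 11] (by norm_num) _ hd704
    have key : ((divs [64, 11]).filter fun d => decide (d % 11 = 1)) = [1] := by decide +kernel
    have hf := List.mem_filter (p := fun d => decide (d % 11 = 1)).mpr ⟨hmem, decide_eq_true (by omega)⟩
    rw [key] at hf
    simpa using hf
  rw [hone, eq_comm, Subgroup.index_eq_one] at hidx
  have hle : H ≤ Subgroup.normalizer ((B.T.P : Subgroup G) : Set G) := fun g hg => by
    have : (⟨g, hg⟩ : H) ∈ Subgroup.normalizer ((B.T.P.subtype hPH : Sylow 11 H) : Set H) := hidx ▸ Subgroup.mem_top _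
    rw [show ((B.T.P.subtype hPH : Sylow 11 H) : Set H) = (((B.T.P : Subgroup G).subgroupOf H : Subgroup H) : Set H)
      from rfl, ← Subgroup.subgroupOf_normalizer_eq hPH] at this
    exact this
  have := Nat.le_of_dvd (by rw [hN]; norm_num) (Subgroup.card_dvd_of_le hle)
  rw [hHc, hN] at this
  rcases hbig' with e | e <;> omega

theorem false_of_opts11c [Fact (Nat.Prime 11)] {o : Opt} (ho : o ∈ opts11c) (B : Blk G 11 o) : False := by
  have hfree := List.all_eq_true.mp key_free11 o ho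
  obtain ⟨hk, he, x₁, x₂, x₃, x₄, hxs, hy⟩ : o.k = 12 ∧ o.e = 5 ∧
      ∃ x₁ x₂ x₃ x₄, o.xs = [x₁, x₂, x₃, x₄] ∧ o.y = some (-160) := by
    simp only [opts11c, List.mem_cons, List.not_mem_nil, or_false] at ho
    rcases ho with rfl | rfl | rfl | rfl | rfl | rfl | rfl | rfl | rfl <;>
      exact ⟨rfl, rfl, _, _, _, _, rfl, rfl⟩
  haveI : Fact (Nat.Prime 5) := ⟨Nat.prime_five⟩
  obtain ⟨z, hz, hzC, h5, -⟩ := exists_fixed_involution B.T (r := 5) (by rw [B.e_eq, he])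
    (by rw [hk]; norm_num) (by norm_num) fun a ha => by
      rw [hk] at ha
      have h8 : ¬ 3 ≤ a := fun h => absurd ((Nat.pow_dvd_pow 2 h).trans ha) (by norm_num)
      interval_cases a <;> norm_num
  have hzz := mul_self_of_order_two hz
  have hm5 := not_dvd_quot Nat.prime_five (by norm_num) h5 (cC_dvd B.T.card_eq z)
  have h5A : ∀ χ ∈ B.xl ++ B.yl, deg χ % 5 = 0 → (5 : ℤ) ∣ iv χ z := fun χ hχ hd => by
    obtain ⟨-, -, h, -⟩ := iv_facts B.T.card_eq B.T.noncomm (B.ne_triv hχ) hz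
    have h' : (5 : ℤ) ∣ ((10200960 / cC z : ℕ) : ℤ) * iv χ z :=
      (Int.natCast_dvd_natCast.mpr (Nat.dvd_of_mod_eq_zero hd)).trans (Int.dvd_of_emod_eq_zero h)
    refine ((show Prime (5 : ℤ) by norm_num).dvd_or_dvd h').resolve_left fun h'' => hm5 ?_
    exact Int.natCast_dvd_natCast.mp h''
  obtain ⟨a, l₁, hl₁, ha, hm₁⟩ := List.map_eq_cons_iff.mp (B.xs_eq.symm.trans hxs)
  obtain ⟨b, l₂, hl₂, hb, hm₂⟩ := List.map_eq_cons_iff.mp hm₁
  obtain ⟨c, l₃, hl₃, hc, hm₃⟩ := List.map_eq_cons_iff.mp hm₂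
  obtain ⟨d, l₄, hl₄, hd, hm₄⟩ := List.map_eq_cons_iff.mp hm₃
  rw [List.map_eq_nil_iff] at hm₄
  subst hm₄ hl₄ hl₃ hl₂
  have hok : ∀ χ ∈ B.xl, okV5 (B.σ χ * (deg χ : ℤ)) (iv χ z) = true ∧
      iv χ z ∈ below (B.σ χ * (deg χ : ℤ)).natAbs ∧ (11 : ℤ) ∣ B.σ χ * iv χ z - 1 := by
    intro χ hχ
    obtain ⟨h1, h2⟩ := okV_of B (by norm_num) hz hzC hχ
    obtain ⟨hs, hd'⟩ := B.sgn_eq hχ
    refine ⟨?_, by rw [hd']; exact h2, ?_⟩
    · simp only [okV5, h1, hd', Bool.true_and, Bool.or_eq_true, decide_eq_true_eq]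
      by_cases h : deg χ % 5 = 0
      · exact Or.inr (Int.emod_eq_zero_of_dvd (h5A χ (List.mem_append_left _ hχ) h))
      · exact Or.inl h
    · have h := B.dvd_sub (by norm_num) hz hzC hχ
      rcases B.σ_unit hχ with e | e <;> rw [e] at h ⊢
      · simpa using h
      · obtain ⟨j, hj⟩ := h
        exact ⟨-j, by push_cast at hj; linarith⟩
  obtain ⟨oa, ma, ca⟩ := hok a (by rw [hl₁]; simp)
  obtain ⟨ob, mb, cb⟩ := hok b (by rw [hl₁]; simp)
  obtain ⟨oc, mc, cc⟩ := hok c (by rw [hl₁]; simp)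
  obtain ⟨od, md, cd⟩ := hok d (by rw [hl₁]; simp)
  rw [ha] at oa ma
  rw [hb] at ob mb
  rw [hc] at oc mc
  rw [hd] at od md
  obtain ⟨hr0, hr1⟩ := B.rel_iv (g := z) (by rw [hz]; norm_num) fun χ _ => iv_spec χ hzz
  obtain ⟨hlen, hdeg, -⟩ := B.yl_some _ hy
  obtain ⟨ψ, hψ⟩ := List.exists_mem_of_length_pos (l := B.yl) (hlen ▸ B.t_pos)
  obtain ⟨s, hs⟩ : ∃ s, s = sigSum o.xs (B.xl.map (iv · z)) := ⟨_, rfl⟩
  have hψv : iv ψ z = -s := by
    rw [hr1 _ hy ψ hψ, hs]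
    simp [yVal, hy, sgn]
  have hs' : s = 1 + B.σ a * iv a z + B.σ b * iv b z + B.σ c * iv c z + B.σ d * iv d z := by
    have mem : ∀ χ, χ ∈ [a, b, c, d] → χ ∈ B.xl := fun χ h => hl₁ ▸ h
    rw [hs, hxs, ← ha, ← hb, ← hc, ← hd, hl₁]
    simp only [List.map_cons, List.map_nil, sigSum, (B.sgn_eq (mem a (by simp))).1,
      (B.sgn_eq (mem b (by simp))).1, (B.sgn_eq (mem c (by simp))).1, (B.sgn_eq (mem d (by simp))).1]
    ring
  obtain ⟨-, h4, -, hlt⟩ := iv_facts B.T.card_eq B.T.noncomm (B.ne_triv (List.mem_append_right _ hψ)) hz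
  have h5ψ := h5A ψ (List.mem_append_right _ hψ) (by rw [hdeg ψ hψ]; rfl)
  rw [hdeg ψ hψ, hψv, show (-160 : ℤ).natAbs = 160 from rfl] at h4 hlt
  rw [hψv] at h5ψ
  have h11 : (11 : ℤ) ∣ s - 5 := by
    rw [hs']
    omega
  have hs60 : s = 60 := by omega
  have h0 := B.tFrac_eq_zero_of_odd (by norm_num) (by rw [he]; norm_num) hzz (fun χ => iv χ z) (-60)
    (fun χ _ => iv_spec χ hzz) (fun ξ hξ => by
      rw [iv_spec ξ hzz, hr1 _ hy ξ hξ]
      simp [yVal, hy, sgn, ← hs, hs60])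
  simp only [free11, hxs, List.all_eq_true, List.mem_filter, Bool.or_eq_true, Bool.not_eq_true',
    decide_eq_true_eq] at hfree
  have mem : ∀ χ, χ ∈ [a, b, c, d] → χ ∈ B.xl := fun χ h => hl₁ ▸ h
  have hA4 : sgn x₄ * (59 - sgn x₁ * iv a z - sgn x₂ * iv b z - sgn x₃ * iv c z) = iv d z := by
    rw [← ha, ← hb, ← hc, ← hd, (B.sgn_eq (mem a (by simp))).1, (B.sgn_eq (mem b (by simp))).1,
      (B.sgn_eq (mem c (by simp))).1, (B.sgn_eq (mem d (by simp))).1]
    rcases B.σ_unit (mem d (by simp)) with e | e <;> rw [e] at hs' ⊢ <;> linarith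
  have hf := hfree _ ⟨ma, oa⟩ _ ⟨mb, ob⟩ _ ⟨mc, oc⟩
  rw [hA4, od] at hf
  rw [hl₁] at h0
  exact (hf.resolve_left (by simp)) h0

/-- **The Sylow `11`-subgroup is self-centralising, with normaliser of order `55`.** -/
theorem exists_eleven [Fact (Nat.Prime 23)] [Fact (Nat.Prime 11)] (hn : Nat.card G = 10200960)
    (T23 : Ctx G 23 1) (he23 : T23.D.e = 11) : ∃ T : Ctx G 11 1, T.D.e = 5 := by
  obtain ⟨k, T, h⟩ := exists_ctx (p := 11) hn fs rfl (by norm_num) (by norm_num)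
  have hkp : ∀ {q j : ℕ} [Fact q.Prime] (R : Ctx G q j), ∀ χ ∈ R.D.X ∪ R.D.Y, χ ≠ Blocks.trivIrr G →
      ∀ s : ℤ, (s = 1 ∨ s = -1) → kp23 (s * (deg χ : ℤ)) = true := fun R χ _ _ s hs => by
    rcases hs with rfl | rfl <;> simp [kp23, g23_deg T23 he23 χ]
  by_cases hk1 : k = 1
  · subst hk1
    exact ⟨T, of_decide_eq_true (List.all_eq_true.mp key_k1 _ (List.mem_filter.mpr ⟨h, by simp⟩))⟩
  exfalso
  have h23 : ∀ {q j : ℕ} [Fact q.Prime], q ≠ 23 → Ctx G q j → j % 23 ≠ 0 := fun hq R hj => by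
    have h := dvd_of_dvd_k R T23 (Nat.dvd_of_mod_eq_zero hj)
    rw [mul_one, Nat.prime_dvd_prime_iff_eq Fact.out (by norm_num)] at h
    exact hq h
  have h7 : k % 7 ≠ 0 := fun hk => by
    haveI : Fact (Nat.Prime 7) := ⟨by norm_num⟩
    obtain ⟨k', T', h'⟩ := exists_ctx (p := 7) hn fs rfl (by norm_num) (by norm_num)
    have hd := (Nat.Prime.dvd_mul (by norm_num : Nat.Prime 11)).mp (dvd_of_dvd_k T T' (Nat.dvd_of_mod_eq_zero hk))
    have hk' : k' % 11 = 0 := Nat.mod_eq_zero_of_dvd (hd.resolve_left (by norm_num))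
    obtain ⟨xs, y, hmem, ⟨B⟩⟩ := exists_pblk T' rfl kp23 (hkp T')
      (X := tabX kp23 7 (1 + T'.D.n * 7, T'.D.e, k')) (Y := tabY kp23 7 (1 + T'.D.n * 7, T'.D.e, k')) rfl
      (fun he => by rw [tabY, if_neg he])
    have hall := List.all_eq_true.mp key_trips7 _ (List.mem_filter.mpr
      ⟨h', Bool.and_eq_true_iff.mpr ⟨decide_eq_true hk', decide_eq_true (h23 (by norm_num) T')⟩⟩)
    exact false_of_opts7 (List.contains_iff_mem.mp (List.all_eq_true.mp hall _ hmem)) B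
  obtain ⟨xs, y, hmem, ⟨B⟩⟩ := exists_pblk T rfl kp23 (hkp T)
    (X := tabX kp23 11 (1 + T.D.n * 11, T.D.e, k)) (Y := tabY kp23 11 (1 + T.D.n * 11, T.D.e, k)) rfl
    (fun he => by rw [tabY, if_neg he])
  have hall := List.all_eq_true.mp key_trips11 _ (List.mem_filter.mpr
    ⟨h, Bool.and_eq_true_iff.mpr ⟨decide_eq_true (h23 (by norm_num) T), decide_eq_true h7⟩⟩)
  simp only [hk1, decide_false, Bool.false_and, Bool.false_or] at hall
  have hm := List.all_eq_true.mp hall _ hmem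
  rw [Bool.or_eq_true, List.contains_iff_mem, List.contains_iff_mem] at hm
  rcases hm with hm | hm
  · exact false_of_opts11b hm B
  · exact false_of_opts11c hm B

/-- The residues of the degrees modulo `23` and `11`. -/
theorem g2_deg [Fact (Nat.Prime 23)] [Fact (Nat.Prime 11)] (T23 : Ctx G 23 1) (he23 : T23.D.e = 11)
    (T11 : Ctx G 11 1) (he : T11.D.e = 5) (χ : IrrCharacter G) : g2 (deg χ) = true := by
  simp only [g2, g23_deg T23 he23 χ, Bool.true_and, List.contains_iff_mem, List.mem_cons, List.not_mem_nil, or_false]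
  rcases degree_residue T11 χ with h | ⟨s, hs, h⟩
  · exact Or.inl (Nat.mod_eq_zero_of_dvd h)
  · rw [he] at h
    simp only [Int.ModEq] at h
    rcases hs with rfl | rfl <;> rcases h with h | h <;> push_cast at h <;> omega

end CfsgLib.M23Order
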