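import Cfsg.Prelude.Def_Characters
import Mathlib

/-!
# Simple groups of order 10200960: what the characters give to the local analysis
-/

set_option autoImplicit false

namespace CfsgLib.M23Order

open Cfsg

universe u

/-- Centralisers of elements of orders 2, 3, 5, 7 and the character of degree 22 in a simple
group of order 10200960. -/
structure Facts (G : Type u) [Group G] [Finite G] : Prop where
  card : Nat.card G = 10200960
  invol_conj : ∀ s t : G, orderOf s = 2 → orderOf t = 2 → IsConj s t
  card_invol : ∀ t : G, orderOf t = 2 → Nat.card (Subgroup.centralizer ({t} : Set G)) = 2688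
  card_three : ∀ x : G, orderOf x = 3 → Nat.card (Subgroup.centralizer ({x} : Set G)) = 180
  card_five : ∀ y : G, orderOf y = 5 → Nat.card (Subgroup.centralizer ({y} : Set G)) = 15
  card_seven : ∀ s : G, orderOf s = 7 → Nat.card (Subgroup.centralizer ({s} : Set G)) = 14
  exists_char : ∃ χ : IrrCharacter G, (χ : G → ℂ) 1 = 22 ∧ ∀ g : G,
    (orderOf g = 2 → (χ : G → ℂ) g = 6) ∧ (orderOf g = 3 → (χ : G → ℂ) g = 4) ∧
    (orderOf g = 4 → (χ : G → ℂ) g = 2) ∧ (orderOf g = 5 → (χ : G → ℂ) g = 2) ∧
    (orderOf g = 6 → (χ : G → ℂ) g = 0) ∧ (orderOf g = 8 → (χ : G → ℂ) g = 0)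

end CfsgLib.M23Order
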