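import Cfsg.Agent.Lib.M23Order.CharThree
import Cfsg.Agent.Lib.M23Order.Facts
import Cfsg.Agent.Lib.SmallOrder.PrimeDegree

/-!
# Simple groups of order 10200960: the facts for the local analysis
-/

set_option autoImplicit false
set_option linter.unusedSectionVars false
set_option linter.style.haveILetI false
set_option maxHeartbeats 2000000

namespace CfsgLib.M23Order

open Cfsg
open scoped ComplexConjugate CfsgLib.Char
open CfsgLib CfsgLib.BrauerTuan CfsgLib.OrderBlocks
open scoped _root_.Classical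

universe u

variable {G : Type u} [Group G] [Fintype G] [IsSimpleGroup G]

/-- The number of elements of order `p`, from the principal block. -/
theorem card_order_of_ctx {p k : ℕ} [Fact p.Prime] (C : Ctx G p k) :
    Nat.card {g : G // orderOf g = p} = (1 + C.D.n * p) * (p - 1) ∧
      10200960 = C.D.e * (1 + C.D.n * p) * (p * k) ∧ C.D.e * C.D.t + 1 = p ∧ 2 ≤ C.D.e := by
  refine ⟨?_, ?_, C.D.het, C.D.two_le_e⟩
  · rw [SmallOrder.card_orderOf_eq_prime
      (fun Q => by rw [Q.card_eq_multiplicity, ← C.P.card_eq_multiplicity, C.card_P]), C.D.card_sylow]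
  · exact (C.card_eq.symm.trans C.D.card_G).trans (by rw [C.card_C])

/-- A single value is bounded by the centraliser. -/
theorem sq_le_cC {χ : IrrCharacter G} {g : G} {a : ℤ} (h : (χ : G → ℂ) g = a) : a * a ≤ (cC g : ℤ) := by
  have := M12Order.column_bound_one {χ} g (fun _ => a) fun ξ hξ => by rw [Finset.mem_singleton.mp hξ, h]
  simpa [pow_two, cC] using this

/-- A value congruent to the degree. -/
theorem orderOf_dvd_cC_pow (g : G) (j : ℕ) : orderOf g ∣ cC (g ^ j) :=
  Subgroup.orderOf_dvd_natCard _ (Subgroup.mem_centralizer_singleton_iff.mpr (Commute.self_pow g j).eq)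

/-- The centraliser of an element lies in that of its powers. -/
theorem cC_dvd_cC_pow (g : G) (j : ℕ) : cC g ∣ cC (g ^ j) :=
  Subgroup.card_dvd_of_le fun x hx => Subgroup.mem_centralizer_singleton_iff.mpr
    ((show Commute x g from Subgroup.mem_centralizer_singleton_iff.mp hx).pow_right j).eq

variable (T : Tab G) (S : Seven G T)

/-- All involutions are conjugate. -/
theorem Tab.two_conj (T : Tab G) {x y : G} (hx : orderOf x = 2) (hy : orderOf y = 2) : IsConj x y := by
  by_contra hc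
  have h := T.orth hc
  obtain ⟨-, p1, p2, p3, p4, p5, p6, p7, p8, p9, p10, p11, p12, p13, p14, p15, p16⟩ := T.at_invol hx
  obtain ⟨-, q1, q2, q3, q4, q5, q6, q7, q8, q9, q10, q11, q12, q13, q14, q15, q16⟩ := T.at_invol hy
  have ht : ∀ g : G, (Blocks.trivIrr G : G → ℂ) g = 1 := fun g => by simp [Blocks.trivIrr]
  rw [T.sum_eq, ht, ht, p1, p2, p3, p4, p5, p6, p7, p8, p9, p10, p11, p12, p13, p14, p15, p16, q1, q2, q3, q4, q5,
    q6, q7, q8, q9, q10, q11, q12, q13, q14, q15, q16] at h
  simp only [map_one, map_zero, map_neg, map_ofNat] at h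
  norm_num at h

variable [Fact (Nat.Prime 7)] [Fact (Nat.Prime 11)] [Fact (Nat.Prime 23)]

include S in
/-- The centraliser and the value of the character of degree `22` at an element of order `7`. -/
theorem Tab.col_seven (hn : Nat.card G = 10200960) {v : G} (hv : orderOf v = 7) :
    cC v = 14 ∧ (T.c22 : G → ℂ) v = 1 := by
  obtain ⟨d1, d2, d3, d4, d5, d6, d7, d8, d9, d10, d11, d12, d13, d14, d15, d16⟩ := T.d
  have hv0 : ∀ χ : IrrCharacter G, 7 ∣ deg χ → (χ : G → ℂ) v = 0 := fun χ hd =>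
    vanish_of_dvd hn (by norm_num) (by norm_num) hd (by rw [hv])
  have z5 := hv0 T.c231 (by rw [d5]; norm_num)
  have z6 := hv0 T.d231 (by rw [d6]; norm_num)
  have z7 := hv0 T.e231 (by rw [d7]; norm_num)
  have z9 := hv0 T.a770 (by rw [d9]; norm_num)
  have z10 := hv0 T.b770 (by rw [d10]; norm_num)
  have z11 := hv0 T.a896 (by rw [d11]; norm_num)
  have z12 := hv0 T.b896 (by rw [d12]; norm_num)
  obtain ⟨z15, z16, hH⟩ := S.val7 v hv
  have va := T.int_unique (Or.inl rfl : T.c22 = T.c22 ∨ _) v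
  have vs := T.int_unique (Or.inr (Or.inl rfl) : T.c230 = T.c22 ∨ _) v
  have vu := T.int_unique (Or.inr (Or.inr (Or.inl rfl)) : T.c253 = T.c22 ∨ _) v
  obtain ⟨a, ha⟩ : ∃ a, a = iv T.c22 v := ⟨_, rfl⟩
  obtain ⟨s, hs⟩ : ∃ s, s = iv T.c230 v := ⟨_, rfl⟩
  obtain ⟨u, hu⟩ : ∃ u, u = iv T.c253 v := ⟨_, rfl⟩
  rw [← ha] at va
  rw [← hs] at vs
  rw [← hu] at vu
  obtain ⟨rg, -⟩ := T.rel23 v (by rw [hv]; norm_num)
  obtain ⟨re, -⟩ := T.rel11 v (by rw [hv]; norm_num)
  rw [z5, z6, z7, z9, z11, z12, va] at rg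
  rw [z11, vs, z15] at re
  have hB : (T.a45 : G → ℂ) v + (T.b45 : G → ℂ) v = ((((-a : ℤ) : ℝ)) : ℂ) := by
    push_cast
    linear_combination rg + hH
  have hD : (T.a990 : G → ℂ) v + (T.b990 : G → ℂ) v = (((-1 : ℝ)) : ℂ) := by
    push_cast
    exact hH
  have hsa : s = -a := by
    apply Int.cast_injective (α := ℂ)
    push_cast at hB ⊢
    linear_combination re + hB
  have htriv : ∀ g : G, (Blocks.trivIrr G : G → ℂ) g = 1 := fun g => by simp [Blocks.trivIrr]
  have hv1 : orderOf v ≠ orderOf (1 : G) := by rw [hv, orderOf_one]; norm_num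
  have h1 := T.orth (g := v) (h := 1) (not_conj_of_orderOf hv1)
  rw [T.sum_eq] at h1
  simp only [value_one', map_natCast, map_one, Nat.cast_one, d1, d2, d3, d4, d5, d6, d7, d8, d9, d10, d11, d12,
    d13, d14, d15, d16, deg_triv, htriv, va, vs, vu, z5, z6, z7, z9, z10, z11, z12, z15, z16] at h1
  have hua : u = a := by
    have h : ((253 * (u - a) : ℤ) : ℂ) = ((0 : ℤ) : ℂ) := by
      rw [hsa] at h1
      push_cast at h1 hB hD ⊢
      linear_combination h1 - (45 : ℂ) * hB - (990 : ℂ) * hD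
    have := Int.cast_injective h
    omega
  have hcong : (7 : ℤ) ∣ a - 22 := by
    have h := iv_congr (Fact.out : Nat.Prime 7) (χ := T.c22) (g := v) (T.int_unique (Or.inl rfl) v)
      (T.int_unique (Or.inl rfl) (v ^ 7))
    rw [show v ^ 7 = 1 by rw [← hv, pow_orderOf_eq_one], iv_one, d1, ← ha] at h
    exact_mod_cast h
  have hN := T.norm_eq v
  rw [T.sum_eq] at hN
  simp only [htriv, va, vs, vu, z5, z6, z7, z9, z10, z11, z12, z15, z16, map_intCast, map_one, map_zero,
    map_neg] at hN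
  simp only [Complex.mul_conj] at hN
  have hN' : 3 + (a : ℝ) * a + (s : ℝ) * s + (u : ℝ) * u +
      (Complex.normSq ((T.a45 : G → ℂ) v) + Complex.normSq ((T.b45 : G → ℂ) v)) +
      (Complex.normSq ((T.a990 : G → ℂ) v) + Complex.normSq ((T.b990 : G → ℂ) v)) = (cC v : ℝ) := by
    apply Complex.ofReal_injective
    push_cast at hN ⊢
    linear_combination hN
  have g1 := sum_normSq_ge _ _ hB
  have g2 := sum_normSq_ge _ _ hD
  rw [hsa, hua] at hN'
  push_cast at hN' g1
  have hc7 := S.cent7 v hv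
  have ha1 : a = 1 := by
    have hc : (cC v : ℝ) ≤ 112 := by
      rw [hc7]
      rcases S.hk with e | e <;> rw [e] <;> norm_num
    have h5 : (a : ℝ) * a < 32 := by nlinarith
    have h5' : a * a < 32 := by exact_mod_cast h5
    have : -5 ≤ a ∧ a ≤ 5 := by constructor <;> nlinarith
    omega
  subst ha1
  refine ⟨?_, by rw [va]; norm_num⟩
  rcases S.hk with hk | hk
  swap
  · rw [hc7, hk]
  exfalso
  obtain ⟨t, ht⟩ := exists_prime_orderOf_dvd_card' (G := G) 2 (by rw [hn]; norm_num)
  obtain ⟨-, t1, t2, t3, t4, t5, t6, t7, t8, t9, t10, t11, t12, t13, t14, t15, t16⟩ := T.at_invol ht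
  have hm := Char.class_mult v v⁻¹ t
  rw [T.sum_eq] at hm
  simp only [Char.value_inv_eq_conj (Char.isCharacter_of_isIrr (Subtype.prop _)), htriv, va, vs, vu, z5, z6, z7, z9,
    z10, z11, z12, z15, z16, t1, t2, t3, t4, t5, t6, t7, t8, t9, t10, t11, t12, t13, t14, t15, t16, map_intCast,
    map_one, map_zero, map_neg, map_ofNat, value_one', d1, d2, d3, d4, d5, d6, d7, d8, d9, d10, d11, d12, d13, d14,
    d15, d16, deg_triv, Nat.cast_one] at hm
  simp only [Complex.mul_conj] at hm
  rw [hn, hsa, hua] at hm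
  obtain ⟨Q, hQ⟩ : ∃ Q, Q = Complex.normSq ((T.a45 : G → ℂ) v) + Complex.normSq ((T.b45 : G → ℂ) v) := ⟨_, rfl⟩
  obtain ⟨H, hH'⟩ : ∃ H, H = Complex.normSq ((T.a990 : G → ℂ) v) + Complex.normSq ((T.b990 : G → ℂ) v) := ⟨_, rfl⟩
  rw [hc7, hk, ← hQ, ← hH'] at hN'
  rw [← hQ] at g1
  rw [← hH'] at g2
  obtain ⟨N, hN2⟩ : ∃ N, N = Nat.card {p : G × G // IsConj v p.1 ∧ IsConj v⁻¹ p.2 ∧ p.1 * p.2 = t} := ⟨_, rfl⟩
  obtain ⟨i, hi⟩ : ∃ i, i = (Subgroup.centralizer ({v} : Set G)).index := ⟨_, rfl⟩
  obtain ⟨j, hj⟩ : ∃ j, j = (Subgroup.centralizer ({v⁻¹} : Set G)).index := ⟨_, rfl⟩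
  rw [← hN2, ← hi, ← hj] at hm
  have hm' : (N : ℝ) = (i : ℝ) * j / 10200960 *
      (1 + 6 / 22 + 22 / 230 + 13 / 253 + 27 / 1035 + 8 / 2024 - 3 * Q / 45 - 18 * H / 990) := by
    apply Complex.ofReal_injective
    rw [hQ, hH']
    push_cast at hm ⊢
    linear_combination hm
  have hneg : 1 + 6 / 22 + 22 / 230 + 13 / 253 + 27 / 1035 + 8 / 2024 - 3 * Q / 45 - 18 * H / 990 < (0 : ℝ) := by
    norm_num at hN' g1 g2 ⊢
    linarith
  have hipos : 0 < (i : ℝ) * j / 10200960 := by
    have h1 : 0 < i := hi ▸ Nat.pos_of_ne_zero Subgroup.index_ne_zero_of_finite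
    have h2 : 0 < j := hj ▸ Nat.pos_of_ne_zero Subgroup.index_ne_zero_of_finite
    positivity
  have := mul_neg_of_pos_of_neg hipos hneg
  rw [← hm'] at this
  exact absurd this (not_lt.mpr (Nat.cast_nonneg _))

/-- The possible orders. -/
def otherOrders : List ℕ := [5, 7, 11, 14, 15, 23]

variable [Fact (Nat.Prime 5)]

include S in
/-- The orders of the elements. -/
theorem Tab.order_mem (hn : Nat.card G = 10200960) (g : G) :
    orderOf g ∈ otherOrders ∨ orderOf g ∣ 384 := by
  have hd : orderOf g ∣ 10200960 := hn ▸ orderOf_dvd_natCard g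
  have key : ∀ p, p.Prime → p ∣ orderOf g → ∀ c, (∀ w : G, orderOf w = p → cC w = c) → orderOf g ∣ c := by
    intro p hp hpd c hc
    obtain ⟨j, hj⟩ := hpd
    have hj0 : j ≠ 0 := fun e => (orderOf_pos g).ne' (by rw [hj, e, mul_zero])
    have ho : orderOf (g ^ j) = p := by
      rw [orderOf_pow' g hj0, hj, Nat.gcd_eq_right (dvd_mul_left j p), Nat.mul_div_cancel _ (Nat.pos_of_ne_zero hj0)]
    exact hc _ ho ▸ orderOf_dvd_cC_pow g j
  obtain ⟨m, hm⟩ : ∃ m, m = orderOf g := ⟨_, rfl⟩
  simp only [← hm] at key hd ⊢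
  simp only [otherOrders, List.mem_cons, List.not_mem_nil, or_false]
  have step : ∀ p c : ℕ, (∀ w : G, orderOf w = p → cC w = c) → p.Prime → p ∣ m →
      m ∈ c.divisors.filter (p ∣ ·) := fun p c hc hp h =>
    Finset.mem_filter.mpr ⟨Nat.mem_divisors.mpr ⟨key p hp h c hc, by
      obtain ⟨w, hw⟩ := exists_prime_orderOf_dvd_card' (G := G) p (hn ▸ h.trans hd) (hp := ⟨hp⟩)
      exact hc w hw ▸ (cC_pos w).ne'⟩, h⟩
  by_cases h5 : 5 ∣ m
  · have := step 5 15 T.cent5 (by norm_num) h5
    rw [show (15 : ℕ).divisors.filter (5 ∣ ·) = {5, 15} by decide] at this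
    simp only [Finset.mem_insert, Finset.mem_singleton] at this
    rcases this with rfl | rfl <;> simp
  by_cases h7 : 7 ∣ m
  · have := step 7 14 (fun w hw => (T.col_seven S hn hw).1) (by norm_num) h7
    rw [show (14 : ℕ).divisors.filter (7 ∣ ·) = {7, 14} by decide] at this
    simp only [Finset.mem_insert, Finset.mem_singleton] at this
    rcases this with rfl | rfl <;> simp
  by_cases h11 : 11 ∣ m
  · have := step 11 11 T.cent11 (by norm_num) h11
    rw [show (11 : ℕ).divisors.filter (11 ∣ ·) = {11} by decide] at this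
    simp only [Finset.mem_singleton] at this
    simp [this]
  by_cases h23 : 23 ∣ m
  · have := step 23 23 T.cent23 (by norm_num) h23
    rw [show (23 : ℕ).divisors.filter (23 ∣ ·) = {23} by decide] at this
    simp only [Finset.mem_singleton] at this
    simp [this]
  right
  have cop : ∀ p : ℕ, p.Prime → ¬ p ∣ m → Nat.Coprime m p := fun p hp h =>
    ((Nat.Prime.coprime_iff_not_dvd hp).mpr h).symm
  have h1152 : m ∣ 1152 := by
    refine ((((cop 5 (by norm_num) h5).mul_right (cop 7 (by norm_num) h7)).mul_right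
      (cop 11 (by norm_num) h11)).mul_right (cop 23 (by norm_num) h23)).dvd_of_dvd_mul_left ?_
    exact hd
  have h9 : ¬ 9 ∣ m := fun h => by
    obtain ⟨j, hj⟩ := h
    have hj0 : j ≠ 0 := fun e => (orderOf_pos g).ne' (by rw [← hm, hj, e, mul_zero])
    refine T.not_order_nine S hn (g ^ j) ?_
    rw [orderOf_pow' g hj0, ← hm, hj, Nat.gcd_eq_right (dvd_mul_left j 9),
      Nat.mul_div_cancel _ (Nat.pos_of_ne_zero hj0)]
  by_cases h3 : 3 ∣ m
  · obtain ⟨j, rfl⟩ := h3
    have hj3 : ¬ 3 ∣ j := fun h => h9 (mul_dvd_mul_left 3 h)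
    have h384 : j ∣ 3 * 128 := Nat.dvd_of_mul_dvd_mul_left (by norm_num : 0 < 3) h1152
    exact mul_dvd_mul_left 3 ((((Nat.Prime.coprime_iff_not_dvd Nat.prime_three).mpr hj3).symm).dvd_of_dvd_mul_left
      h384)
  · exact ((cop 3 Nat.prime_three h3).dvd_of_dvd_mul_left (show m ∣ 3 * 384 by norm_num; exact h1152))

include S in
/-- The value of the character of degree `22` is even at the elements of order dividing `384`. -/
theorem Tab.even22 (hn : Nat.card G = 10200960) :
    ∀ (i : ℕ) (g : G), orderOf g ∣ 2 ^ i * 3 → (2 : ℤ) ∣ iv T.c22 g := by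
  intro i
  induction i with
  | zero =>
    intro g hg
    rcases (Nat.dvd_prime Nat.prime_three).mp (by simpa using hg) with h | h
    · rw [orderOf_eq_one_iff.mp h, iv_one, T.d.1]; norm_num
    · have e : iv T.c22 g = 4 := iv_eq (by rw [(T.col_three S hn (Or.inl h)).2.1]; norm_num)
      rw [e]; norm_num
  | succ i ih =>
    intro g hg
    have h2 : orderOf (g ^ 2) ∣ 2 ^ i * 3 := by
      rw [orderOf_dvd_iff_pow_eq_one] at hg ⊢
      rw [← pow_mul, ← mul_assoc, ← pow_succ']
      exact hg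
    have h := iv_congr Nat.prime_two (T.int_unique (χ := T.c22) (Or.inl rfl) g)
      (T.int_unique (χ := T.c22) (Or.inl rfl) (g ^ 2))
    exact (dvd_iff_dvd_of_dvd_sub h).mpr (ih _ h2)

/-- The counts of some orders. -/
theorem Tab.counts (hn : Nat.card G = 10200960) (S : Seven G T) :
    Nat.card {g : G // orderOf g = 1} = 1 ∧
      3795 ≤ Nat.card {g : G // orderOf g = 2} ∧ 56672 ≤ Nat.card {g : G // orderOf g = 3} ∧
      Nat.card {g : G // orderOf g = 23} = 887040 ∧ Nat.card {g : G // orderOf g = 7} = 1457280 ∧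
      1457280 ≤ Nat.card {g : G // orderOf g = 14} ∧ 1360128 ≤ Nat.card {g : G // orderOf g = 15} := by
  haveI : Fact (Nat.Prime 2) := ⟨Nat.prime_two⟩
  haveI : Fact (Nat.Prime 3) := ⟨Nat.prime_three⟩
  have h1 : Nat.card {g : G // orderOf g = 1} = 1 :=
    Nat.card_eq_one_iff_exists.mpr ⟨⟨1, orderOf_one⟩, fun g => Subtype.ext (orderOf_eq_one_iff.mp g.2)⟩
  have hclass : ∀ (x : G) (c m : ℕ), cC x = c → c * m = 10200960 →
      m ≤ Nat.card {g : G // orderOf g = orderOf x} := by
    intro x c m hc hm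
    have hidx := Char.card_centralizer_mul_index x
    have hle : (Subgroup.centralizer ({x} : Set G)).index ≤ Nat.card {g : G // orderOf g = orderOf x} := by
      rw [← Char.card_isConj_eq_index x]
      refine Nat.card_le_card_of_injective (fun g => ⟨g.1, ?_⟩) fun a b h => Subtype.ext (Subtype.mk.inj h)
      obtain ⟨w, hw⟩ := isConj_iff.mp g.2
      exact ((MulAut.conj w).orderOf_eq g.1).symm.trans (congrArg orderOf hw)
    have : c * (Subgroup.centralizer ({x} : Set G)).index = c * m := by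
      rw [hm, ← hn, ← hc]
      exact Subgroup.card_mul_index _
    have hc0 : 0 < c := hc ▸ cC_pos x
    rw [← Nat.eq_of_mul_eq_mul_left hc0 this]
    exact hle
  obtain ⟨t, ht⟩ := exists_prime_orderOf_dvd_card' (G := G) 2 (by rw [hn]; norm_num)
  obtain ⟨y, hy⟩ := exists_prime_orderOf_dvd_card' (G := G) 3 (by rw [hn]; norm_num)
  have h2 := ht ▸ hclass t 2688 3795 (T.at_invol ht).1 (by norm_num)
  have h3 := hy ▸ hclass y 180 56672 (T.col_three S hn (Or.inl hy)).1 (by norm_num)
  obtain ⟨T23, he23⟩ := exists_twentythree hn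
  obtain ⟨c23, hN23, -, -⟩ := card_order_of_ctx T23
  rw [he23] at hN23
  have h23 : Nat.card {g : G // orderOf g = 23} = 887040 := by rw [c23]; omega
  obtain ⟨k, T7, -⟩ := exists_ctx (p := 7) hn [128, 9, 5, 7, 11, 23] rfl (by norm_num) (by norm_num)
  obtain ⟨v, hv⟩ := exists_prime_orderOf_dvd_card' (G := G) 7 (by rw [hn]; norm_num)
  have hk : k = 2 := by
    have := cC_of_ctx T7 hv
    rw [(T.col_seven S hn hv).1] at this
    omega
  subst hk
  obtain ⟨c7, hN7, he7, he7'⟩ := card_order_of_ctx T7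
  have h7 : Nat.card {g : G // orderOf g = 7} = 1457280 := by
    rw [c7]
    obtain ⟨e, he⟩ : ∃ e, e = T7.D.e := ⟨_, rfl⟩
    rw [← he] at hN7 he7 he7'
    have : e ≤ 6 := by
      have := Nat.le_mul_of_pos_right e T7.D.one_le_t
      omega
    interval_cases e <;> omega
  obtain ⟨k5, T5, -⟩ := exists_ctx (p := 5) hn [128, 9, 5, 7, 11, 23] rfl (by norm_num) (by norm_num)
  obtain ⟨v5, hv5⟩ := exists_prime_orderOf_dvd_card' (G := G) 5 (by rw [hn]; norm_num)
  have hk5 : k5 = 3 := by
    have := cC_of_ctx T5 hv5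
    rw [T.cent5 v5 hv5] at this
    omega
  subst hk5
  obtain ⟨c5, hN5, he5, he5'⟩ := card_order_of_ctx T5
  have h5 : Nat.card {g : G // orderOf g = 5} = 680064 := by
    rw [c5]
    obtain ⟨e, he⟩ : ∃ e, e = T5.D.e := ⟨_, rfl⟩
    rw [← he] at hN5 he5 he5'
    have : e ≤ 4 := by
      have := Nat.le_mul_of_pos_right e T5.D.one_le_t
      omega
    interval_cases e <;> omega
  -- elements of order `14`
  have hex : ∀ (p c q : ℕ) [Fact q.Prime], (∀ w : G, orderOf w = p → cC w = c) → q ∣ c →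
      ∀ w : {g : G // orderOf g = p}, ∃ x : G, orderOf x = q ∧ Commute w.1 x := by
    intro p c q _ hc hq w
    obtain ⟨x, hx⟩ := exists_prime_orderOf_dvd_card' (G := Subgroup.centralizer ({w.1} : Set G)) q
      (show q ∣ cC w.1 from (hc _ w.2).symm ▸ hq)
    exact ⟨x, by rw [Subgroup.orderOf_coe]; exact hx, (Subgroup.mem_centralizer_singleton_iff.mp x.2).symm⟩
  choose x7 hx7 hc7 using hex 7 14 2 (fun w hw => (T.col_seven S hn hw).1) (by norm_num)
  have h14 : Nat.card {g : G // orderOf g = 7} ≤ Nat.card {g : G // orderOf g = 14} := by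
    refine Nat.card_le_card_of_injective (fun w => ⟨w.1 * x7 w, ?_⟩) fun a b h => Subtype.ext ?_
    · rw [(hc7 w).orderOf_mul_eq_mul_orderOf_of_coprime (by rw [w.2, hx7]; norm_num), w.2, hx7]
    · have h8 : ∀ w : {g : G // orderOf g = 7}, (w.1 * x7 w) ^ 8 = w.1 := fun w => by
        rw [(hc7 w).mul_pow, ← pow_mod_orderOf w.1, ← pow_mod_orderOf (x7 w), w.2, hx7]
        norm_num
      rw [← h8 a, ← h8 b, show a.1 * x7 a = b.1 * x7 b from Subtype.mk.inj h]
  -- elements of order `15`
  choose x5 hx5 hc5 using hex 5 15 3 T.cent5 (by norm_num)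
  have h15 : Nat.card ({g : G // orderOf g = 5} × Fin 2) ≤ Nat.card {g : G // orderOf g = 15} := by
    refine Nat.card_le_card_of_injective (fun w => ⟨w.1.1 * x5 w.1 ^ (w.2.val + 1), ?_⟩) fun a b h => ?_
    · obtain ⟨w, j⟩ := w
      have hj : Nat.Coprime (orderOf (x5 w)) (j.val + 1) := by rw [hx5]; fin_cases j <;> norm_num
      rw [((hc5 w).pow_right _).orderOf_mul_eq_mul_orderOf_of_coprime
        (by rw [w.2, hj.orderOf_pow, hx5]; norm_num), w.2, hj.orderOf_pow, hx5]
    · have h6 : ∀ (w : {g : G // orderOf g = 5}) (j : Fin 2), (w.1 * x5 w ^ (j.val + 1)) ^ 6 = w.1 := fun w j => by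
        rw [((hc5 w).pow_right _).mul_pow, ← pow_mul, ← pow_mod_orderOf w.1, ← pow_mod_orderOf (x5 w), w.2, hx5,
          show (j.val + 1) * 6 % 3 = 0 by omega]
        norm_num
      have h10 : ∀ (w : {g : G // orderOf g = 5}) (j : Fin 2),
          (w.1 * x5 w ^ (j.val + 1)) ^ 10 = x5 w ^ (j.val + 1) := fun w j => by
        rw [((hc5 w).pow_right _).mul_pow, ← pow_mul, ← pow_mod_orderOf w.1, w.2,
          show (10 : ℕ) % 5 = 0 by norm_num, pow_zero, one_mul, ← pow_mod_orderOf (x5 w), hx5,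
          show (j.val + 1) * 10 % 3 = j.val + 1 by have := j.2; omega]
      obtain ⟨a, i⟩ := a
      obtain ⟨b, j⟩ := b
      have hv' : a.1 * x5 a ^ (i.val + 1) = b.1 * x5 b ^ (j.val + 1) := congrArg Subtype.val h
      have hab : a = b := Subtype.ext (by rw [← h6 a i, hv', h6])
      subst hab
      have hpe : x5 a ^ (i.val + 1) = x5 a ^ (j.val + 1) := by rw [← h10 a i, hv', h10]
      have hmod := pow_eq_pow_iff_modEq.mp hpe
      rw [hx5, Nat.ModEq] at hmod
      have : i = j := Fin.ext (by have := i.2; have := j.2; omega)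
      rw [this]
  rw [Nat.card_prod, h5, Nat.card_fin] at h15
  exact ⟨h1, h2, h3, h23, h7, h7 ▸ h14, h15⟩

/-- A lower bound for `a (a - 2)` by the order. -/
def low (o : ℕ) : ℤ :=
  440 * (if o = 1 then 1 else 0) + 24 * (if o = 2 then 1 else 0) + 8 * (if o = 3 then 1 else 0) +
    3 * (if o = 23 then 1 else 0) + 3 * (if o = 14 then 1 else 0) + 3 * (if o = 15 then 1 else 0) -
    (if o = 7 then 1 else 0)

theorem sum_indicator (k : ℕ) :
    ∑ g : G, (if orderOf g = k then (1 : ℤ) else 0) = (Nat.card {g : G // orderOf g = k} : ℤ) := by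
  rw [Finset.sum_boole, Nat.card_eq_fintype_card, Fintype.card_subtype]

include S in
/-- The character of degree `22` takes only the values `0` and `2` at orders `4`, `6` and `8`. -/
theorem Tab.val22 (hn : Nat.card G = 10200960) {g : G} (hg : orderOf g ∈ [4, 6, 8]) :
    iv T.c22 g = 0 ∨ iv T.c22 g = 2 := by
  obtain ⟨d1, -⟩ := T.d
  have hA : ∀ g : G, (T.c22 : G → ℂ) g = iv T.c22 g := fun g => T.int_unique (Or.inl rfl) g
  have hcg : ∀ (p : ℕ) (g : G), p.Prime → (p : ℤ) ∣ iv T.c22 g - iv T.c22 (g ^ p) := fun p g hp =>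
    iv_congr hp (hA g) (hA (g ^ p))
  have hlow : ∀ g : G, low (orderOf g) ≤ iv T.c22 g * (iv T.c22 g - 2) := by
    intro g
    rcases T.order_mem S hn g with h | h
    · simp only [otherOrders, List.mem_cons, List.not_mem_nil, or_false] at h
      rcases h with h | h | h | h | h | h
      · rw [h, iv_eq (a := (2 : ℤ)) (by rw [(T.col_five hn h).1]; norm_num)]; decide
      · rw [h, iv_eq (a := (1 : ℤ)) (by rw [(T.col_seven S hn h).2]; norm_num)]; decide
      · rw [h, iv_eq (a := (0 : ℤ)) (by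
          rw [vanish_of_dvd hn (p := 11) (by norm_num) (by norm_num) (by rw [d1]; norm_num) (by rw [h])]
          norm_num)]
        decide
      · have hb : iv T.c22 g * iv T.c22 g ≤ 14 := by
          refine (sq_le_cC (hA g)).trans ?_
          have hh := cC_dvd_cC_pow g 2
          rw [(T.col_seven S hn (v := g ^ 2) (by rw [orderOf_pow g, h]; norm_num)).1] at hh
          exact_mod_cast Nat.le_of_dvd (by norm_num) hh
        have c2 := hcg 2 g Nat.prime_two
        rw [iv_eq (g := g ^ 2) (a := (1 : ℤ))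
          (by rw [(T.col_seven S hn (v := g ^ 2) (by rw [orderOf_pow g, h]; norm_num)).2]; norm_num)] at c2
        have c7 := hcg 7 g (by norm_num)
        rw [iv_eq (g := g ^ 7) (a := (6 : ℤ))
          (by rw [(T.at_invol (t := g ^ 7) (by rw [orderOf_pow g, h]; norm_num)).2.1]; norm_num)] at c7
        have : -3 ≤ iv T.c22 g ∧ iv T.c22 g ≤ 3 := by constructor <;> nlinarith
        have he : iv T.c22 g = -1 := by omega
        rw [h, he]; decide
      · have hb : iv T.c22 g * iv T.c22 g ≤ 15 := by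
          refine (sq_le_cC (hA g)).trans ?_
          have hh := cC_dvd_cC_pow g 3
          rw [T.cent5 (g ^ 3) (by rw [orderOf_pow g, h]; norm_num)] at hh
          exact_mod_cast Nat.le_of_dvd (by norm_num) hh
        have c3 := hcg 3 g Nat.prime_three
        rw [iv_eq (g := g ^ 3) (a := (2 : ℤ))
          (by rw [(T.col_five hn (v := g ^ 3) (by rw [orderOf_pow g, h]; norm_num)).1]; norm_num)] at c3
        have c5 := hcg 5 g (by norm_num)
        rw [iv_eq (g := g ^ 5) (a := (4 : ℤ))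
          (by rw [(T.col_three S hn (y := g ^ 5) (Or.inl (by rw [orderOf_pow g, h]; norm_num))).2.1]; norm_num)] at c5
        have : -3 ≤ iv T.c22 g ∧ iv T.c22 g ≤ 3 := by constructor <;> nlinarith
        have he : iv T.c22 g = -1 := by omega
        rw [h, he]; decide
      · have hb : iv T.c22 g * iv T.c22 g ≤ 23 := by
          refine (sq_le_cC (hA g)).trans ?_
          rw [T.cent23 g h]
          norm_num
        have c23 := hcg 23 g (by norm_num)
        rw [show g ^ 23 = 1 by rw [← h, pow_orderOf_eq_one], iv_one, d1] at c23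
        have : -4 ≤ iv T.c22 g ∧ iv T.c22 g ≤ 4 := by constructor <;> nlinarith
        have he : iv T.c22 g = -1 := by omega
        rw [h, he]; decide
    · by_cases h1 : orderOf g = 1
      · rw [h1, orderOf_eq_one_iff.mp h1, iv_one, d1]; decide
      by_cases h2 : orderOf g = 2
      · rw [h2, iv_eq (a := (6 : ℤ)) (by rw [(T.at_invol h2).2.1]; norm_num)]; decide
      by_cases h3 : orderOf g = 3
      · rw [h3, iv_eq (a := (4 : ℤ)) (by rw [(T.col_three S hn (Or.inl h3)).2.1]; norm_num)]; decide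
      obtain ⟨j, hj⟩ := T.even22 S hn 7 g (by simpa using h)
      have hne : ∀ k : ℕ, ¬ k ∣ 384 → orderOf g ≠ k := fun k hk e => hk (e ▸ h)
      simp only [low, if_neg h1, if_neg h2, if_neg h3, if_neg (hne 23 (by norm_num)), if_neg (hne 14 (by norm_num)),
        if_neg (hne 15 (by norm_num)), if_neg (hne 7 (by norm_num))]
      rw [hj]
      rcases le_or_gt j 0 with h' | h' <;> nlinarith
  have hsum : ∑ g : G, iv T.c22 g * (iv T.c22 g - 2) = 10200960 := by
    have h1 := Char.classInner_irr_self T.c22.2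
    have hne : T.c22 ≠ Blocks.trivIrr G := fun e => by
      have := T.d.1
      rw [e, deg_triv] at this
      norm_num at this
    have h0 := Char.classInner_irr_ne T.c22.2 (Blocks.trivIrr G).2 (fun e => hne (Subtype.ext e))
    rw [classInner, inv_mul_eq_iff_eq_mul₀ (Nat.cast_ne_zero.mpr Nat.card_pos.ne')] at h0 h1
    rw [hn] at h1
    simp only [Blocks.trivIrr, map_one, mul_one, mul_zero] at h0
    apply Int.cast_injective (α := ℂ)
    push_cast
    simp only [hA, map_intCast] at h1 h0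
    simp only [mul_sub, Finset.sum_sub_distrib, ← Finset.sum_mul]
    rw [h0, h1]
    norm_num
  have hL : ∑ g : G, low (orderOf g) ≥ 10200960 := by
    obtain ⟨c1, c2, c3, c23, c7, c14, c15⟩ := T.counts hn S
    simp only [low, Finset.sum_sub_distrib, Finset.sum_add_distrib, ← Finset.mul_sum, sum_indicator]
    omega
  have hz := (Finset.sum_eq_zero_iff_of_nonneg (fun g _ => sub_nonneg.mpr (hlow g))).mp (le_antisymm
    (by rw [Finset.sum_sub_distrib, hsum]; linarith) (Finset.sum_nonneg fun g _ => sub_nonneg.mpr (hlow g))) g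
    (Finset.mem_univ g)
  have hl : low (orderOf g) = 0 := by
    simp only [List.mem_cons, List.not_mem_nil, or_false] at hg
    rcases hg with e | e | e <;> rw [e] <;> rfl
  rw [hl, sub_zero, mul_eq_zero] at hz
  omega

include S in
/-- The value at an element of order `4`. -/
theorem Tab.val22_four (hn : Nat.card G = 10200960) {g : G} (hg : orderOf g = 4) : iv T.c22 g = 2 := by
  have hA : ∀ g : G, (T.c22 : G → ℂ) g = iv T.c22 g := fun g => T.int_unique (Or.inl rfl) g
  have hp : g ^ 4 = 1 := hg ▸ pow_orderOf_eq_one g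
  have hcomm : ¬ IsMulCommutative G := SmallOrder.not_comm_of_not_prime (hn ▸ by norm_num)
  obtain ⟨r, hr⟩ := exists_even_minus_one hcomm (Char.isCharacter_of_isIrr T.c22.2) (g := g) (m := 4)
    (by norm_num) (by decide) hp fun l => by rw [hA, map_intCast]
  have e3 : (T.c22 : G → ℂ) (g ^ 3) = (T.c22 : G → ℂ) g := by
    rw [show g ^ 3 = g⁻¹ from eq_inv_of_mul_eq_one_left (by rw [← pow_succ]; exact hp),
      Char.value_inv_eq_conj (Char.isCharacter_of_isIrr T.c22.2), hA, map_intCast]
  simp only [Finset.sum_range_succ, Finset.sum_range_zero, zero_add] at hr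
  rw [e3, pow_zero g, pow_one g, value_one', T.d.1, hA g,
    (T.at_invol (t := g ^ 2) (by rw [orderOf_pow g, hg]; norm_num)).2.1] at hr
  have h : ((28 - 2 * iv T.c22 g : ℤ) : ℂ) = ((8 * r : ℤ) : ℂ) := by
    push_cast at hr ⊢
    linear_combination hr
  have := Int.cast_injective h
  rcases T.val22 S hn (g := g) (by simp [hg]) with e | e <;> omega

include S in
/-- The value at an element of order `8`. -/
theorem Tab.val22_eight (hn : Nat.card G = 10200960) {g : G} (hg : orderOf g = 8) : iv T.c22 g = 0 := by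
  have hA : ∀ g : G, (T.c22 : G → ℂ) g = iv T.c22 g := fun g => T.int_unique (Or.inl rfl) g
  have hp : g ^ 8 = 1 := hg ▸ pow_orderOf_eq_one g
  have hcomm : ¬ IsMulCommutative G := SmallOrder.not_comm_of_not_prime (hn ▸ by norm_num)
  obtain ⟨r, hr⟩ := exists_even_minus_one hcomm (Char.isCharacter_of_isIrr T.c22.2) (g := g) (m := 8)
    (by norm_num) (by decide) hp fun l => by rw [hA, map_intCast]
  have hinv : ∀ i j : ℕ, i + j = 8 → iv T.c22 (g ^ i) = iv T.c22 (g ^ j) := fun i j hij => iv_eq (by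
    rw [show g ^ i = (g ^ j)⁻¹ from eq_inv_of_mul_eq_one_left (by rw [← pow_add, hij, hp]),
      Char.value_inv_eq_conj (Char.isCharacter_of_isIrr T.c22.2), hA, map_intCast])
  have e7 := hinv 7 1 rfl
  have e5 := hinv 5 3 rfl
  have e6 := hinv 6 2 rfl
  rw [pow_one] at e7
  have e0 : iv T.c22 (g ^ 0) = 22 := by rw [pow_zero, iv_one, T.d.1]; rfl
  have e2 := T.val22_four S hn (g := g ^ 2) (by rw [orderOf_pow g, hg]; norm_num)
  have e4 : iv T.c22 (g ^ 4) = 6 :=
    iv_eq (by rw [(T.at_invol (t := g ^ 4) (by rw [orderOf_pow g, hg]; norm_num)).2.1]; norm_num)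
  simp only [Finset.sum_range_succ, Finset.sum_range_zero, zero_add, hA, pow_one, e0, e7, e5, e6, e2, e4] at hr
  have h : ((32 - 2 * iv T.c22 g - 2 * iv T.c22 (g ^ 3) : ℤ) : ℂ) = ((16 * r : ℤ) : ℂ) := by
    push_cast at hr ⊢
    linear_combination hr
  have := Int.cast_injective h
  rcases T.val22 S hn (g := g) (by simp [hg]) with e | e <;>
    rcases T.val22 S hn (g := g ^ 3)
      (by rw [Nat.Coprime.orderOf_pow (by rw [hg]; norm_num), hg]; simp) with f | f <;> omega

include S in
/-- The value at an element of order `6`. -/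
theorem Tab.val22_six (hn : Nat.card G = 10200960) {g : G} (hg : orderOf g = 6) : iv T.c22 g = 0 := by
  have h := iv_congr Nat.prime_three (T.int_unique (χ := T.c22) (Or.inl rfl) g)
    (T.int_unique (χ := T.c22) (Or.inl rfl) (g ^ 3))
  rw [iv_eq (g := g ^ 3) (a := (6 : ℤ))
    (by rw [(T.at_invol (t := g ^ 3) (by rw [orderOf_pow g, hg]; norm_num)).2.1]; norm_num)] at h
  rcases T.val22 S hn (g := g) (by simp [hg]) with e | e <;> omega

omit [Fintype G] [Fact (Nat.Prime 5)] [Fact (Nat.Prime 7)] [Fact (Nat.Prime 11)] [Fact (Nat.Prime 23)] in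
/-- **A simple group of order `10200960` has the facts of the Mathieu group.** -/
theorem facts_of_card [Finite G] (hn : Nat.card G = 10200960) : Facts G := by
  letI := Fintype.ofFinite G
  haveI : Fact (Nat.Prime 5) := ⟨by norm_num⟩
  haveI : Fact (Nat.Prime 7) := ⟨by norm_num⟩
  haveI : Fact (Nat.Prime 11) := ⟨by norm_num⟩
  haveI : Fact (Nat.Prime 23) := ⟨by norm_num⟩
  obtain ⟨T⟩ := exists_tab hn
  obtain ⟨S⟩ := exists_sevenBlk hn T
  have hA : ∀ g : G, (T.c22 : G → ℂ) g = iv T.c22 g := fun g => T.int_unique (Or.inl rfl) g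
  exact {
    card := hn
    invol_conj := fun _ _ hs ht => T.two_conj hs ht
    card_invol := fun _ ht => (T.at_invol ht).1
    card_three := fun _ hx => (T.col_three S hn (Or.inl hx)).1
    card_five := fun _ hy => T.cent5 _ hy
    card_seven := fun _ hs => (T.col_seven S hn hs).1
    exists_char := ⟨T.c22, by rw [value_one', T.d.1]; norm_num, fun g =>
      ⟨fun h => (T.at_invol h).2.1, fun h => (T.col_three S hn (Or.inl h)).2.1,
        fun h => by rw [hA, T.val22_four S hn h]; norm_num,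
        fun h => (T.col_five hn h).1,
        fun h => by rw [hA, T.val22_six S hn h]; norm_num,
        fun h => by rw [hA, T.val22_eight S hn h]; norm_num⟩⟩ }

end CfsgLib.M23Order
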