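import Cfsg.Agent.Lib.M23Order.CharKeys11

/-!
# Simple groups of order 10200960: the block computations for the prime 5
-/

set_option autoImplicit false
set_option maxHeartbeats 2000000

namespace CfsgLib.M23Order

open CfsgLib CfsgLib.BrauerTuan CfsgLib.OrderBlocks

/-- The filter by both self-centralising Sylow subgroups. -/
def kp2 (x : ℤ) : Bool := g2 x.natAbs

/-- The residue of the exceptional degree modulo `23`. -/
def exc23 (d : ℕ) : Bool := [11, 12].contains (d % 23)

/-- The residue of the exceptional degree modulo `11`. -/
def exc11 (d : ℕ) : Bool := [5, 6].contains (d % 11)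

/-- The filter when `126` is a degree. -/
def kp126 (x : ℤ) : Bool :=
  kp2 x && (!exc23 x.natAbs || decide (x.natAbs = 126)) && (!exc11 x.natAbs || decide (x.natAbs = 126))

/-- The filter when `896` is the exceptional degree of the `11`-block. -/
def kp896 (x : ℤ) : Bool := kp2 x && (!exc11 x.natAbs || decide (x.natAbs = 896))

/-- The triple of the principal `11`-block. -/
def r11 : ℕ × ℕ × ℕ := (185472, 5, 1)

/-- The candidates for the `5`-block. -/
def opts5 : List Opt :=
  [⟨5, 8, 4, [126, 126, 506, -759], none⟩, ⟨5, 8, 4, [126, 126, 1771, -2024], none⟩,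
    ⟨5, 3, 4, [231, 896, 896, -2024], none⟩, ⟨5, 3, 4, [506, -644, -759, 896], none⟩,
    ⟨5, 3, 4, [-644, 896, 1771, -2024], none⟩]

theorem key_trips5 : ((trips 10200960 5 fs).filter fun r => decide (r.2.2 % 23 ≠ 0) && decide (r.2.2 % 11 ≠ 0)).all
    (fun r => (cands kp2 5 r).all fun o => opts5.contains o) = true := by decide +kernel

theorem key_r11 : ((trips 10200960 11 fs).filter fun r => decide (r.2.2 = 1)).all
    (fun r => decide (r = r11)) = true := by decide +kernel

theorem key_126 : cands kp126 11 r11 = [] := by decide +kernel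

theorem key_896 : (cands kp896 11 r11).all fun o =>
    ([⟨11, 1, 5, [45, 45, -230, 1035], some 896⟩, ⟨11, 1, 5, [45, 45, -483, 1288], some 896⟩] : List Opt).contains o := by
  decide +kernel

end CfsgLib.M23Order
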