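import Cfsg.Agent.Lib.M23Order.CharEleven
import Cfsg.Agent.Lib.M23Order.CharKeys5

/-!
# Simple groups of order 10200960: the principal 5-block and 11-block
-/

set_option autoImplicit false
set_option linter.unusedSectionVars false
set_option linter.style.haveILetI false
set_option maxHeartbeats 2000000

namespace CfsgLib.M23Order

open Cfsg
open scoped ComplexConjugate CfsgLib.Char
open CfsgLib CfsgLib.BrauerTuan CfsgLib.OrderBlocks
open scoped _root_.Classical

universe u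

/-- The principal `5`-block. -/
def o5 : Opt := ⟨5, 3, 4, [231, 896, 896, -2024], none⟩

/-- The two candidates for the principal `11`-block. -/
def o11 (u w : ℤ) : Opt := ⟨11, 1, 5, [45, 45, -u, w], some 896⟩

variable {G : Type u} [Group G] [Fintype G] [IsSimpleGroup G]

/-- Two characters with the exceptional residue have the same degree. -/
theorem deg_eq_of_residue {p : ℕ} [Fact p.Prime] (T : Ctx G p 1) {χ ξ : IrrCharacter G}
    (hbad : ∀ d : ℕ, (p ∣ d ∨ (d : ℤ) ≡ 1 [ZMOD p] ∨ (d : ℤ) ≡ -1 [ZMOD p]) → d ≠ deg χ ∧ d ≠ deg ξ) :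
    deg χ = deg ξ := by
  have hmem : ∀ η : IrrCharacter G, (∀ d : ℕ, (p ∣ d ∨ (d : ℤ) ≡ 1 [ZMOD p] ∨ (d : ℤ) ≡ -1 [ZMOD p]) →
      d ≠ deg η) → η ∈ T.D.Y := by
    intro η h
    by_contra hY
    by_cases hX : η ∈ T.D.X
    · have := T.D.degX η hX
      rcases T.D.hδ η hX with e | e <;> rw [e] at this
      · exact h _ (Or.inr (Or.inl this)) rfl
      · exact h _ (Or.inr (Or.inr this)) rfl
    · refine h _ (Or.inl (dvd_degree_of_vanish (T.P : Subgroup G) T.card_P fun v hv hv1 =>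
        T.D.out ?_ η hX hY v hv hv1)) rfl
      refine (Subgroup.eq_of_le_of_card_ge ?_ ?_).symm
      · haveI : IsCyclic (T.P : Subgroup G) := isCyclic_of_prime_card T.card_P
        exact fun a ha => Subgroup.mem_centralizer_iff.mpr fun c hc =>
          congrArg Subtype.val ((IsCyclic.commGroup (α := (T.P : Subgroup G))).mul_comm ⟨c, hc⟩ ⟨a, ha⟩)
      · rw [T.card_C, T.card_P, mul_one]
  exact T.D.degY_eq χ (hmem χ fun d hd => (hbad d hd).1) ξ (hmem ξ fun d hd => (hbad d hd).2)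

theorem not_small_residue23 {d e : ℕ} (he : exc23 e = true)
    (h : 23 ∣ d ∨ (d : ℤ) ≡ 1 [ZMOD (23 : ℕ)] ∨ (d : ℤ) ≡ -1 [ZMOD (23 : ℕ)]) : d ≠ e := by
  simp only [exc23, List.contains_iff_mem, List.mem_cons, List.not_mem_nil, or_false] at he
  simp only [Int.ModEq] at h
  push_cast at h
  omega

theorem not_small_residue11 {d e : ℕ} (he : exc11 e = true)
    (h : 11 ∣ d ∨ (d : ℤ) ≡ 1 [ZMOD (11 : ℕ)] ∨ (d : ℤ) ≡ -1 [ZMOD (11 : ℕ)]) : d ≠ e := by
  simp only [exc11, List.contains_iff_mem, List.mem_cons, List.not_mem_nil, or_false] at he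
  simp only [Int.ModEq] at h
  push_cast at h
  omega

variable [Fact (Nat.Prime 5)] [Fact (Nat.Prime 11)] [Fact (Nat.Prime 23)]

/-- **The principal blocks for `5` and `11`.** -/
theorem exists_five_eleven (hn : Nat.card G = 10200960) (T23 : Ctx G 23 1) (he23 : T23.D.e = 11) :
    ∃ (_ : Blk G 5 o5) (u w : ℤ), ((u = 230 ∧ w = 1035) ∨ (u = 483 ∧ w = 1288)) ∧
      Nonempty (Blk G 11 (o11 u w)) := by
  obtain ⟨T11, he11⟩ := exists_eleven hn T23 he23
  obtain ⟨k, T, h⟩ := exists_ctx (p := 5) hn fs rfl (by norm_num) (by norm_num)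
  have h23 : k % 23 ≠ 0 := fun hk => by
    have := dvd_of_dvd_k T T23 (Nat.dvd_of_mod_eq_zero hk)
    norm_num at this
  have h11 : k % 11 ≠ 0 := fun hk => by
    have := dvd_of_dvd_k T T11 (Nat.dvd_of_mod_eq_zero hk)
    norm_num at this
  have hg : ∀ (χ : IrrCharacter G) (s : ℤ), (s = 1 ∨ s = -1) → kp2 (s * (deg χ : ℤ)) = true := fun χ s hs => by
    rcases hs with rfl | rfl <;> simp [kp2, g2_deg T23 he23 T11 he11 χ]
  obtain ⟨xs, y, hmem, ⟨B⟩⟩ := exists_pblk T rfl kp2 (fun χ _ _ s hs => hg χ s hs)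
    (X := tabX kp2 5 (1 + T.D.n * 5, T.D.e, k)) (Y := tabY kp2 5 (1 + T.D.n * 5, T.D.e, k)) rfl
    (fun he => by rw [tabY, if_neg he])
  have ho : (⟨5, k, T.D.e, xs, y⟩ : Opt) ∈ opts5 := List.contains_iff_mem.mp (List.all_eq_true.mp
    (List.all_eq_true.mp key_trips5 _ (List.mem_filter.mpr
      ⟨h, Bool.and_eq_true_iff.mpr ⟨decide_eq_true h23, decide_eq_true h11⟩⟩)) _ hmem)
  generalize (⟨5, k, T.D.e, xs, y⟩ : Opt) = o at B ho
  clear hmem
  have hdeg : ∀ x ∈ o.xs, ∃ χ : IrrCharacter G, deg χ = x.natAbs := fun x hx => by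
    rw [B.xs_eq, List.mem_map] at hx
    obtain ⟨χ, hχ, rfl⟩ := hx
    exact ⟨χ, (B.sgn_eq hχ).2.symm⟩
  have h11Y : ∀ (χ ξ : IrrCharacter G), exc11 (deg χ) = true → exc11 (deg ξ) = true → deg χ = deg ξ :=
    fun χ ξ h1 h2 => deg_eq_of_residue T11 fun d hd => ⟨not_small_residue11 h1 hd, not_small_residue11 h2 hd⟩
  have hcand : ∀ (kp : ℤ → Bool), (∀ χ : IrrCharacter G, ∀ s : ℤ, (s = 1 ∨ s = -1) → kp (s * (deg χ : ℤ)) = true) →
      ∃ xs y, (⟨11, 1, 5, xs, y⟩ : Opt) ∈ cands kp 11 r11 ∧ Nonempty (Blk G 11 ⟨11, 1, 5, xs, y⟩) := by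
    intro kp hkp
    obtain ⟨k', T', h'⟩ := exists_ctx (p := 11) hn fs rfl (by norm_num) (by norm_num)
    obtain ⟨w, hw⟩ : ∃ w : G, orderOf w = 11 := by
      obtain ⟨w, hw, hw1⟩ := M12Order.exists_ne_one_P T11
      exact ⟨w, orderOf_of_mem T11.card_P hw hw1⟩
    obtain rfl : k' = 1 := by
      have := (cC_of_ctx T' hw).symm.trans (cC_of_ctx T11 hw)
      omega
    have hr := of_decide_eq_true (List.all_eq_true.mp key_r11 _ (List.mem_filter.mpr ⟨h', by simp⟩))
    simp only [r11, Prod.mk.injEq] at hr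
    obtain ⟨xs, y, hm, hB⟩ := exists_pblk T' hr.2.1 kp (fun χ _ _ s hs => hkp χ s hs)
      (X := tabX kp 11 r11) (Y := tabY kp 11 r11) (by rw [hr.1]; rfl) (fun _ => by rw [hr.1]; rfl)
    exact ⟨xs, y, hm, hB⟩
  have h126 : ∀ χ : IrrCharacter G, deg χ ≠ 126 := fun χ hχ => by
    obtain ⟨xs, y, hm, -⟩ := hcand kp126 fun ξ s hs => by
      have h := hg ξ s hs
      have hd : (s * (deg ξ : ℤ)).natAbs = deg ξ := by rcases hs with rfl | rfl <;> simp
      simp only [kp126, h, hd, Bool.true_and, Bool.and_eq_true, Bool.or_eq_true, Bool.not_eq_true',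
        decide_eq_true_eq]
      refine ⟨?_, ?_⟩
      · by_cases he : exc23 (deg ξ) = true
        · exact Or.inr (hχ ▸ deg_eq_of_residue T23 fun d hd =>
            ⟨not_small_residue23 he hd, not_small_residue23 (e := deg χ) (by rw [hχ]; decide) hd⟩)
        · exact Or.inl (by simpa using he)
      · by_cases he : exc11 (deg ξ) = true
        · exact Or.inr (hχ ▸ h11Y ξ χ he (by rw [hχ]; decide))
        · exact Or.inl (by simpa using he)
    rw [key_126] at hm
    exact List.not_mem_nil hm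
  have hclash : (-644 : ℤ) ∈ o.xs → (896 : ℤ) ∈ o.xs → False := fun h1 h2 => by
    obtain ⟨χ, hχ⟩ := hdeg _ h1
    obtain ⟨ξ, hξ⟩ := hdeg _ h2
    have := h11Y χ ξ (by rw [hχ]; decide) (by rw [hξ]; decide)
    rw [hχ, hξ] at this
    exact absurd this (by decide)
  simp only [opts5, List.mem_cons, List.not_mem_nil, or_false] at ho
  rcases ho with rfl | rfl | rfl | rfl | rfl
  · obtain ⟨χ, hχ⟩ := hdeg 126 (by simp)
    exact absurd hχ (h126 χ)
  · obtain ⟨χ, hχ⟩ := hdeg 126 (by simp)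
    exact absurd hχ (h126 χ)
  · refine ⟨B, ?_⟩
    obtain ⟨ψ, hψ⟩ := hdeg 896 (by simp)
    obtain ⟨xs, y, hm, hB⟩ := hcand kp896 fun ξ s hs => by
      have h := hg ξ s hs
      have hd : (s * (deg ξ : ℤ)).natAbs = deg ξ := by rcases hs with rfl | rfl <;> simp
      simp only [kp896, h, hd, Bool.true_and, Bool.or_eq_true, Bool.not_eq_true', decide_eq_true_eq]
      by_cases he : exc11 (deg ξ) = true
      · exact Or.inr ((h11Y ξ ψ he (by rw [hψ]; decide)).trans hψ)
      · exact Or.inl (by simpa using he)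
    have := List.contains_iff_mem.mp (List.all_eq_true.mp key_896 _ hm)
    simp only [List.mem_cons, List.not_mem_nil, or_false, Opt.mk.injEq, true_and] at this
    rcases this with ⟨rfl, rfl⟩ | ⟨rfl, rfl⟩
    · exact ⟨230, 1035, Or.inl ⟨rfl, rfl⟩, hB⟩
    · exact ⟨483, 1288, Or.inr ⟨rfl, rfl⟩, hB⟩
  · exact (hclash (by simp) (by simp)).elim
  · exact (hclash (by simp) (by simp)).elim

end CfsgLib.M23Order
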