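import Cfsg.Agent.Lib.M23Order.CharKeys5

/-!
# Simple groups of order 10200960: the computations at an involution
-/

set_option autoImplicit false
set_option maxHeartbeats 2000000

namespace CfsgLib.M23Order

open CfsgLib CfsgLib.BrauerTuan CfsgLib.OrderBlocks

/-- The possible orders of centralisers of involutions. -/
def centOrders : List ℕ := (divs [128, 9, 7]).filter fun c => decide (c % 2 = 0)

/-- The values at an involution of the members of the blocks for `5` and `11`. -/
def involOK (c : ℕ) (U W a b e s f : ℤ) : Bool :=
  let w := e - 1 - a - b + s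
  let z := 1 + f + 2 * e
  (vals 10200960 c W.natAbs).contains w && (vals 10200960 c 2024).contains z &&
    decide (1 + a * a + b * b + s * s + w * w + 2 * (e * e) + f * f + z * z ≤ (c : ℤ)) &&
    decide ((tFrac ⟨11, 1, 5, [45, 45, -U, W], some 896⟩ [a, b, s, w] e).1 = 0)

theorem key_invol : centOrders.all (fun c => ([(230, 1035), (483, 1288)] : List (ℤ × ℤ)).all fun uw =>
    (vals 10200960 c 45).all fun a => (vals 10200960 c 45).all fun b => (vals 10200960 c 896).all fun e =>
      (vals 10200960 c uw.1.natAbs).all fun s => (vals 10200960 c 231).all fun f =>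
        !involOK c uw.1 uw.2 a b e s f ||
          (decide (uw = (230, 1035)) && decide (c = 2688) && decide (a = -3) && decide (b = -3) && decide (e = 0) &&
            decide (s = 22) && decide (f = 7))) = true := by decide +kernel

/-- The filter for the `23`-block: degrees prime to `11` come from the `11`-block. -/
def kp23b (x : ℤ) : Bool :=
  kp2 x && (decide (x.natAbs % 11 = 0) || ([45, 896, 230, 1035] : List ℕ).contains x.natAbs)

/-- The triple of the principal `23`-block. -/
def r23 : ℕ × ℕ × ℕ := (40320, 11, 1)

/-- The known values at an involution, by degree. -/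
def known23 (d : ℕ) : List ℤ :=
  if d = 45 then [-3] else if d = 896 then [0] else vals 10200960 2688 d

/-- The principal `23`-block. -/
def o23 : Opt := ⟨23, 1, 11, [-22, -45, -45, 231, 231, 231, -896, -896, 990, 990], some 770⟩

/-- The degree conditions on a candidate for the `23`-block. -/
def cand23 (o : Opt) : Bool :=
  match o.y with
  | none => false
  | some y =>
    decide (o.degs.count 45 = 2) && decide (o.degs.count 896 = 2) && o.degs.contains 231 &&
      decide ((o.xs.map fun x => x * x).sum + 2 * (y * y) ≤ 4980258)

/-- The values at an involution of a member list of the `23`-block pass the tests. -/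
def rowOK23 (o : Opt) (As : List ℤ) : Bool :=
  match o.y with
  | none => false
  | some y =>
    let Y := sgn y * sigSum o.xs As
    decide ((As.map fun A => A * A).sum + 2 * (Y * Y) ≤ 1410) && (vals 10200960 2688 y.natAbs).contains Y &&
      ((o.degs.zip (As ++ List.replicate o.t Y)).contains (231, 7)) && decide ((tFrac o As Y).1 = 0)

/-- Depth first check of the value lists. -/
def dfs (test : List ℤ → Bool) : List (List ℤ) → ℤ → List ℤ → Bool
  | [], _, acc => test acc.reverse
  | V :: Vs, B, acc => V.all fun A => decide (B < A * A) || dfs test Vs (B - A * A) (A :: acc)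

/-- The value lists of a candidate give only the known column. -/
def leaf23 (o : Opt) : Bool :=
  dfs (fun As => !rowOK23 o As || (decide (o = o23) && decide (As = [6, -3, -3, 7, 7, 7, 0, 0, -18, -18])))
    (o.xs.map fun x => known23 x.natAbs) 1410 []

/-- The candidates left by the degrees. -/
def opts23 : List Opt :=
  [⟨23, 1, 11, [-22, -22, -22, -45, -45, 231, 231, -896, -896, 990], some (-495)⟩,
   ⟨23, 1, 11, [-22, -22, -22, -45, -45, 231, -896, -896, 990, 990], some (264)⟩,
   ⟨23, 1, 11, [-22, -45, -45, 231, 231, 231, -896, -896, 990, 990], some (770)⟩,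
   ⟨23, 1, 11, [-45, -45, 231, 231, 231, 231, 231, 231, -896, -896], some (-495)⟩,
   ⟨23, 1, 11, [-45, -45, 231, 231, 231, 231, 231, -896, -896, 990], some (264)⟩,
   ⟨23, 1, 11, [-45, -45, 231, 231, 231, 231, -528, -896, -896, 990], some (-495)⟩,
   ⟨23, 1, 11, [-45, -45, 231, 231, 231, -528, -896, -896, 990, 990], some (264)⟩,
   ⟨23, 1, 11, [-45, -45, 231, 231, -528, -528, -896, -896, 990, 990], some (-495)⟩]

theorem key_opts23 : ((cands kp23b 23 r23).filter cand23).all (fun o => opts23.contains o) = true := by
  decide +kernel

/-- The check splits over the first list of values. -/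
theorem dfs_split (test : List ℤ → Bool) (V : List ℤ) (Vs : List (List ℤ)) (B : ℤ) (acc : List ℤ) (p : ℤ → Bool)
    (h1 : dfs test (V.filter p :: Vs) B acc = true) (h2 : dfs test (V.filter (fun A => !p A) :: Vs) B acc = true) :
    dfs test (V :: Vs) B acc = true := by
  simp only [dfs, List.all_eq_true, List.mem_filter] at h1 h2 ⊢
  intro A hA
  by_cases h : p A = true
  · exact h1 A ⟨hA, h⟩
  · exact h2 A ⟨hA, by simpa using h⟩

theorem key_leaf0 : leaf23 ⟨23, 1, 11, [-22, -22, -22, -45, -45, 231, 231, -896, -896, 990], some (-495)⟩ = true := by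
  refine dfs_split _ _ _ _ _ (fun A => decide (A ≤ 0)) ?_ ?_ <;> decide +kernel

theorem key_leaf1 : leaf23 ⟨23, 1, 11, [-22, -22, -22, -45, -45, 231, -896, -896, 990, 990], some (264)⟩ = true := by
  refine dfs_split _ _ _ _ _ (fun A => decide (A ≤ 0)) ?_ ?_ <;> decide +kernel

theorem key_leaf2 : leaf23 ⟨23, 1, 11, [-22, -45, -45, 231, 231, 231, -896, -896, 990, 990], some (770)⟩ = true := by decide +kernel

theorem key_leaf3 : leaf23 ⟨23, 1, 11, [-45, -45, 231, 231, 231, 231, 231, 231, -896, -896], some (-495)⟩ = true := by decide +kernel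

theorem key_leaf4 : leaf23 ⟨23, 1, 11, [-45, -45, 231, 231, 231, 231, 231, -896, -896, 990], some (264)⟩ = true := by decide +kernel

theorem key_leaf5 : leaf23 ⟨23, 1, 11, [-45, -45, 231, 231, 231, 231, -528, -896, -896, 990], some (-495)⟩ = true := by decide +kernel

theorem key_leaf6 : leaf23 ⟨23, 1, 11, [-45, -45, 231, 231, 231, -528, -896, -896, 990, 990], some (264)⟩ = true := by decide +kernel

theorem key_leaf7 : leaf23 ⟨23, 1, 11, [-45, -45, 231, 231, -528, -528, -896, -896, 990, 990], some (-495)⟩ = true := by decide +kernel

theorem key_leaf : opts23.all leaf23 = true := by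
  simp only [opts23, List.all_cons, List.all_nil, key_leaf0, key_leaf1, key_leaf2, key_leaf3, key_leaf4, key_leaf5,
    key_leaf6, key_leaf7, Bool.and_self]

end CfsgLib.M23Order
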