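import Cfsg.Agent.Lib.M23Order.CharFive
import Cfsg.Agent.Lib.M23Order.CharKeysInvol

/-!
# Simple groups of order 10200960: the column at an involution and the 17 characters
-/

set_option autoImplicit false
set_option linter.unusedSectionVars false
set_option linter.style.haveILetI false
set_option maxHeartbeats 2000000

namespace CfsgLib.M23Order

open Cfsg
open scoped ComplexConjugate CfsgLib.Char
open CfsgLib CfsgLib.BrauerTuan CfsgLib.OrderBlocks
open scoped _root_.Classical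

universe u

/-- The degrees of the characters. -/
def degs17 : List ℕ := [1, 22, 45, 45, 230, 231, 231, 231, 253, 770, 770, 896, 896, 990, 990, 1035, 2024]

/-- The column at an involution. -/
def row17 : List ℤ := [1, 6, -3, -3, 22, 7, 7, 7, 13, -14, -14, 0, 0, -18, -18, 27, 8]

/-- The characters, with the relations of the blocks for `5`, `11` and `23` and the column at an
involution. -/
structure Tab (G : Type u) [Group G] [Fintype G] where
  c22 : IrrCharacter G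
  a45 : IrrCharacter G
  b45 : IrrCharacter G
  c230 : IrrCharacter G
  c231 : IrrCharacter G
  d231 : IrrCharacter G
  e231 : IrrCharacter G
  c253 : IrrCharacter G
  a770 : IrrCharacter G
  b770 : IrrCharacter G
  a896 : IrrCharacter G
  b896 : IrrCharacter G
  a990 : IrrCharacter G
  b990 : IrrCharacter G
  c1035 : IrrCharacter G
  c2024 : IrrCharacter G
  nodup : [Blocks.trivIrr G, c22, a45, b45, c230, c231, d231, e231, c253, a770, b770, a896, b896, a990, b990,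
    c1035, c2024].Nodup
  cover : ∀ χ : IrrCharacter G, χ ∈ [Blocks.trivIrr G, c22, a45, b45, c230, c231, d231, e231, c253, a770, b770,
    a896, b896, a990, b990, c1035, c2024]
  degs : [Blocks.trivIrr G, c22, a45, b45, c230, c231, d231, e231, c253, a770, b770, a896, b896, a990, b990,
    c1035, c2024].map deg = degs17
  rel5 : ∀ g, ¬ 5 ∣ orderOf g →
    1 + (c231 : G → ℂ) g + (a896 : G → ℂ) g + (b896 : G → ℂ) g - (c2024 : G → ℂ) g = 0
  rel11 : ∀ g, ¬ 11 ∣ orderOf g →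
    (a896 : G → ℂ) g = 1 + (a45 : G → ℂ) g + (b45 : G → ℂ) g - (c230 : G → ℂ) g + (c1035 : G → ℂ) g ∧
      (b896 : G → ℂ) g = (a896 : G → ℂ) g
  rel23 : ∀ g, ¬ 23 ∣ orderOf g →
    (a770 : G → ℂ) g = 1 - (c22 : G → ℂ) g - ((a45 : G → ℂ) g + (b45 : G → ℂ) g) +
        ((c231 : G → ℂ) g + (d231 : G → ℂ) g + (e231 : G → ℂ) g) - ((a896 : G → ℂ) g + (b896 : G → ℂ) g) +
        ((a990 : G → ℂ) g + (b990 : G → ℂ) g) ∧ (b770 : G → ℂ) g = (a770 : G → ℂ) g
  val5 : ∀ v : G, orderOf v = 5 → (c231 : G → ℂ) v = 1 ∧ (a896 : G → ℂ) v = 1 ∧ (b896 : G → ℂ) v = 1 ∧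
    (c2024 : G → ℂ) v = -1
  cent5 : ∀ v : G, orderOf v = 5 → cC v = 15
  cent11 : ∀ v : G, orderOf v = 11 → cC v = 11
  cent23 : ∀ v : G, orderOf v = 23 → cC v = 23
  invol : ∀ t : G, orderOf t = 2 → cC t = 2688 ∧
    [Blocks.trivIrr G, c22, a45, b45, c230, c231, d231, e231, c253, a770, b770, a896, b896, a990, b990,
      c1035, c2024].map (iv · t) = row17

theorem mem_pair {β : Type*} {p q a b : β} (hpq : p ≠ q) (hp : p ∈ [a, b]) (hq : q ∈ [a, b]) :
    (p = a ∧ q = b) ∨ (p = b ∧ q = a) := by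
  simp only [List.mem_cons, List.not_mem_nil, or_false] at hp hq
  rcases hp with rfl | rfl <;> rcases hq with rfl | rfl
  · exact absurd rfl hpq
  · exact Or.inl ⟨rfl, rfl⟩
  · exact Or.inr ⟨rfl, rfl⟩
  · exact absurd rfl hpq

theorem count_le_of_subset {β : Type*} (f : β → ℕ) {l l' : List β} (hl : l.Nodup) (d : ℕ)
    (h : ∀ a ∈ l, f a = d → a ∈ l') : (l.map f).count d ≤ (l'.map f).count d := by
  rw [List.count_eq_countP, List.count_eq_countP, List.countP_map, List.countP_map, List.countP_eq_length_filter,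
    List.countP_eq_length_filter]
  refine (List.subperm_of_subset (hl.filter _) fun a ha => ?_).length_le
  obtain ⟨ha', hd⟩ := List.mem_filter.mp ha
  exact List.mem_filter.mpr ⟨h a ha' (by simpa using hd), hd⟩

variable {G : Type u} [Group G] [Fintype G] [IsSimpleGroup G]

/-- Every element of order `p` has a conjugate in the Sylow subgroup. -/
theorem exists_conj_mem {p : ℕ} [Fact p.Prime] (P : Sylow p G) {w : G} (hw : orderOf w = p) :
    ∃ a : G, a * w * a⁻¹ ∈ (P : Subgroup G) := by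
  have h : IsPGroup p (Subgroup.zpowers w) := IsPGroup.of_card (n := 1) (by rw [Nat.card_zpowers, hw, pow_one])
  obtain ⟨S, hS⟩ := h.exists_le_sylow
  obtain ⟨a, ha⟩ := MulAction.exists_smul_eq G S P
  refine ⟨a, ?_⟩
  rw [← ha, Sylow.smul_def]
  exact Subgroup.mem_map_of_mem _ (hS (Subgroup.mem_zpowers w))

variable [Fact (Nat.Prime 5)] [Fact (Nat.Prime 11)] [Fact (Nat.Prime 23)]

/-- The members of the blocks for `5` and `11`. -/
structure Part (G : Type u) [Group G] [Fintype G] [Fact (Nat.Prime 5)] [Fact (Nat.Prime 11)] where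
  u : ℤ
  w : ℤ
  huw : (u = 230 ∧ w = 1035) ∨ (u = 483 ∧ w = 1288)
  B5 : Blk G 5 o5
  B11 : Blk G 11 (o11 u w)
  f : IrrCharacter G
  z : IrrCharacter G
  a : IrrCharacter G
  b : IrrCharacter G
  s : IrrCharacter G
  r : IrrCharacter G
  E : IrrCharacter G
  F : IrrCharacter G
  list11 : B11.xl ++ B11.yl = [a, b, s, r, E, F]
  xl11 : B11.xl = [a, b, s, r]
  yl11 : B11.yl = [E, F]
  degs : deg f = 231 ∧ deg z = 2024 ∧ deg a = 45 ∧ deg b = 45 ∧ deg s = u.natAbs ∧ deg r = w.natAbs ∧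
    deg E = 896 ∧ deg F = 896
  rel5 : ∀ g, ¬ 5 ∣ orderOf g → 1 + (f : G → ℂ) g + (E : G → ℂ) g + (F : G → ℂ) g - (z : G → ℂ) g = 0
  rel11 : ∀ g, ¬ 11 ∣ orderOf g →
    (E : G → ℂ) g = 1 + (a : G → ℂ) g + (b : G → ℂ) g - (s : G → ℂ) g + (r : G → ℂ) g ∧
      (F : G → ℂ) g = (E : G → ℂ) g
  val5 : ∀ v : G, orderOf v = 5 → (f : G → ℂ) v = 1 ∧ (E : G → ℂ) v = 1 ∧ (F : G → ℂ) v = 1 ∧
    (z : G → ℂ) v = -1

theorem exists_part (B5 : Blk G 5 o5) {u w : ℤ} (huw : (u = 230 ∧ w = 1035) ∨ (u = 483 ∧ w = 1288))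
    (B11 : Blk G 11 (o11 u w)) : Nonempty (Part G) := by
  obtain ⟨f, l₁, hl₁, hf, hm₁⟩ := List.map_eq_cons_iff.mp (B5.xs_eq.symm.trans (rfl : o5.xs = [231, 896, 896, -2024]))
  obtain ⟨E', l₂, hl₂, hE', hm₂⟩ := List.map_eq_cons_iff.mp hm₁
  obtain ⟨F', l₃, hl₃, hF', hm₃⟩ := List.map_eq_cons_iff.mp hm₂
  obtain ⟨z, l₄, hl₄, hz, hm₄⟩ := List.map_eq_cons_iff.mp hm₃
  rw [List.map_eq_nil_iff] at hm₄
  subst hm₄ hl₄ hl₃ hl₂
  obtain ⟨a, m₁, hn₁, ha, hq₁⟩ := List.map_eq_cons_iff.mp (B11.xs_eq.symm.trans (rfl : (o11 u w).xs = [45, 45, -u, w]))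
  obtain ⟨b, m₂, hn₂, hb, hq₂⟩ := List.map_eq_cons_iff.mp hq₁
  obtain ⟨s, m₃, hn₃, hs, hq₃⟩ := List.map_eq_cons_iff.mp hq₂
  obtain ⟨r, m₄, hn₄, hr, hq₄⟩ := List.map_eq_cons_iff.mp hq₃
  rw [List.map_eq_nil_iff] at hq₄
  subst hq₄ hn₄ hn₃ hn₂
  have sd : ∀ {p : ℕ} [Fact p.Prime] {o : Opt} (B : Blk G p o) {χ : IrrCharacter G}, χ ∈ B.xl → ∀ {x : ℤ},
      B.σ χ * (deg χ : ℤ) = x → B.σ χ = sgn x ∧ deg χ = x.natAbs := fun B χ hχ x hx => by
    obtain ⟨h1, h2⟩ := B.sgn_eq hχ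
    rw [hx] at h1 h2
    exact ⟨h1.symm, h2.symm⟩
  obtain ⟨σf, df⟩ := sd B5 (by rw [hl₁]; simp) hf
  obtain ⟨σE, dE⟩ := sd B5 (by rw [hl₁]; simp) hE'
  obtain ⟨σF, dF⟩ := sd B5 (by rw [hl₁]; simp) hF'
  obtain ⟨σz, dz⟩ := sd B5 (by rw [hl₁]; simp) hz
  obtain ⟨σa, da⟩ := sd B11 (by rw [hn₁]; simp) ha
  obtain ⟨σb, db⟩ := sd B11 (by rw [hn₁]; simp) hb
  obtain ⟨σs, ds⟩ := sd B11 (by rw [hn₁]; simp) hs
  obtain ⟨σr, dr⟩ := sd B11 (by rw [hn₁]; simp) hr
  norm_num [sgn] at σf σE σF σz σa σb df dE dF dz da db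
  have σs' : B11.σ s = -1 := by rcases huw with ⟨rfl, rfl⟩ | ⟨rfl, rfl⟩ <;> norm_num [sgn] at σs ⊢ <;> exact σs
  have σr' : B11.σ r = 1 := by rcases huw with ⟨rfl, rfl⟩ | ⟨rfl, rfl⟩ <;> norm_num [sgn] at σr ⊢ <;> exact σr
  obtain ⟨hlen, hyd, -⟩ := B11.yl_some 896 rfl
  obtain ⟨E, F, hyl⟩ : ∃ E F, B11.yl = [E, F] := by
    match h : B11.yl, hlen with
    | [E, F], _ => exact ⟨E, F, rfl⟩
    | [], h' => simp [o11, Opt.t] at h'
    | [_], h' => simp [o11, Opt.t] at h'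
    | _ :: _ :: _ :: _, h' => simp [o11, Opt.t] at h'
  have hpair : (E' = E ∧ F' = F) ∨ (E' = F ∧ F' = E) := by
    have hne : E' ≠ F' := by
      intro h
      have := B5.nodup
      rw [hl₁, h] at this
      simp at this
    have hmem : ∀ χ ∈ B5.xl, deg χ = 896 → χ ∈ [E, F] := fun χ hχ hd => by
      have h := B11.mem_of_not_dvd rfl (B5.ne_triv (List.mem_append_left _ hχ)) (by rw [hd]; norm_num)
      rw [hn₁, hyl] at h
      simp only [List.cons_append, List.nil_append, List.mem_cons, List.not_mem_nil, or_false] at h ⊢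
      rcases h with rfl | rfl | rfl | rfl | h | h
      · omega
      · omega
      · rcases huw with ⟨rfl, rfl⟩ | ⟨rfl, rfl⟩ <;> omega
      · rcases huw with ⟨rfl, rfl⟩ | ⟨rfl, rfl⟩ <;> omega
      · exact Or.inl h
      · exact Or.inr h
    exact mem_pair hne (hmem _ (by rw [hl₁]; simp) dE) (hmem _ (by rw [hl₁]; simp) dF)
  have hEd : deg E = 896 ∧ deg F = 896 := ⟨hyd E (by rw [hyl]; simp), hyd F (by rw [hyl]; simp)⟩
  refine ⟨⟨u, w, huw, B5, B11, f, z, a, b, s, r, E, F, by rw [hn₁, hyl]; rfl, hn₁, hyl,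
    ⟨df, dz, da, db, by rw [ds]; simp, dr, hEd.1, hEd.2⟩, fun g hg => ?_, fun g hg => ?_, fun v hv => ?_⟩⟩
  · have h := B5.xs_map.choose_spec.2.2.2.1 rfl g hg
    change (1 : ℂ) + (B5.xl.map fun χ : IrrCharacter G => (B5.σ χ : ℂ) * (χ : G → ℂ) g).sum = 0 at h
    simp only [hl₁, List.map_cons, List.map_nil, List.sum_cons, List.sum_nil, σf, σE, σF, σz] at h
    push_cast at h
    rcases hpair with ⟨rfl, rfl⟩ | ⟨rfl, rfl⟩ <;> linear_combination h
  · have h := fun ψ hψ => B11.xs_map.choose_spec.2.2.2.2 896 rfl ψ hψ g hg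
    have h1 : ∀ ψ ∈ B11.yl, (ψ : G → ℂ) g =
        1 + (a : G → ℂ) g + (b : G → ℂ) g - (s : G → ℂ) g + (r : G → ℂ) g := fun ψ hψ => by
      have h := h ψ hψ
      change ((sgn 896 : ℤ) : ℂ) * (ψ : G → ℂ) g =
        1 + (B11.xl.map fun χ : IrrCharacter G => (B11.σ χ : ℂ) * (χ : G → ℂ) g).sum at h
      simp only [hn₁, List.map_cons, List.map_nil, List.sum_cons, List.sum_nil, σa, σb, σs', σr',
        show sgn 896 = 1 from rfl] at h
      push_cast at h
      linear_combination h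
    exact ⟨h1 E (by rw [hyl]; simp), (h1 F (by rw [hyl]; simp)).trans (h1 E (by rw [hyl]; simp)).symm⟩
  · obtain ⟨c, hc⟩ := exists_conj_mem B5.T.P hv
    have hc1 : c * v * c⁻¹ ≠ 1 := fun e => by
      rw [conj_eq_one_iff] at e
      rw [e, orderOf_one] at hv
      norm_num at hv
    have key : ∀ χ ∈ B5.xl, (χ : G → ℂ) v = B5.σ χ := fun χ hχ =>
      (Char.isClassFunction_of_isCharacter (Char.isCharacter_of_isIrr χ.2) v c).symm.trans (B5.value_P hχ hc hc1)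
    have k1 := key f (by rw [hl₁]; simp)
    have k2 := key E' (by rw [hl₁]; simp)
    have k3 := key F' (by rw [hl₁]; simp)
    have k4 := key z (by rw [hl₁]; simp)
    simp only [σf, σE, σF, σz] at k1 k2 k3 k4
    push_cast at k1 k2 k3 k4
    rcases hpair with ⟨rfl, rfl⟩ | ⟨rfl, rfl⟩
    · exact ⟨k1, k2, k3, k4⟩
    · exact ⟨k1, k3, k2, k4⟩

theorem Part.ne_triv (Q : Part G) :
    Q.f ≠ Blocks.trivIrr G ∧ Q.z ≠ Blocks.trivIrr G := by
  obtain ⟨h1, h2, -⟩ := Q.degs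
  exact ⟨fun e => by rw [e, deg_triv] at h1; norm_num at h1, fun e => by rw [e, deg_triv] at h2; norm_num at h2⟩

theorem cent_odd {p k : ℕ} [Fact p.Prime] (T : Ctx G p k) (hodd : ¬ 2 ∣ p * k) {t : G} (ht : orderOf t = 2) :
    ¬ p ∣ cC t := fun h => by
  obtain ⟨w, hw⟩ := exists_prime_orderOf_dvd_card' (G := Subgroup.centralizer ({t} : Set G)) p h
  have hwo : orderOf (w : G) = p := by rw [Subgroup.orderOf_coe]; exact hw
  refine hodd ?_
  rw [← cC_of_ctx T hwo, cC, ← ht]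
  exact Subgroup.orderOf_dvd_natCard _
    (Subgroup.mem_centralizer_singleton_iff.mpr (Subgroup.mem_centralizer_singleton_iff.mp w.2).symm)

/-- The order of the centraliser of an involution and the values of the known characters. -/
theorem Part.invol (Q : Part G) (T23 : Ctx G 23 1) {t : G} (ht : orderOf t = 2) :
    cC t = 2688 ∧ Q.u = 230 ∧ Q.w = 1035 ∧ iv Q.a t = -3 ∧ iv Q.b t = -3 ∧ iv Q.E t = 0 ∧ iv Q.F t = 0 ∧
      iv Q.s t = 22 ∧ iv Q.r t = 27 ∧ iv Q.f t = 7 ∧ iv Q.z t = 8 := by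
  have hn := Q.B11.T.card_eq
  have hcomm := Q.B11.T.noncomm
  have htt := mul_self_of_order_two ht
  obtain ⟨df, dz, da, db, ds, dr, dE, dF⟩ := Q.degs
  obtain ⟨c, hc⟩ : ∃ c, c = cC t := ⟨_, rfl⟩
  have hcm : c ∈ centOrders := by
    have h5 := (Nat.prime_five.coprime_iff_not_dvd.mpr (hc ▸ cent_odd Q.B5.T (by norm_num [o5]) ht)).symm
    have h11 := ((Nat.Prime.coprime_iff_not_dvd (by norm_num : Nat.Prime 11)).mpr
      (hc ▸ cent_odd Q.B11.T (by norm_num [o11]) ht)).symm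
    have h23 := ((Nat.Prime.coprime_iff_not_dvd (by norm_num : Nat.Prime 23)).mpr
      (hc ▸ cent_odd T23 (by norm_num) ht)).symm
    have h8064 : c ∣ ([128, 9, 7] : List ℕ).prod := (h5.mul_right (h11.mul_right h23)).dvd_of_dvd_mul_left
      (show c ∣ 5 * (11 * 23) * _ by norm_num; exact hc ▸ cC_dvd hn t)
    simp only [centOrders, List.mem_filter, decide_eq_true_eq]
    refine ⟨mem_divs _ (by norm_num) _ h8064, Nat.mod_eq_zero_of_dvd ?_⟩
    rw [hc, cC, ← ht]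
    exact Subgroup.orderOf_dvd_natCard _ (Subgroup.mem_centralizer_singleton_iff.mpr rfl)
  have hne : ∀ χ ∈ [Q.a, Q.b, Q.s, Q.r, Q.E, Q.F], χ ≠ Blocks.trivIrr G := fun χ hχ =>
    Q.B11.ne_triv (Q.list11 ▸ hχ)
  have hv : ∀ χ, χ ≠ Blocks.trivIrr G → ∀ d, deg χ = d → iv χ t ∈ vals 10200960 c d := fun χ hne d hd =>
    hc ▸ hd ▸ iv_mem_vals hn hcomm hne ht
  have e5 : 1 + iv Q.f t + iv Q.E t + iv Q.F t - iv Q.z t = 0 := by
    have h := Q.rel5 t (by rw [ht]; norm_num)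
    rw [iv_spec _ htt, iv_spec _ htt, iv_spec _ htt, iv_spec _ htt] at h
    exact_mod_cast h
  obtain ⟨e11, eF⟩ : iv Q.E t = 1 + iv Q.a t + iv Q.b t - iv Q.s t + iv Q.r t ∧ iv Q.F t = iv Q.E t := by
    obtain ⟨h, h'⟩ := Q.rel11 t (by rw [ht]; norm_num)
    simp only [iv_spec _ htt] at h h'
    exact ⟨by exact_mod_cast h, by exact_mod_cast h'⟩
  have hnd : [Blocks.trivIrr G, Q.a, Q.b, Q.s, Q.r, Q.E, Q.F, Q.f, Q.z].Nodup := by
    have h := Q.B11.nodup
    rw [Q.list11] at h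
    refine List.Nodup.sublist ?_ (List.nodup_append.mpr ⟨h, ?_, ?_⟩ :
      ((Blocks.trivIrr G :: [Q.a, Q.b, Q.s, Q.r, Q.E, Q.F]) ++ [Q.f, Q.z]).Nodup)
    · exact List.Sublist.refl _
    · simp only [List.nodup_cons, List.mem_singleton, List.not_mem_nil, not_false_iff, List.nodup_nil, and_true]
      exact fun e => by rw [e, dz] at df; norm_num at df
    · intro x hx y hy hxy
      subst hxy
      have hx' : deg x ∈ [1, 45, 45, Q.u.natAbs, Q.w.natAbs, 896, 896] := by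
        have h := List.mem_map_of_mem (f := deg) hx
        simpa only [List.map_cons, List.map_nil, deg_triv, da, db, ds, dr, dE, dF] using h
      simp only [List.mem_cons, List.not_mem_nil, or_false] at hx' hy
      rcases Q.huw with ⟨hu, hw⟩ | ⟨hu, hw⟩ <;> rw [hu, hw] at hx' <;> rcases hy with rfl | rfl <;>
        simp only [df, dz] at hx' <;> norm_num at hx'
  have hsq := sum_sq_le hnd (g := t) fun χ _ => iv_spec χ htt
  simp only [List.map_cons, List.map_nil, List.sum_cons, List.sum_nil, iv_triv] at hsq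
  rw [← hc] at hsq
  have h0 := Q.B11.tFrac_eq_zero_of_odd (by norm_num) (by norm_num [o11]) htt (fun χ => iv χ t) (iv Q.E t)
    (fun χ _ => iv_spec χ htt) (fun ψ hψ => by
      rw [Q.yl11] at hψ
      simp only [List.mem_cons, List.not_mem_nil, or_false] at hψ
      rcases hψ with rfl | rfl
      · exact iv_spec _ htt
      · rw [iv_spec _ htt, eF])
  simp only [Q.xl11, List.map_cons, List.map_nil, o11] at h0
  have key := List.all_eq_true.mp (List.all_eq_true.mp key_invol c hcm) (Q.u, Q.w)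
    (by rcases Q.huw with ⟨hu, hw⟩ | ⟨hu, hw⟩ <;> simp [hu, hw])
  simp only [List.all_eq_true] at key
  have key' := key _ (hv Q.a (hne _ (by simp)) 45 da) _ (hv Q.b (hne _ (by simp)) 45 db)
    _ (hv Q.E (hne _ (by simp)) 896 dE) _ (hv Q.s (hne _ (by simp)) _ ds) _ (hv Q.f Q.ne_triv.1 231 df)
  have hw' : iv Q.E t - 1 - iv Q.a t - iv Q.b t + iv Q.s t = iv Q.r t := by omega
  have hz' : 1 + iv Q.f t + 2 * iv Q.E t = iv Q.z t := by omega
  have hok : involOK c Q.u Q.w (iv Q.a t) (iv Q.b t) (iv Q.E t) (iv Q.s t) (iv Q.f t) = true := by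
    simp only [involOK, hw', hz', Bool.and_eq_true, List.contains_iff_mem, decide_eq_true_eq]
    refine ⟨⟨⟨hv Q.r (hne _ (by simp)) _ dr, hv Q.z Q.ne_triv.2 _ dz⟩, ?_⟩, h0⟩
    rw [eF] at hsq
    linarith
  rw [hok] at key'
  simp only [Bool.not_true, Bool.false_or, Bool.and_eq_true, decide_eq_true_eq, Prod.mk.injEq] at key'
  obtain ⟨⟨⟨⟨⟨⟨⟨k1, k2⟩, k3⟩, k4⟩, k5⟩, k6⟩, k7⟩, k8⟩ := key'
  exact ⟨hc ▸ k3, k1, k2, k4, k5, k6, by omega, k7, by omega, k8, by omega⟩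

end CfsgLib.M23Order
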