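import Cfsg.Agent.Lib.M23Order.CharDefs

/-!
# Simple groups of order 10200960: the block computations for the prime 23
-/

set_option autoImplicit false
set_option maxHeartbeats 2000000

namespace CfsgLib.M23Order

open CfsgLib CfsgLib.BrauerTuan CfsgLib.OrderBlocks

/-- The signed degree is not `± 231`. -/
def not231 (x : ℤ) : Bool := decide (x.natAbs ≠ 231)

theorem key_order23 : orderBad 10200960 23 [5, 7, 11, 23] 3193
    [(1680, 11, 24), (1680, 22, 12), (40320, 11, 1)] = true := by decide +kernel

theorem key_x24 : (xList 10200960 23 24 (11 * 1680) [5, 7, 11, 23] 3193).filter not231 =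
      [70, -528, -1540, 1680] ∧
    (yList 10200960 23 24 (11 * 1680) 11 [5, 7, 11, 23] 3193).filter not231 = [-35, 80, 264, 770, -840] := by
  decide +kernel

theorem key_x12 : (xList 10200960 23 12 (22 * 1680) [5, 7, 11, 23] 3193).filter not231 =
    [70, -160, -528, -1540, 1680] := by decide +kernel

theorem key_opts24 : optsFrom 23 24 11 [70, -528, -1540, 1680] [-35, 80, 264, 770, -840] = [] := by
  decide +kernel

theorem key_opts12 : optsFrom 23 12 22 [70, -160, -528, -1540, 1680] [] = [] := by decide +kernel

end CfsgLib.M23Order
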