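import Cfsg.Agent.Lib.M23Order.CharKeysInvol

/-!
# Simple groups of order 10200960: the computations for the prime 7 and for elements of order 3
-/

set_option autoImplicit false
set_option maxHeartbeats 2000000

namespace CfsgLib.M23Order

open CfsgLib CfsgLib.BrauerTuan CfsgLib.OrderBlocks

/-- The degrees of the characters, as a list for the checkers. -/
def degList : List ℕ := [1, 22, 45, 45, 230, 231, 231, 231, 253, 770, 770, 896, 896, 990, 990, 1035, 2024]

/-- The filter by the degrees. -/
def kpDeg (x : ℤ) : Bool := degList.contains x.natAbs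

/-- The degrees of a candidate occur among the degrees. -/
def fits (o : Opt) : Bool := o.degs.all fun d => decide (o.degs.count d ≤ degList.count d)

theorem key_trips7b : ((trips 10200960 7 fs).filter fun r => decide (r.2.2 % 2 = 0) && decide (r.2.2 % 5 ≠ 0) &&
      decide (r.2.2 % 11 ≠ 0) && decide (r.2.2 % 23 ≠ 0)).all
    (fun r => ((cands kpDeg 7 r).filter fits).all fun o =>
      (decide (o.k = 16) || decide (o.k = 2)) && decide (o.xs = [-1035, 2024]) && decide (o.y = some 990)) = true := by
  decide +kernel

/-- The possible values at an element of order `3` or `9`. -/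
def vals3 (c d : ℕ) : List ℤ :=
  ((List.range (2 * bnd c + 1)).map fun i : ℕ => (i : ℤ) - (bnd c : ℤ)).filter fun A =>
    decide (A * A ≤ (c : ℤ)) && decide ((A - (d : ℤ)) % 3 = 0) &&
      decide ((((10200960 / c : ℕ) : ℤ) * A) % (d : ℤ) = 0)

/-- The conditions on a value at an element of order `3` or `9`. -/
def ok3 (c d : ℕ) (A : ℤ) : Bool :=
  decide (A * A ≤ (c : ℤ)) && decide ((A - (d : ℤ)) % 3 = 0) &&
    decide ((((10200960 / c : ℕ) : ℤ) * A) % (d : ℤ) = 0)

/-- The column at an element of order `3` or `9` passes the tests. -/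
def colOK (c : ℕ) (a e w z : ℤ) : Bool :=
  let T := -3 * (1 + z)
  let B := 1 + z - a - e - 3 * w
  let f := z - 1 - 2 * e
  let h := 1 - w + z
  let s := 1 + B + w - e
  let g := 1 - a - B + T - 2 * e + 2 * h
  let u2 := 1 + 2 * a + T + 2 * e - z
  let u := u2 / 2
  let D := T - f
  decide (u2 % 2 = 0) && ok3 c 231 f && ok3 c 990 h && ok3 c 230 s && ok3 c 770 g && ok3 c 253 u &&
    decide (B * B + D * D ≤ 2 * ((c : ℤ) -
      (1 + a * a + 2 * (e * e) + w * w + z * z + f * f + 2 * (h * h) + 2 * (g * g) + s * s + u * u)))

/-- The possible orders of centralisers of elements of order `3` or `9`. -/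
def centOrders3 : List ℕ := (divs [128, 5, 7]).map (9 * ·)

theorem key_three : centOrders3.all (fun c =>
    (vals3 c 22).all fun a => (vals3 c 896).all fun e => (vals3 c 1035).all fun w => (vals3 c 2024).all fun z =>
      !colOK c a e w z ||
        (decide (c = 180) && decide (a = 4) && decide (e = -4) && decide (w = 0) && decide (z = -1))) = true := by
  decide +kernel

end CfsgLib.M23Order
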