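import Cfsg.Agent.Lib.M23Order.CharTabTools
import Cfsg.Agent.Lib.M23Order.CharKeys7

/-!
# Simple groups of order 10200960: the principal 7-block
-/

set_option autoImplicit false
set_option linter.unusedSectionVars false
set_option linter.style.haveILetI false
set_option maxHeartbeats 2000000

namespace CfsgLib.M23Order

open Cfsg
open scoped ComplexConjugate CfsgLib.Char
open CfsgLib CfsgLib.BrauerTuan CfsgLib.OrderBlocks
open scoped _root_.Classical

universe u

/-- What the principal `7`-block gives. -/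
structure Seven (G : Type u) [Group G] [Fintype G] (T : Tab G) where
  k : ℕ
  hk : k = 16 ∨ k = 2
  cent7 : ∀ w : G, orderOf w = 7 → cC w = 7 * k
  rel7 : ∀ g, ¬ 7 ∣ orderOf g →
    (T.a990 : G → ℂ) g = 1 - (T.c1035 : G → ℂ) g + (T.c2024 : G → ℂ) g ∧
      (T.b990 : G → ℂ) g = (T.a990 : G → ℂ) g
  val7 : ∀ v : G, orderOf v = 7 → (T.c1035 : G → ℂ) v = -1 ∧ (T.c2024 : G → ℂ) v = 1 ∧
    (T.a990 : G → ℂ) v + (T.b990 : G → ℂ) v = -1

variable {G : Type u} [Group G] [Fintype G] [IsSimpleGroup G]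

theorem exists_sevenBlk (hn : Nat.card G = 10200960) (T : Tab G) : Nonempty (Seven G T) := by
  haveI : Fact (Nat.Prime 7) := ⟨by norm_num⟩
  haveI : Fact (Nat.Prime 2) := ⟨Nat.prime_two⟩
  obtain ⟨k, T7, h⟩ := exists_ctx (p := 7) hn fs rfl (by norm_num) (by norm_num)
  have hno : ∀ r : ℕ, r.Prime → ∀ c, (∀ v : G, orderOf v = r → cC v = c) → ¬ 7 ∣ c → k % r ≠ 0 :=
    fun r hr c hc h7 hk => by
      haveI := Fact.mk hr
      obtain ⟨w, hw, hd⟩ := exists_commuting T7 (Nat.dvd_of_mod_eq_zero hk)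
      exact h7 (hc w hw ▸ hd)
  have h2 : k % 2 = 0 := by
    obtain ⟨t, ht⟩ := exists_prime_orderOf_dvd_card' (G := G) 2 (by rw [hn]; norm_num)
    obtain ⟨w, hw⟩ := exists_prime_orderOf_dvd_card' (G := Subgroup.centralizer ({t} : Set G)) 7
      (show 7 ∣ cC t by rw [(T.at_invol ht).1]; norm_num)
    have hwo : orderOf (w : G) = 7 := by rw [Subgroup.orderOf_coe]; exact hw
    have h : 2 ∣ cC (w : G) := by
      rw [cC, ← ht]
      exact Subgroup.orderOf_dvd_natCard _
        (Subgroup.mem_centralizer_singleton_iff.mpr (Subgroup.mem_centralizer_singleton_iff.mp w.2).symm)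
    rw [cC_of_ctx T7 hwo] at h
    exact Nat.mod_eq_zero_of_dvd ((Nat.prime_two.dvd_mul.mp h).resolve_left (by norm_num))
  obtain ⟨d1, d2, d3, d4, d5, d6, d7, d8, d9, d10, d11, d12, d13, d14, d15, d16⟩ := T.d
  have hkp : ∀ χ ∈ T7.D.X ∪ T7.D.Y, χ ≠ Blocks.trivIrr G → ∀ s : ℤ, (s = 1 ∨ s = -1) →
      kpDeg (s * (deg χ : ℤ)) = true := fun χ _ _ s hs => by
    have hd : (s * (deg χ : ℤ)).natAbs = deg χ := by rcases hs with rfl | rfl <;> simp
    simp only [kpDeg, hd, List.contains_iff_mem]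
    exact (show degList = _ from T.degs.symm) ▸ List.mem_map_of_mem (T.cover χ)
  obtain ⟨xs, y, hmem, ⟨B⟩⟩ := exists_pblk T7 rfl kpDeg hkp
    (X := tabX kpDeg 7 (1 + T7.D.n * 7, T7.D.e, k)) (Y := tabY kpDeg 7 (1 + T7.D.n * 7, T7.D.e, k)) rfl
    (fun he => by rw [tabY, if_neg he])
  have hfit : fits ⟨7, k, T7.D.e, xs, y⟩ = true := by
    simp only [fits, List.all_eq_true, decide_eq_true_eq]
    intro d _
    rw [← B.degs_eq, show degList = degs17 from rfl, ← T.degs]
    exact count_le_of_subset deg (List.nodup_cons.mp B.nodup).2 d fun χ _ _ => T.cover χ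
  have key := List.all_eq_true.mp (List.all_eq_true.mp key_trips7b _ (List.mem_filter.mpr
    ⟨h, by
      simp only [Bool.and_eq_true, decide_eq_true_eq]
      exact ⟨⟨⟨h2, hno 5 Nat.prime_five 15 T.cent5 (by norm_num)⟩, hno 11 (by norm_num) 11 T.cent11 (by norm_num)⟩,
        hno 23 (by norm_num) 23 T.cent23 (by norm_num)⟩⟩)) _ (List.mem_filter.mpr ⟨hmem, hfit⟩)
  simp only [Bool.and_eq_true, Bool.or_eq_true, decide_eq_true_eq] at key
  obtain ⟨⟨hk, rfl⟩, rfl⟩ := key
  obtain ⟨a, l₁, hl₁, ha, hm₁⟩ := List.map_eq_cons_iff.mp B.xs_eq.symm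
  obtain ⟨b, l₂, hl₂, hb, hm₂⟩ := List.map_eq_cons_iff.mp hm₁
  rw [List.map_eq_nil_iff] at hm₂
  subst hm₂ hl₂
  have hax : a ∈ B.xl := by rw [hl₁]; simp
  have hbx : b ∈ B.xl := by rw [hl₁]; simp
  obtain ⟨sa, da⟩ := B.sgn_eq hax
  obtain ⟨sb, db⟩ := B.sgn_eq hbx
  rw [ha] at sa da
  rw [hb] at sb db
  have hd1035 : a = T.c1035 := by
    have hc := T.cover a
    simp only [List.mem_cons, List.not_mem_nil, or_false] at hc
    rcases hc with rfl | rfl | rfl | rfl | rfl | rfl | rfl | rfl | rfl | rfl | rfl | rfl | rfl | rfl | rfl | rfl |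
      rfl <;> first | rfl | (rw [deg_triv] at da; omega) | omega
  have hd2024 : b = T.c2024 := by
    have hc := T.cover b
    simp only [List.mem_cons, List.not_mem_nil, or_false] at hc
    rcases hc with rfl | rfl | rfl | rfl | rfl | rfl | rfl | rfl | rfl | rfl | rfl | rfl | rfl | rfl | rfl | rfl |
      rfl <;> first | rfl | (rw [deg_triv] at db; omega) | omega
  obtain ⟨hlen, hyd, hysum⟩ := B.yl_some 990 rfl
  have hyt : B.yl.length = 2 := by
    have h1 := B.T.D.het
    have h3 := B.T.D.card_X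
    have h4 := congrArg List.length B.degs_eq
    rw [hlen, Opt.t]
    simp only
    have he : T7.D.e = 3 := by
      rw [optsFrom] at hmem
      split_ifs at hmem with he
      · obtain ⟨q, -, hq⟩ := List.mem_filterMap.mp hmem
        split_ifs at hq
        exact absurd (Opt.mk.inj (Option.some.inj hq)).2.2.2.2 (by simp)
      · obtain ⟨q, hq, hq'⟩ := List.mem_filterMap.mp hmem
        split_ifs at hq'
        have hq2 := (Opt.mk.inj (Option.some.inj hq')).2.2.2.1
        subst hq2
        have hl : ∀ (l : List ℤ) (m : ℕ) (s : List ℤ), s ∈ combos l m → s.length = m := by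
          intro l
          induction l with
          | nil => intro m s hs; simp only [combos] at hs; split_ifs at hs with h <;> simp_all
          | cons a l ih =>
            intro m s hs
            simp only [combos, List.mem_flatMap, List.mem_range, List.mem_map] at hs
            obtain ⟨j, hj, s', hs', rfl⟩ := hs
            rw [List.length_append, List.length_replicate, ih _ _ hs']
            omega
        have := hl _ _ _ hq
        simp only [List.length_cons, List.length_nil] at this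
        have := T7.D.two_le_e
        omega
    rw [he]
  obtain ⟨g₁, g₂, hyl⟩ : ∃ g₁ g₂, B.yl = [g₁, g₂] := by
    match h : B.yl, hyt with
    | [a, b], _ => exact ⟨a, b, rfl⟩
  have hpair : (g₁ = T.a990 ∧ g₂ = T.b990) ∨ (g₁ = T.b990 ∧ g₂ = T.a990) := by
    have hne : g₁ ≠ g₂ := by
      have h := (List.nodup_cons.mp B.nodup).2
      rw [hyl] at h
      have := (List.nodup_append.mp h).2.1
      simpa using this
    have hmem : ∀ χ ∈ B.yl, χ ∈ [T.a990, T.b990] := fun χ hχ => by
      have hd : deg χ = 990 := hyd χ hχ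
      have hc := T.cover χ
      simp only [List.mem_cons, List.not_mem_nil, or_false] at hc ⊢
      rcases hc with rfl | rfl | rfl | rfl | rfl | rfl | rfl | rfl | rfl | rfl | rfl | rfl | rfl | rfl | rfl | rfl |
        rfl <;> first | simp only [true_or, or_true] | (rw [deg_triv] at hd; omega) | omega
    exact mem_pair hne (hmem _ (by rw [hyl]; simp)) (hmem _ (by rw [hyl]; simp))
  have hσa : B.σ a = -1 := by rw [← sa]; rfl
  have hσb : B.σ b = 1 := by rw [← sb]; rfl
  refine ⟨⟨k, hk, fun w hw => cC_of_ctx B.T hw, fun g hg => ?_, fun v hv => ?_⟩⟩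
  · have h1 : ∀ ψ ∈ B.yl, (ψ : G → ℂ) g = 1 - (T.c1035 : G → ℂ) g + (T.c2024 : G → ℂ) g := fun ψ hψ => by
      have h := B.xs_map.choose_spec.2.2.2.2 990 rfl ψ hψ g hg
      change ((sgn 990 : ℤ) : ℂ) * (ψ : G → ℂ) g =
        1 + (B.xl.map fun χ : IrrCharacter G => (B.σ χ : ℂ) * (χ : G → ℂ) g).sum at h
      simp only [hl₁, List.map_cons, List.map_nil, List.sum_cons, List.sum_nil, hσa, hσb,
        show sgn 990 = 1 from rfl, hd1035, hd2024] at h
      rw [hd1035] at hσa
      rw [hd2024] at hσb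
      simp only [hσa, hσb] at h
      push_cast at h
      linear_combination h
    have k1 := h1 g₁ (by rw [hyl]; simp)
    have k2 := h1 g₂ (by rw [hyl]; simp)
    rcases hpair with ⟨rfl, rfl⟩ | ⟨rfl, rfl⟩
    · exact ⟨k1, k2.trans k1.symm⟩
    · exact ⟨k2, k1.trans k2.symm⟩
  · obtain ⟨c, hc⟩ := exists_conj_mem B.T.P hv
    have hc1 : c * v * c⁻¹ ≠ 1 := fun e => by
      rw [conj_eq_one_iff] at e
      rw [e, orderOf_one] at hv
      norm_num at hv
    have hcl : ∀ χ : IrrCharacter G, (χ : G → ℂ) (c * v * c⁻¹) = (χ : G → ℂ) v := fun χ =>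
      Char.isClassFunction_of_isCharacter (Char.isCharacter_of_isIrr χ.2) v c
    have h1 := (hcl a).symm.trans (B.value_P hax hc hc1)
    have h2 := (hcl b).symm.trans (B.value_P hbx hc hc1)
    rw [hσa, hd1035] at h1
    rw [hσb, hd2024] at h2
    have h3 := hysum _ hc hc1
    rw [hyl] at h3
    simp only [List.map_cons, List.map_nil, List.sum_cons, List.sum_nil, hcl, add_zero,
      show sgn 990 = 1 from rfl] at h3
    push_cast at h1 h2 h3
    refine ⟨h1, h2, ?_⟩
    rcases hpair with ⟨rfl, rfl⟩ | ⟨rfl, rfl⟩ <;> linear_combination h3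

end CfsgLib.M23Order
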