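import Cfsg.Agent.Lib.M23Order.CharTable
import Cfsg.Agent.Lib.OrderBlocks.Tools

/-!
# Simple groups of order 10200960: sums over the 17 characters, orthogonality, vanishing
-/

set_option autoImplicit false
set_option linter.unusedSectionVars false
set_option linter.style.haveILetI false

namespace CfsgLib.M23Order

open Cfsg
open scoped ComplexConjugate CfsgLib.Char
open CfsgLib CfsgLib.BrauerTuan CfsgLib.OrderBlocks
open scoped _root_.Classical

universe u

variable {G : Type u} [Group G] [Fintype G] [IsSimpleGroup G] (T : Tab G)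

theorem Tab.sum_eq (F : IrrCharacter G → ℂ) :
    ∑ χ : IrrCharacter G, F χ = F (Blocks.trivIrr G) + F T.c22 + F T.a45 + F T.b45 + F T.c230 + F T.c231 +
      F T.d231 + F T.e231 + F T.c253 + F T.a770 + F T.b770 + F T.a896 + F T.b896 + F T.a990 + F T.b990 +
      F T.c1035 + F T.c2024 := by
  rw [show (Finset.univ : Finset (IrrCharacter G)) = List.toFinset [Blocks.trivIrr G, T.c22, T.a45, T.b45,
    T.c230, T.c231, T.d231, T.e231, T.c253, T.a770, T.b770, T.a896, T.b896, T.a990, T.b990, T.c1035, T.c2024]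
    from (Finset.eq_univ_iff_forall.mpr fun χ => List.mem_toFinset.mpr (T.cover χ)).symm,
    List.sum_toFinset _ T.nodup]
  simp only [List.map_cons, List.map_nil, List.sum_cons, List.sum_nil]
  ring

/-- The degrees. -/
theorem Tab.d (T : Tab G) : deg T.c22 = 22 ∧ deg T.a45 = 45 ∧ deg T.b45 = 45 ∧ deg T.c230 = 230 ∧
    deg T.c231 = 231 ∧ deg T.d231 = 231 ∧ deg T.e231 = 231 ∧ deg T.c253 = 253 ∧ deg T.a770 = 770 ∧
    deg T.b770 = 770 ∧ deg T.a896 = 896 ∧ deg T.b896 = 896 ∧ deg T.a990 = 990 ∧ deg T.b990 = 990 ∧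
    deg T.c1035 = 1035 ∧ deg T.c2024 = 2024 := by
  have h := T.degs
  simp only [List.map_cons, List.map_nil, degs17, List.cons.injEq, and_true] at h
  exact h.2

theorem Tab.orth (T : Tab G) {g h : G} (hgh : ¬ IsConj g h) :
    ∑ χ : IrrCharacter G, (χ : G → ℂ) g * conj ((χ : G → ℂ) h) = 0 := by
  rw [Char.column_orthogonality, if_neg hgh]

theorem Tab.norm_eq (T : Tab G) (g : G) :
    ∑ χ : IrrCharacter G, (χ : G → ℂ) g * conj ((χ : G → ℂ) g) = (cC g : ℂ) := by
  rw [Char.column_orthogonality, if_pos (IsConj.refl g)]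
  rfl

theorem not_conj_of_orderOf {g h : G} (hgh : orderOf g ≠ orderOf h) : ¬ IsConj g h := fun hc => by
  obtain ⟨w, hw⟩ := isConj_iff.mp hc
  exact hgh (by rw [← hw]; exact ((MulAut.conj w).orderOf_eq g).symm)

/-- A character of degree divisible by the full power of `p` in the order vanishes on `p`-singular elements. -/
theorem vanish_of_dvd (hn : Nat.card G = 10200960) {p : ℕ} [Fact p.Prime] (hp1 : p ∣ 10200960)
    (hp2 : ¬ p * p ∣ 10200960) {χ : IrrCharacter G} (hd : p ∣ deg χ) {g : G} (hg : p ∣ orderOf g) :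
    (χ : G → ℂ) g = 0 := by
  refine Char.defect_zero_vanish χ.2 (p := p) (n := 1) (d := deg χ) (value_one' χ) ?_ ?_ ?_ hg
  · rw [pow_one, hn]; exact hp1
  · rw [hn, show p ^ (1 + 1) = p * p by ring]; exact hp2
  · rwa [pow_one]

/-- The only character of its degree has integer values. -/
theorem Tab.int_unique (T : Tab G) {χ : IrrCharacter G}
    (h : χ = T.c22 ∨ χ = T.c230 ∨ χ = T.c253 ∨ χ = T.c1035 ∨ χ = T.c2024) (g : G) :
    (χ : G → ℂ) g = iv χ g := by
  obtain ⟨d1, d2, d3, d4, d5, d6, d7, d8, d9, d10, d11, d12, d13, d14, d15, d16⟩ := T.d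
  refine iv_spec_of_int (exists_int_value_of_agree fun ξ hξ => ?_)
  have hc := T.cover ξ
  simp only [List.mem_cons, List.not_mem_nil, or_false] at hc
  rcases h with rfl | rfl | rfl | rfl | rfl <;>
    rcases hc with rfl | rfl | rfl | rfl | rfl | rfl | rfl | rfl | rfl | rfl | rfl | rfl | rfl | rfl | rfl | rfl |
      rfl <;> first | rfl | (rw [deg_triv] at hξ; omega) | omega

/-- The value of a character of degree shared by a pair agreeing at `g` is an integer. -/
theorem Tab.int_pair (T : Tab G) {χ ψ : IrrCharacter G}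
    (h : (χ = T.a770 ∧ ψ = T.b770) ∨ (χ = T.a896 ∧ ψ = T.b896) ∨ (χ = T.a990 ∧ ψ = T.b990)) {g : G}
    (he : (ψ : G → ℂ) g = (χ : G → ℂ) g) : (χ : G → ℂ) g = iv χ g := by
  obtain ⟨d1, d2, d3, d4, d5, d6, d7, d8, d9, d10, d11, d12, d13, d14, d15, d16⟩ := T.d
  refine iv_spec_of_int (exists_int_value_of_agree fun ξ hξ => ?_)
  have hc := T.cover ξ
  simp only [List.mem_cons, List.not_mem_nil, or_false] at hc
  rcases h with ⟨rfl, rfl⟩ | ⟨rfl, rfl⟩ | ⟨rfl, rfl⟩ <;>
    rcases hc with rfl | rfl | rfl | rfl | rfl | rfl | rfl | rfl | rfl | rfl | rfl | rfl | rfl | rfl | rfl | rfl |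
      rfl <;> first | rfl | exact he | (rw [deg_triv] at hξ; omega) | omega

/-- The integer values at an element as a congruence modulo a prime. -/
theorem iv_congr {p : ℕ} (hp : p.Prime) {χ : IrrCharacter G} {g : G} (hg : (χ : G → ℂ) g = iv χ g)
    (hgp : (χ : G → ℂ) (g ^ p) = iv χ (g ^ p)) : (p : ℤ) ∣ iv χ g - iv χ (g ^ p) :=
  pow_congr (Char.isCharacter_of_isIrr χ.2) hp hg hgp

theorem iv_one (χ : IrrCharacter G) : iv χ 1 = deg χ := iv_eq (by rw [value_one']; simp)

/-- The value at an involution, from the column. -/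
theorem Tab.at_invol (T : Tab G) {t : G} (ht : orderOf t = 2) :
    cC t = 2688 ∧ (T.c22 : G → ℂ) t = 6 ∧ (T.a45 : G → ℂ) t = -3 ∧ (T.b45 : G → ℂ) t = -3 ∧
      (T.c230 : G → ℂ) t = 22 ∧ (T.c231 : G → ℂ) t = 7 ∧ (T.d231 : G → ℂ) t = 7 ∧ (T.e231 : G → ℂ) t = 7 ∧
      (T.c253 : G → ℂ) t = 13 ∧ (T.a770 : G → ℂ) t = -14 ∧ (T.b770 : G → ℂ) t = -14 ∧ (T.a896 : G → ℂ) t = 0 ∧
      (T.b896 : G → ℂ) t = 0 ∧ (T.a990 : G → ℂ) t = -18 ∧ (T.b990 : G → ℂ) t = -18 ∧
      (T.c1035 : G → ℂ) t = 27 ∧ (T.c2024 : G → ℂ) t = 8 := by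
  obtain ⟨hc, h⟩ := T.invol t ht
  have htt := mul_self_of_order_two ht
  simp only [List.map_cons, List.map_nil, row17, List.cons.injEq, and_true] at h
  obtain ⟨-, v1, v2, v3, v4, v5, v6, v7, v8, v9, v10, v11, v12, v13, v14, v15, v16⟩ := h
  simp only [iv_spec _ htt, v1, v2, v3, v4, v5, v6, v7, v8, v9, v10, v11, v12, v13, v14, v15, v16]
  norm_num [hc]

end CfsgLib.M23Order
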