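import Cfsg.Agent.Lib.M23Order.CharInvol

/-!
# Simple groups of order 10200960: the principal 23-block and the list of all characters
-/

set_option autoImplicit false
set_option linter.unusedSectionVars false
set_option linter.style.haveILetI false
set_option maxHeartbeats 2000000

namespace CfsgLib.M23Order

open Cfsg
open scoped ComplexConjugate CfsgLib.Char
open CfsgLib CfsgLib.BrauerTuan CfsgLib.OrderBlocks
open scoped _root_.Classical

universe u

theorem dfs_sound (test : List ℤ → Bool) : ∀ (Vs : List (List ℤ)) (As : List ℤ) (B : ℤ) (acc : List ℤ),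
    List.Forall₂ (fun A V => A ∈ V) As Vs → (As.map fun A => A * A).sum ≤ B → dfs test Vs B acc = true →
      test (acc.reverse ++ As) = true
  | [], As, B, acc, h, _, hd => by
    obtain rfl := List.forall₂_nil_right_iff.mp h
    simpa [dfs] using hd
  | V :: Vs, As, B, acc, h, hB, hd => by
    obtain ⟨A, As', hA, h', rfl⟩ := List.forall₂_cons_right_iff.mp h
    rw [List.map_cons, List.sum_cons] at hB
    have hnn : 0 ≤ (As'.map fun A => A * A).sum := List.sum_nonneg fun x hx => by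
      obtain ⟨c, -, rfl⟩ := List.mem_map.mp hx
      exact mul_self_nonneg c
    simp only [dfs, List.all_eq_true, Bool.or_eq_true, decide_eq_true_eq] at hd
    have h2 := dfs_sound test Vs As' (B - A * A) (A :: acc) h' (by omega)
      ((hd A hA).resolve_left (by omega))
    simpa using h2

variable {G : Type u} [Group G] [Fintype G] [IsSimpleGroup G]
  [Fact (Nat.Prime 5)] [Fact (Nat.Prime 11)] [Fact (Nat.Prime 23)]

theorem sum_list_le {l : List (IrrCharacter G)} (hl : l.Nodup) :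
    (l.map fun χ => (deg χ : ℕ) ^ 2).sum ≤ Nat.card G := by
  have h := Char.sum_sq_degree (G := G)
  simp only [value_one', ← Nat.cast_pow, ← Nat.cast_sum, Nat.cast_inj] at h
  rw [← h, ← List.sum_toFinset _ hl]
  exact Finset.sum_le_sum_of_subset (Finset.subset_univ _)

/-- **The characters of a simple group of order 10200960.** -/
theorem exists_tab (hn : Nat.card G = 10200960) : Nonempty (Tab G) := by
  obtain ⟨T23, he23⟩ := exists_twentythree (G := G) hn
  obtain ⟨T11, he11⟩ := exists_eleven hn T23 he23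
  obtain ⟨B5, u₀, w₀, huw₀, ⟨B11₀⟩⟩ := exists_five_eleven hn T23 he23
  obtain ⟨Q⟩ := exists_part B5 huw₀ B11₀
  haveI : Fact (Nat.Prime 2) := ⟨Nat.prime_two⟩
  obtain ⟨t, ht⟩ := exists_prime_orderOf_dvd_card' (G := G) 2 (by rw [hn]; norm_num)
  obtain ⟨-, hu, hw, -⟩ := Q.invol T23 ht
  obtain ⟨df, dz, da, db, ds, dr, dE, dF⟩ := Q.degs
  rw [hu] at ds
  rw [hw] at dr
  simp only [Int.reduceAbs] at ds dr
  -- the principal 23-block
  have hdeg11 : ∀ χ : IrrCharacter G, χ ≠ Blocks.trivIrr G → ¬ 11 ∣ deg χ →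
      χ ∈ [Q.a, Q.b, Q.s, Q.r, Q.E, Q.F] := fun χ hne hd => Q.list11 ▸ Q.B11.mem_of_not_dvd rfl hne hd
  have hkp : ∀ χ ∈ T23.D.X ∪ T23.D.Y, χ ≠ Blocks.trivIrr G → ∀ s : ℤ, (s = 1 ∨ s = -1) →
      kp23b (s * (deg χ : ℤ)) = true := fun χ _ hne s hs => by
    have hd : (s * (deg χ : ℤ)).natAbs = deg χ := by rcases hs with rfl | rfl <;> simp
    simp only [kp23b, kp2, hd, g2_deg T23 he23 T11 he11 χ, Bool.true_and, Bool.or_eq_true, decide_eq_true_eq,
      List.contains_iff_mem]
    by_cases h : 11 ∣ deg χ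
    · exact Or.inl (Nat.mod_eq_zero_of_dvd h)
    · right
      have h := hdeg11 χ hne h
      simp only [List.mem_cons, List.not_mem_nil, or_false] at h ⊢
      rcases h with rfl | rfl | rfl | rfl | rfl | rfl <;> omega
  have hc : 1 + T23.D.n * 23 = 40320 := by
    have h := T23.D.card_G
    rw [he23, T23.card_C, hn] at h
    omega
  obtain ⟨xs, y, hmem, ⟨B⟩⟩ := exists_pblk T23 he23 kp23b hkp (X := tabX kp23b 23 r23) (Y := tabY kp23b 23 r23)
    (by rw [hc]; rfl) (fun _ => by rw [hc]; rfl)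
  have hy : ∃ y₀, y = some y₀ := by
    rw [optsFrom, if_neg (by norm_num)] at hmem
    obtain ⟨q, -, hq⟩ := List.mem_filterMap.mp hmem
    split_ifs at hq
    exact ⟨_, (Opt.mk.inj (Option.some.inj hq)).2.2.2.2.symm⟩
  obtain ⟨y₀, rfl⟩ := hy
  have hnd := B.nodup
  obtain ⟨L, hL⟩ : ∃ L, L = B.xl ++ B.yl := ⟨_, rfl⟩
  have hLdeg : L.map deg = (⟨23, 1, 11, xs, some y₀⟩ : Opt).degs := hL ▸ B.degs_eq
  have hLnd : L.Nodup := hL ▸ (List.nodup_cons.mp hnd).2
  have hLtriv : ∀ χ ∈ L, χ ≠ Blocks.trivIrr G := fun χ hχ => B.ne_triv (hL ▸ hχ)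
  have hin : ∀ χ : IrrCharacter G, χ ≠ Blocks.trivIrr G → ¬ 23 ∣ deg χ → χ ∈ L := fun χ hne hd =>
    hL ▸ B.mem_of_not_dvd rfl hne hd
  have hnt : ∀ χ : IrrCharacter G, ∀ d, deg χ = d → d ≠ 1 → χ ≠ Blocks.trivIrr G := fun χ d hd hd1 e =>
    hd1 (by rw [← hd, e, deg_triv])
  have hcount : ∀ (d : ℕ) (p q : IrrCharacter G), deg p = d → deg q = d → p ≠ q → d ≠ 1 → ¬ 23 ∣ d → ¬ 11 ∣ d →
      (∀ χ ∈ [Q.a, Q.b, Q.s, Q.r, Q.E, Q.F], deg χ = d → χ ∈ [p, q]) → (L.map deg).count d = 2 := by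
    intro d p q hp hq hpq hd1 hd23 hd11 hall
    refine le_antisymm ?_ ?_
    · refine le_trans (count_le_of_subset deg hLnd d fun χ hχ hd => hall χ
        (hdeg11 χ (hLtriv χ hχ) (hd ▸ hd11)) hd) ?_
      simp [hp, hq]
    · refine le_trans (le_of_eq ?_) (count_le_of_subset deg (l := [p, q]) (by simp [hpq]) d fun χ hχ _ => ?_)
      · simp [hp, hq]
      · simp only [List.mem_cons, List.not_mem_nil, or_false] at hχ
        rcases hχ with rfl | rfl
        · exact hin _ (hnt _ d hp hd1) (hp ▸ hd23)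
        · exact hin _ (hnt _ d hq hd1) (hq ▸ hd23)
  have hab : Q.a ≠ Q.b ∧ Q.E ≠ Q.F := by
    have h := Q.B11.nodup
    rw [Q.list11] at h
    simp only [List.nodup_cons, List.mem_cons, List.not_mem_nil, or_false, not_or] at h
    exact ⟨h.2.1.1, h.2.2.2.2.2.1⟩
  have hc45 : (L.map deg).count 45 = 2 := hcount 45 Q.a Q.b da db hab.1 (by norm_num) (by norm_num) (by norm_num)
    fun χ hχ hd => by
      simp only [List.mem_cons, List.not_mem_nil, or_false] at hχ ⊢
      rcases hχ with rfl | rfl | rfl | rfl | rfl | rfl <;> first | omega | simp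
  have hc896 : (L.map deg).count 896 = 2 := hcount 896 Q.E Q.F dE dF hab.2 (by norm_num) (by norm_num) (by norm_num)
    fun χ hχ hd => by
      simp only [List.mem_cons, List.not_mem_nil, or_false] at hχ ⊢
      rcases hχ with rfl | rfl | rfl | rfl | rfl | rfl <;> first | omega | simp
  have hfL : Q.f ∈ L := hin _ (hnt _ 231 df (by norm_num)) (by rw [df]; norm_num)
  have hout : ∀ χ : IrrCharacter G, 23 ∣ deg χ → χ ∉ L := fun χ h hχ => B.not_dvd χ (hL ▸ hχ) h
  have hbig : (Blocks.trivIrr G :: Q.s :: Q.r :: Q.z :: L).Nodup := by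
    simp only [List.nodup_cons, List.mem_cons, not_or]
    exact ⟨⟨fun e => by rw [← e, deg_triv] at ds; omega, fun e => by rw [← e, deg_triv] at dr; omega,
      fun e => by rw [← e, deg_triv] at dz; omega, fun h => hLtriv _ h rfl⟩,
      ⟨fun e => by rw [e] at ds; omega, fun e => by rw [e] at ds; omega, hout _ (by rw [ds]; norm_num)⟩,
      ⟨fun e => by rw [e] at dr; omega, hout _ (by rw [dr]; norm_num)⟩, hout _ (by rw [dz]; norm_num), hLnd⟩
  obtain ⟨hlen, hyd, -⟩ := B.yl_some y₀ rfl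
  have ht2 : (⟨23, 1, 11, xs, some y₀⟩ : Opt).t = 2 := by simp [Opt.t]
  rw [ht2] at hlen
  have hxsq : (xs.map fun x => x * x).sum + 2 * (y₀ * y₀) ≤ 4980258 := by
    have h := sum_list_le hbig
    rw [hn, List.map_cons, List.map_cons, List.map_cons, List.map_cons, List.sum_cons, List.sum_cons,
      List.sum_cons, List.sum_cons, deg_triv, ds, dr, dz,
      show L.map (fun χ => deg χ ^ 2) = (L.map deg).map (· ^ 2) by rw [List.map_map]; rfl, hLdeg] at h
    simp only [Opt.degs, ht2, List.map_append, List.map_map, List.map_replicate, List.sum_append,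
      List.sum_replicate, smul_eq_mul] at h
    have hs : ∀ l : List ℤ, (((l.map fun x => x.natAbs ^ 2).sum : ℕ) : ℤ) = (l.map fun x => x * x).sum := fun l => by
      induction l with
      | nil => simp
      | cons a l ih =>
        simp only [List.map_cons, List.sum_cons, Nat.cast_add, ih]
        rw [Nat.cast_pow, Int.natAbs_sq, pow_two]
    have hy2 : ((y₀.natAbs ^ 2 : ℕ) : ℤ) = y₀ * y₀ := by rw [Nat.cast_pow, Int.natAbs_sq, pow_two]
    simp only [Function.comp_def] at h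
    have h' : (((xs.map fun x => x.natAbs ^ 2).sum + 2 * y₀.natAbs ^ 2 : ℕ) : ℤ) ≤ ((4980258 : ℕ) : ℤ) :=
      Int.ofNat_le.mpr (by omega)
    rw [Nat.cast_add, Nat.cast_mul, hs, hy2] at h'
    exact h'
  have hcand : cand23 ⟨23, 1, 11, xs, some y₀⟩ = true := by
    simp only [cand23, ← hLdeg, hc45, hc896, decide_true, Bool.true_and, Bool.and_eq_true,
      List.contains_iff_mem, decide_eq_true_eq]
    exact ⟨df ▸ List.mem_map_of_mem hfL, hxsq⟩
  have hopt := List.contains_iff_mem.mp (List.all_eq_true.mp key_opts23 _ (List.mem_filter.mpr ⟨hmem, hcand⟩))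
  have hleaf := List.all_eq_true.mp key_leaf _ hopt
  -- the column at an involution
  have hrow : ∀ t : G, orderOf t = 2 → (⟨23, 1, 11, xs, some y₀⟩ : Opt) = o23 ∧
      B.xl.map (iv · t) = [6, -3, -3, 7, 7, 7, 0, 0, -18, -18] ∧ ∀ ψ ∈ B.yl, iv ψ t = -14 := by
    intro t ht
    obtain ⟨hc, -, -, va, vb, vE, vF, vs, vr, vf, vz⟩ := Q.invol T23 ht
    have htt := mul_self_of_order_two ht
    obtain ⟨-, hr1⟩ := B.rel_iv (g := t) (by rw [ht]; norm_num) fun χ _ => iv_spec χ htt
    obtain ⟨Y, hY⟩ : ∃ Y, Y = yVal ⟨23, 1, 11, xs, some y₀⟩ (B.xl.map (iv · t)) := ⟨_, rfl⟩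
    have hyY : ∀ ψ ∈ B.yl, iv ψ t = Y := fun ψ hψ => hY ▸ hr1 y₀ rfl ψ hψ
    have hyl : B.yl.map (iv · t) = List.replicate 2 Y := List.eq_replicate_iff.mpr
      ⟨by rw [List.length_map, hlen], fun b hb => by
        obtain ⟨ψ, hψ, rfl⟩ := List.mem_map.mp hb
        exact hyY ψ hψ⟩
    have hv : ∀ χ ∈ L, iv χ t ∈ vals 10200960 2688 (deg χ) := fun χ hχ =>
      hc ▸ iv_mem_vals hn B.T.noncomm (hLtriv χ hχ) ht
    have hsq := sum_sq_le hbig (g := t) fun χ _ => iv_spec χ htt
    simp only [List.map_cons, List.sum_cons, iv_triv, vs, vr, vz, hc] at hsq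
    have hLsq : (L.map fun χ => iv χ t * iv χ t).sum =
        ((B.xl.map (iv · t)).map fun A => A * A).sum + 2 * (Y * Y) := by
      rw [hL, List.map_append, List.sum_append, List.map_map,
        show B.yl.map (fun χ => iv χ t * iv χ t) = (B.yl.map (iv · t)).map (fun A => A * A) by
          rw [List.map_map]; rfl, hyl]
      simp [Function.comp_def]
      ring
    have hb : ((B.xl.map (iv · t)).map fun A => A * A).sum + 2 * (Y * Y) ≤ 1410 := by
      push_cast at hsq
      omega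
    have hY0 : 0 ≤ Y * Y := mul_self_nonneg _
    have htest := dfs_sound _ _ (B.xl.map (iv · t)) 1410 [] ?_ (by omega) hleaf
    · have hok : rowOK23 ⟨23, 1, 11, xs, some y₀⟩ (B.xl.map (iv · t)) = true := by
        obtain ⟨ψ, hψ⟩ := List.exists_mem_of_length_pos (l := B.yl) (by omega)
        have hYs : sgn y₀ * sigSum xs (B.xl.map (iv · t)) = Y := by rw [hY]; rfl
        simp only [rowOK23, hYs, Bool.and_eq_true, decide_eq_true_eq, List.contains_iff_mem]
        refine ⟨⟨⟨hb, hyY ψ hψ ▸ hyd ψ hψ ▸ hv ψ (hL ▸ List.mem_append_right _ hψ)⟩, ?_⟩,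
          B.tFrac_eq_zero_of_odd (by norm_num) (by norm_num) htt (fun χ => iv χ t) Y
            (fun χ _ => iv_spec χ htt) (fun ψ hψ => by rw [iv_spec ψ htt, hyY ψ hψ])⟩
        rw [ht2, ← hyl, ← List.map_append, ← hL, ← hLdeg, List.zip_map']
        exact List.mem_map.mpr ⟨Q.f, hfL, by rw [df, vf]⟩
      simp only [List.reverse_nil, List.nil_append, hok, Bool.not_true, Bool.false_or, Bool.and_eq_true] at htest
      have h1 := of_decide_eq_true htest.1
      have h2 := of_decide_eq_true htest.2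
      refine ⟨h1, h2, fun ψ hψ => ?_⟩
      rw [hyY ψ hψ, hY]
      exact (congrArg₂ yVal h1 h2).trans (by decide)
    · rw [B.xs_eq, List.map_map, List.forall₂_map_left_iff, List.forall₂_map_right_iff, List.forall₂_same]
      intro χ hχ
      have hχL : χ ∈ L := hL ▸ List.mem_append_left _ hχ
      simp only [Function.comp, (B.sgn_eq hχ).2, known23]
      split_ifs with h1 h2
      · have h := hdeg11 χ (hLtriv χ hχL) (by rw [h1]; norm_num)
        simp only [List.mem_cons, List.not_mem_nil, or_false] at h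
        rcases h with rfl | rfl | rfl | rfl | rfl | rfl <;> first | omega | simp [va, vb]
      · have h := hdeg11 χ (hLtriv χ hχL) (by rw [h2]; norm_num)
        simp only [List.mem_cons, List.not_mem_nil, or_false] at h
        rcases h with rfl | rfl | rfl | rfl | rfl | rfl <;> first | omega | simp [vE, vF]
      · exact hv χ hχL
  obtain ⟨ho, -, -⟩ := hrow t ht
  simp only [o23, Opt.mk.injEq, true_and, Option.some.injEq] at ho
  obtain ⟨rfl, rfl⟩ := ho
  -- the members
  obtain ⟨c22, p, q, x, y, z, E, F, h₁, h₂, hxl⟩ : ∃ c22 p q x y z E F h₁ h₂, B.xl = [c22, p, q, x, y, z, E, F, h₁, h₂] := by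
    have h : B.xl.length = 10 := by
      have := congrArg List.length B.xs_eq
      simpa using this.symm
    match h' : B.xl, h with
    | [a, b, c, d, e, f, g, i, j, k], _ => exact ⟨a, b, c, d, e, f, g, i, j, k, rfl⟩
  obtain ⟨g₁, g₂, hyl⟩ : ∃ g₁ g₂, B.yl = [g₁, g₂] := by
    match h : B.yl, hlen with
    | [a, b], _ => exact ⟨a, b, rfl⟩
  have hxs := B.xs_eq
  rw [hxl] at hxs
  simp only [List.map_cons, List.map_nil, List.cons.injEq, and_true] at hxs
  obtain ⟨x1, x2, x3, x4, x5, x6, x7, x8, x9, x10⟩ := hxs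
  have sd : ∀ {χ : IrrCharacter G} {v : ℤ}, χ ∈ B.xl → v = B.σ χ * (deg χ : ℤ) →
      B.σ χ = sgn v ∧ deg χ = v.natAbs := fun hχ hv => by
    rw [hv]; exact ⟨(B.sgn_eq hχ).1.symm, (B.sgn_eq hχ).2.symm⟩
  obtain ⟨s1, d1⟩ := sd (χ := c22) (by rw [hxl]; simp) x1
  obtain ⟨s2, d2⟩ := sd (χ := p) (by rw [hxl]; simp) x2
  obtain ⟨s3, d3⟩ := sd (χ := q) (by rw [hxl]; simp) x3
  obtain ⟨s4, d4⟩ := sd (χ := x) (by rw [hxl]; simp) x4
  obtain ⟨s5, d5⟩ := sd (χ := y) (by rw [hxl]; simp) x5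
  obtain ⟨s6, d6⟩ := sd (χ := z) (by rw [hxl]; simp) x6
  obtain ⟨s7, d7⟩ := sd (χ := E) (by rw [hxl]; simp) x7
  obtain ⟨s8, d8⟩ := sd (χ := F) (by rw [hxl]; simp) x8
  obtain ⟨s9, d9⟩ := sd (χ := h₁) (by rw [hxl]; simp) x9
  obtain ⟨s10, d10⟩ := sd (χ := h₂) (by rw [hxl]; simp) x10
  norm_num [sgn] at s1 s2 s3 s4 s5 s6 s7 s8 s9 s10 d1 d2 d3 d4 d5 d6 d7 d8 d9 d10
  have dg1 : deg g₁ = 770 := hyd g₁ (by rw [hyl]; simp)
  have dg2 : deg g₂ = 770 := hyd g₂ (by rw [hyl]; simp)
  have hLe : L = [c22, p, q, x, y, z, E, F, h₁, h₂, g₁, g₂] := by rw [hL, hxl, hyl]; rfl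
  obtain ⟨d, e, hde⟩ : ∃ d e, ([Q.f, d, e] : List (IrrCharacter G)).Perm [x, y, z] := by
    have h := hLe ▸ hfL
    simp only [List.mem_cons, List.not_mem_nil, or_false] at h
    rcases h with h | h | h | h | h | h | h | h | h | h | h | h <;>
      first
        | (exfalso; rw [h] at df; omega)
        | (rw [h]; exact ⟨y, z, List.Perm.refl _⟩)
        | (rw [h]; exact ⟨x, z, List.Perm.swap _ _ _⟩)
        | (rw [h]; exact ⟨x, y, (List.Perm.swap _ _ _).trans (List.Perm.cons _ (List.Perm.swap _ _ _))⟩)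
  have hpq : ∀ (χ : IrrCharacter G), χ ∈ L → deg χ = 45 → χ ∈ [Q.a, Q.b] := fun χ hχ hd => by
    have h := hdeg11 χ (hLtriv χ hχ) (by rw [hd]; norm_num)
    simp only [List.mem_cons, List.not_mem_nil, or_false] at h ⊢
    rcases h with rfl | rfl | rfl | rfl | rfl | rfl <;> first | omega | simp
  have hEF : ∀ (χ : IrrCharacter G), χ ∈ L → deg χ = 896 → χ ∈ [Q.E, Q.F] := fun χ hχ hd => by
    have h := hdeg11 χ (hLtriv χ hχ) (by rw [hd]; norm_num)
    simp only [List.mem_cons, List.not_mem_nil, or_false] at h ⊢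
    rcases h with rfl | rfl | rfl | rfl | rfl | rfl <;> first | omega | simp
  have hnd12 := hLe ▸ hLnd
  simp only [List.nodup_cons, List.mem_cons, List.not_mem_nil, or_false, not_or] at hnd12
  have hP : ([Q.a, Q.b] : List (IrrCharacter G)).Perm [p, q] := by
    rcases mem_pair hnd12.2.1.1 (hpq p (by rw [hLe]; simp) d2) (hpq q (by rw [hLe]; simp) d3) with
      ⟨rfl, rfl⟩ | ⟨rfl, rfl⟩
    · exact List.Perm.refl _
    · exact List.Perm.swap _ _ _
  have hE : ([Q.E, Q.F] : List (IrrCharacter G)).Perm [E, F] := by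
    rcases mem_pair hnd12.2.2.2.2.2.2.1.1 (hEF E (by rw [hLe]; simp) d7) (hEF F (by rw [hLe]; simp) d8) with
      ⟨rfl, rfl⟩ | ⟨rfl, rfl⟩
    · exact List.Perm.refl _
    · exact List.Perm.swap _ _ _
  have hperm : ([Blocks.trivIrr G, c22, Q.a, Q.b, Q.s, Q.f, d, e, g₁, g₂, Q.E, Q.F, h₁, h₂, Q.r, Q.z] :
      List (IrrCharacter G)).Perm (Blocks.trivIrr G :: Q.s :: Q.r :: Q.z :: L) := by
    have h1 : ([c22] ++ [Q.a, Q.b] ++ [Q.f, d, e] ++ [Q.E, Q.F] ++ [h₁, h₂, g₁, g₂] : List (IrrCharacter G)).Perm L := by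
      rw [hLe]
      exact (((List.Perm.refl [c22]).append hP).append hde |>.append hE).append (List.Perm.refl _)
    refine List.Perm.trans ?_ ((((h1.cons Q.z).cons Q.r).cons Q.s).cons (Blocks.trivIrr G))
    rw [← Multiset.coe_eq_coe]
    simp only [List.cons_append, List.nil_append, ← Multiset.cons_coe, Multiset.coe_nil]
    simp only [← Multiset.singleton_add]
    abel
  have hdeg16 : ([Blocks.trivIrr G, c22, Q.a, Q.b, Q.s, Q.f, d, e, g₁, g₂, Q.E, Q.F, h₁, h₂, Q.r, Q.z] :
      List (IrrCharacter G)).map deg =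
      [1, 22, 45, 45, 230, 231, 231, 231, 770, 770, 896, 896, 990, 990, 1035, 2024] := by
    have hd : deg d = 231 ∧ deg e = 231 := by
      have h : ∀ χ ∈ [x, y, z], deg χ = 231 := fun χ hχ => by
        simp only [List.mem_cons, List.not_mem_nil, or_false] at hχ
        rcases hχ with rfl | rfl | rfl <;> assumption
      exact ⟨h d (hde.subset (by simp)), h e (hde.subset (by simp))⟩
    simp only [List.map_cons, List.map_nil, deg_triv, d1, da, db, ds, df, hd.1, hd.2, dg1, dg2, dE, dF, d9,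
      d10, dr, dz]
  obtain ⟨M, hM⟩ : ∃ M, M = ([Blocks.trivIrr G, c22, Q.a, Q.b, Q.s, Q.f, d, e, g₁, g₂, Q.E, Q.F, h₁, h₂, Q.r, Q.z] :
      List (IrrCharacter G)) := ⟨_, rfl⟩
  rw [← hM] at hperm hdeg16
  have hMnd : M.Nodup := hperm.nodup_iff.mpr hbig
  -- the last character
  have hrest : ∀ χ, χ ∉ M → 253 ∣ deg χ := fun χ hχ => by
    have hne : χ ≠ Blocks.trivIrr G := fun e => hχ (hperm.mem_iff.mpr (by simp [e]))
    have h23 : 23 ∣ deg χ := by_contra fun h => hχ (hperm.mem_iff.mpr (by simp [hin χ hne h]))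
    have h11 : 11 ∣ deg χ := by
      by_contra h
      have := hdeg11 χ hne h
      refine hχ (hM ▸ ?_)
      simp only [List.mem_cons, List.not_mem_nil, or_false] at this
      rcases this with rfl | rfl | rfl | rfl | rfl | rfl <;>
        simp only [List.mem_cons, true_or, or_true]
    exact Nat.Coprime.mul_dvd_of_dvd_of_dvd (by norm_num : Nat.Coprime 11 23) h11 h23
  have hsum : ∑ χ ∈ Finset.univ \ M.toFinset, deg χ ^ 2 = 64009 := by
    have h := Char.sum_sq_degree (G := G)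
    simp only [value_one', ← Nat.cast_pow, ← Nat.cast_sum, Nat.cast_inj] at h
    rw [hn, ← Finset.sum_sdiff (Finset.subset_univ M.toFinset), List.sum_toFinset _ hMnd,
      show M.map (fun χ => deg χ ^ 2) = (M.map deg).map (· ^ 2) by rw [List.map_map]; rfl, hdeg16] at h
    norm_num at h
    omega
  obtain ⟨c253, hc253⟩ : ∃ χ, Finset.univ \ M.toFinset = {χ} := by
    refine Finset.card_eq_one.mp ?_
    have hge : ∀ χ ∈ Finset.univ \ M.toFinset, 64009 ≤ deg χ ^ 2 := fun χ hχ => by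
      have h := hrest χ (fun h => (Finset.mem_sdiff.mp hχ).2 (List.mem_toFinset.mpr h))
      have := Nat.le_of_dvd (deg_pos χ) h
      exact (Nat.pow_le_pow_left this 2 : 253 ^ 2 ≤ _)
    have := Finset.card_nsmul_le_sum _ _ _ hge
    rw [hsum, smul_eq_mul] at this
    have : (Finset.univ \ M.toFinset).card ≠ 0 := fun h0 => by
      rw [Finset.card_eq_zero.mp h0, Finset.sum_empty] at hsum
      omega
    omega
  have d253 : deg c253 = 253 := by
    rw [hc253, Finset.sum_singleton] at hsum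
    exact Nat.pow_left_injective two_ne_zero (hsum.trans (by norm_num : 64009 = 253 ^ 2))
  have hcnot : c253 ∉ M := fun h => by
    have := hc253.symm ▸ Finset.mem_singleton_self c253
    exact (Finset.mem_sdiff.mp this).2 (List.mem_toFinset.mpr h)
  have hall : ∀ χ, χ = c253 ∨ χ ∈ M := fun χ => by
    by_cases h : χ ∈ M
    · exact Or.inr h
    · exact Or.inl (Finset.mem_singleton.mp (hc253 ▸ Finset.mem_sdiff.mpr
        ⟨Finset.mem_univ _, fun h' => h (List.mem_toFinset.mp h')⟩))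
  have h17 : ([Blocks.trivIrr G, c22, Q.a, Q.b, Q.s, Q.f, d, e, c253, g₁, g₂, Q.E, Q.F, h₁, h₂, Q.r, Q.z] :
      List (IrrCharacter G)).Perm (c253 :: M) := hM ▸ List.perm_middle (l₁ := [Blocks.trivIrr G, c22, Q.a, Q.b, Q.s, Q.f, d, e])
  have hnd17 := h17.nodup_iff.mpr (List.nodup_cons.mpr ⟨hcnot, hMnd⟩)
  have hsum3 : ∀ g, (x : G → ℂ) g + (y : G → ℂ) g + (z : G → ℂ) g =
      (Q.f : G → ℂ) g + (d : G → ℂ) g + (e : G → ℂ) g := fun g => by
    have h := ((hde.map fun χ : IrrCharacter G => (χ : G → ℂ) g)).sum_eq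
    simp only [List.map_cons, List.map_nil, List.sum_cons, List.sum_nil] at h
    linear_combination -h
  have hsum2 : ∀ g, (p : G → ℂ) g + (q : G → ℂ) g = (Q.a : G → ℂ) g + (Q.b : G → ℂ) g ∧
      (E : G → ℂ) g + (F : G → ℂ) g = (Q.E : G → ℂ) g + (Q.F : G → ℂ) g := fun g => by
    have h := ((hP.map fun χ : IrrCharacter G => (χ : G → ℂ) g)).sum_eq
    have h' := ((hE.map fun χ : IrrCharacter G => (χ : G → ℂ) g)).sum_eq
    simp only [List.map_cons, List.map_nil, List.sum_cons, List.sum_nil] at h h'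
    exact ⟨by linear_combination -h, by linear_combination -h'⟩
  refine ⟨{
    c22 := c22, a45 := Q.a, b45 := Q.b, c230 := Q.s, c231 := Q.f, d231 := d, e231 := e, c253 := c253,
    a770 := g₁, b770 := g₂, a896 := Q.E, b896 := Q.F, a990 := h₁, b990 := h₂, c1035 := Q.r, c2024 := Q.z,
    nodup := hnd17,
    cover := fun χ => h17.mem_iff.mpr (List.mem_cons.mpr (hall χ)),
    degs := ?_, rel5 := Q.rel5, rel11 := Q.rel11, rel23 := fun g hg => ?_, val5 := Q.val5,
    cent5 := fun v hv => (cC_of_ctx Q.B5.T hv).trans rfl,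
    cent11 := fun v hv => (cC_of_ctx Q.B11.T hv).trans rfl,
    cent23 := fun v hv => (cC_of_ctx T23 hv).trans rfl,
    invol := fun t ht => ?_ }⟩
  · rw [hM] at hdeg16
    simp only [List.map_cons, List.map_nil, List.cons.injEq, and_true] at hdeg16 ⊢
    simp only [degs17, List.cons.injEq, and_true]
    simp [hdeg16, d253]
  · have h := fun ψ hψ => B.xs_map.choose_spec.2.2.2.2 770 rfl ψ hψ g hg
    have h1 : ∀ ψ ∈ B.yl, (ψ : G → ℂ) g = 1 - (c22 : G → ℂ) g - ((p : G → ℂ) g + (q : G → ℂ) g) +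
        ((x : G → ℂ) g + (y : G → ℂ) g + (z : G → ℂ) g) - ((E : G → ℂ) g + (F : G → ℂ) g) +
        ((h₁ : G → ℂ) g + (h₂ : G → ℂ) g) := fun ψ hψ => by
      have h := h ψ hψ
      change ((sgn 770 : ℤ) : ℂ) * (ψ : G → ℂ) g =
        1 + (B.xl.map fun χ : IrrCharacter G => (B.σ χ : ℂ) * (χ : G → ℂ) g).sum at h
      simp only [hxl, List.map_cons, List.map_nil, List.sum_cons, List.sum_nil, s1, s2, s3, s4, s5, s6, s7, s8,
        s9, s10, show sgn 770 = 1 from rfl] at h
      push_cast at h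
      linear_combination h
    obtain ⟨e2, e8⟩ := hsum2 g
    exact ⟨by rw [h1 g₁ (by rw [hyl]; simp), e2, e8, hsum3 g],
      (h1 g₂ (by rw [hyl]; simp)).trans (h1 g₁ (by rw [hyl]; simp)).symm⟩
  · obtain ⟨hc, -, -, va, vb, vE, vF, vs, vr, vf, vz⟩ := Q.invol T23 ht
    obtain ⟨-, hxr, hyr⟩ := hrow t ht
    rw [hxl] at hxr
    simp only [List.map_cons, List.map_nil, List.cons.injEq, and_true] at hxr
    obtain ⟨r1, r2, r3, r4, r5, r6, r7, r8, r9, r10⟩ := hxr
    have vd : iv d t = 7 ∧ iv e t = 7 := by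
      have h : ∀ χ ∈ [x, y, z], iv χ t = 7 := fun χ hχ => by
        simp only [List.mem_cons, List.not_mem_nil, or_false] at hχ
        rcases hχ with rfl | rfl | rfl <;> assumption
      exact ⟨h d (hde.subset (by simp)), h e (hde.subset (by simp))⟩
    have vg1 := hyr g₁ (by rw [hyl]; simp)
    have vg2 := hyr g₂ (by rw [hyl]; simp)
    refine ⟨hc, ?_⟩
    have htt := mul_self_of_order_two ht
    have v253 : iv c253 t = 13 := by
      have h := Char.column_orthogonality (G := G) t 1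
      rw [if_neg fun hc => ne_one_of_order_two ht (isConj_one_left.mp hc)] at h
      rw [show (Finset.univ : Finset (IrrCharacter G)) = (c253 :: M).toFinset from
        (Finset.eq_univ_iff_forall.mpr fun χ => List.mem_toFinset.mpr (List.mem_cons.mpr (hall χ))).symm,
        List.sum_toFinset _ (List.nodup_cons.mpr ⟨hcnot, hMnd⟩)] at h
      rw [hM] at hdeg16
      simp only [List.map_cons, List.map_nil, List.cons.injEq, and_true] at hdeg16
      simp only [hM, List.map_cons, List.map_nil, List.sum_cons, List.sum_nil, iv_spec _ htt, value_one',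
        map_natCast, iv_triv, r1, va, vb, vE, vF, vs, vr, vf, vz, vd.1, vd.2, vg1, vg2, r9, r10, d253,
        hdeg16] at h
      have h' : ((253 * iv c253 t : ℤ) : ℂ) = ((3289 : ℤ) : ℂ) := by push_cast at h ⊢; linear_combination h
      have := Int.cast_injective h'
      omega
    simp only [List.map_cons, List.map_nil, iv_triv, r1, va, vb, vs, vf, vd.1, vd.2, v253, vg1, vg2, vE, vF,
      r9, r10, vr, vz]
    rfl

end CfsgLib.M23Order
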