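import Cfsg.Agent.Lib.M23Order.CharSeven

/-!
# Simple groups of order 10200960: the columns at elements of order 5 and of order 3
-/

set_option autoImplicit false
set_option linter.unusedSectionVars false
set_option linter.style.haveILetI false
set_option maxHeartbeats 2000000

namespace CfsgLib.M23Order

open Cfsg
open scoped ComplexConjugate CfsgLib.Char
open CfsgLib CfsgLib.BrauerTuan CfsgLib.OrderBlocks
open scoped _root_.Classical

universe u

theorem mem_vals3 {c d : ℕ} {A : ℤ} (h1 : A * A ≤ (c : ℤ)) (h2 : (3 : ℤ) ∣ A - (d : ℤ))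
    (h3 : ((10200960 / c : ℕ) : ℤ) * A % (d : ℤ) = 0) : A ∈ vals3 c d := by
  have hb := bnd_spec h1
  simp only [vals3, List.mem_filter, List.mem_map, List.mem_range, Bool.and_eq_true, decide_eq_true_eq]
  exact ⟨⟨(A + bnd c).toNat, by omega, by omega⟩, ⟨h1, Int.emod_eq_zero_of_dvd h2⟩, h3⟩

theorem colOK_eq (c : ℕ) (a e w z T B f h s g u2 u D : ℤ) (hT : -3 * (1 + z) = T)
    (hB : 1 + z - a - e - 3 * w = B) (hf : z - 1 - 2 * e = f) (hh : 1 - w + z = h) (hs : 1 + B + w - e = s)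
    (hg : 1 - a - B + T - 2 * e + 2 * h = g) (hu2 : 1 + 2 * a + T + 2 * e - z = u2) (hu : u2 / 2 = u)
    (hD : T - f = D) :
    colOK c a e w z = (decide (u2 % 2 = 0) && ok3 c 231 f && ok3 c 990 h && ok3 c 230 s && ok3 c 770 g &&
      ok3 c 253 u && decide (B * B + D * D ≤ 2 * ((c : ℤ) -
        (1 + a * a + 2 * (e * e) + w * w + z * z + f * f + 2 * (h * h) + 2 * (g * g) + s * s + u * u)))) := by
  subst hT hB hf hh hs hg hu2 hu hD
  rfl

theorem ok3_of {c d : ℕ} {A : ℤ} (h1 : A * A ≤ (c : ℤ)) (h2 : (3 : ℤ) ∣ A - (d : ℤ))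
    (h3 : ((10200960 / c : ℕ) : ℤ) * A % (d : ℤ) = 0) : ok3 c d A = true := by
  rw [ok3, Bool.and_eq_true, Bool.and_eq_true]
  exact ⟨⟨decide_eq_true h1, decide_eq_true (Int.emod_eq_zero_of_dvd h2)⟩, decide_eq_true h3⟩

theorem key_three' {c : ℕ} (hcm : c ∈ centOrders3) {a e w z : ℤ} (ha : a ∈ vals3 c 22) (he : e ∈ vals3 c 896)
    (hw : w ∈ vals3 c 1035) (hz : z ∈ vals3 c 2024) (hok : colOK c a e w z = true) :
    c = 180 ∧ a = 4 ∧ e = -4 ∧ w = 0 ∧ z = -1 := by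
  have h1 := List.all_eq_true.mp key_three c hcm
  have h2 := List.all_eq_true.mp h1 a ha
  have h3 := List.all_eq_true.mp h2 e he
  have h4 := List.all_eq_true.mp h3 w hw
  have h5 := List.all_eq_true.mp h4 z hz
  rw [hok, Bool.not_true, Bool.false_or] at h5
  simp only [Bool.and_eq_true, decide_eq_true_eq] at h5
  obtain ⟨⟨⟨⟨h6, h7⟩, h8⟩, h9⟩, h10⟩ := h5
  exact ⟨h6, h7, h8, h9, h10⟩

theorem col_lin {a e w z f h s g u B D : ℤ}
    (e1 : 1 + 22 * a + 45 * B + 230 * s + 231 * (f + D) + 253 * u + 1540 * g + 1792 * e + 1980 * h +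
        1035 * w + 2024 * z = 0)
    (e2 : 1 + 6 * a - 3 * B + 22 * s + 7 * (f + D) + 13 * u - 28 * g - 36 * h + 27 * w + 8 * z = 0)
    (e3 : 1 + 2 * a + (f + D) - 2 * u + 2 * e - z = 0)
    (hf : f = z - 1 - 2 * e) (hh : h = 1 - w + z) (hB : B = e - 1 + s - w)
    (hD : D = g - 1 + a + B - f + 2 * e - 2 * h) :
    -3 * (1 + z) = f + D ∧ 1 + z - a - e - 3 * w = B ∧ 1 + B + w - e = s ∧
      1 - a - B + (f + D) - 2 * e + 2 * h = g ∧ 1 + 2 * a + (f + D) + 2 * e - z = 2 * u := by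
  omega

theorem hcf_of {e z f : ℤ} (ce : (3 : ℤ) ∣ e - ((896 : ℕ) : ℤ)) (cz : (3 : ℤ) ∣ z - ((2024 : ℕ) : ℤ))
    (hf : f = z - 1 - 2 * e) : (3 : ℤ) ∣ f - ((231 : ℕ) : ℤ) := by
  omega

/-- The arithmetic of the column at an element of order `3` or `9`. -/
theorem col_arith {c : ℕ} (hcm : c ∈ centOrders3) {a e w z f h s g u B D R : ℤ}
    (he' : 1 + 22 * a + 45 * B + 230 * s + 231 * (f + D) + 253 * u + 1540 * g + 1792 * e + 1980 * h +
        1035 * w + 2024 * z = 0 ∧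
      1 + 6 * a - 3 * B + 22 * s + 7 * (f + D) + 13 * u - 28 * g - 36 * h + 27 * w + 8 * z = 0 ∧
      1 + 2 * a + (f + D) - 2 * u + 2 * e - z = 0)
    (hd : f = z - 1 - 2 * e ∧ h = 1 - w + z ∧ B = e - 1 + s - w ∧ D = g - 1 + a + B - f + 2 * e - 2 * h)
    (hR : R = (c : ℤ) - (1 + a * a + 2 * (e * e) + w * w + z * z + f * f + 2 * (h * h) +
      2 * (g * g) + s * s + u * u))
    (hBD : B * B + D * D ≤ 2 * R)
    (hc : (3 : ℤ) ∣ a - ((22 : ℕ) : ℤ) ∧ (3 : ℤ) ∣ e - ((896 : ℕ) : ℤ) ∧ (3 : ℤ) ∣ w - ((1035 : ℕ) : ℤ) ∧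
      (3 : ℤ) ∣ z - ((2024 : ℕ) : ℤ) ∧ (3 : ℤ) ∣ h - ((990 : ℕ) : ℤ) ∧ (3 : ℤ) ∣ s - ((230 : ℕ) : ℤ) ∧
      (3 : ℤ) ∣ g - ((770 : ℕ) : ℤ) ∧ (3 : ℤ) ∣ u - ((253 : ℕ) : ℤ))
    (ho : ((10200960 / c : ℕ) : ℤ) * a % ((22 : ℕ) : ℤ) = 0 ∧ ((10200960 / c : ℕ) : ℤ) * e % ((896 : ℕ) : ℤ) = 0 ∧
      ((10200960 / c : ℕ) : ℤ) * w % ((1035 : ℕ) : ℤ) = 0 ∧ ((10200960 / c : ℕ) : ℤ) * z % ((2024 : ℕ) : ℤ) = 0 ∧
      ((10200960 / c : ℕ) : ℤ) * f % ((231 : ℕ) : ℤ) = 0 ∧ ((10200960 / c : ℕ) : ℤ) * h % ((990 : ℕ) : ℤ) = 0 ∧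
      ((10200960 / c : ℕ) : ℤ) * s % ((230 : ℕ) : ℤ) = 0 ∧ ((10200960 / c : ℕ) : ℤ) * g % ((770 : ℕ) : ℤ) = 0 ∧
      ((10200960 / c : ℕ) : ℤ) * u % ((253 : ℕ) : ℤ) = 0) :
    c = 180 ∧ a = 4 ∧ e = -4 ∧ w = 0 ∧ z = -1 ∧ f = 6 ∧ h = 0 ∧ s = 5 ∧ g = 5 ∧ u = 1 ∧ B = 0 ∧ D = -6 ∧
      R = 18 := by
  obtain ⟨e1, e2, e3⟩ := he'
  obtain ⟨hf, hh, hBd, hDd⟩ := hd
  obtain ⟨ca, ce, cw, cz, ch, cs, cg, cu⟩ := hc
  obtain ⟨oa, oe, ow, oz, of', oh, os, og, ou⟩ := ho
  have hpos : 0 ≤ B * B + D * D := add_nonneg (mul_self_nonneg _) (mul_self_nonneg _)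
  obtain ⟨sa, se, sw, sz, sf, sh, ss, sg, su⟩ : a * a ≤ c ∧ e * e ≤ c ∧ w * w ≤ c ∧ z * z ≤ c ∧ f * f ≤ c ∧
      h * h ≤ c ∧ s * s ≤ c ∧ g * g ≤ c ∧ u * u ≤ c := by
    have := mul_self_nonneg a; have := mul_self_nonneg e; have := mul_self_nonneg w; have := mul_self_nonneg z
    have := mul_self_nonneg f; have := mul_self_nonneg h; have := mul_self_nonneg s; have := mul_self_nonneg g
    have := mul_self_nonneg u
    refine ⟨?_, ?_, ?_, ?_, ?_, ?_, ?_, ?_, ?_⟩ <;> linarith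
  obtain ⟨hT, hB', hs', hg', hu2⟩ := col_lin e1 e2 e3 hf hh hBd hDd
  have hcf := hcf_of ce cz hf
  have hok : colOK c a e w z = true := by
    rw [colOK_eq c a e w z (f + D) B f h s g (2 * u) u D hT hB' hf.symm hh.symm hs' hg' hu2
      (Int.mul_ediv_cancel_left u two_ne_zero) (add_sub_cancel_left f D)]
    simp only [Bool.and_eq_true]
    refine ⟨⟨⟨⟨⟨⟨decide_eq_true (Int.mul_emod_right 2 u), ok3_of sf hcf of'⟩, ok3_of sh ch oh⟩, ok3_of ss cs os⟩,
      ok3_of sg cg og⟩, ok3_of su cu ou⟩, decide_eq_true (by rw [← hR]; exact hBD)⟩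
  obtain ⟨kc, rfl, rfl, rfl, rfl⟩ := key_three' hcm (mem_vals3 sa ca oa) (mem_vals3 se ce oe) (mem_vals3 sw cw ow)
    (mem_vals3 sz cz oz) hok
  subst kc
  clear hok oa oe ow oz of' oh os og ou ca ce cw cz ch cs cg cu hcf hpos sa se sw sz sf sh ss sg su hcm
  obtain rfl : B = 0 := by omega
  obtain rfl : f = 6 := by omega
  obtain rfl : D = -6 := by omega
  obtain rfl : h = 0 := by omega
  obtain rfl : s = 5 := by omega
  obtain rfl : g = 5 := by omega
  obtain rfl : u = 1 := by omega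
  refine ⟨rfl, rfl, rfl, rfl, rfl, rfl, rfl, rfl, rfl, rfl, rfl, rfl, ?_⟩
  norm_num at hR ⊢
  omega

variable {G : Type u} [Group G] [Fintype G] [IsSimpleGroup G] (T : Tab G) (S : Seven G T)

/-- Two values with given sum and least squares are equal. -/
theorem eq_of_normSq {x y : ℂ} {B : ℝ} (hs : x + y = (B : ℂ)) (hq : 2 * (Complex.normSq x + Complex.normSq y) ≤ B * B) :
    x = (B / 2 : ℝ) ∧ y = (B / 2 : ℝ) ∧ Complex.normSq x + Complex.normSq y = B * B / 2 := by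
  have hre := congrArg Complex.re hs
  have him := congrArg Complex.im hs
  simp only [Complex.add_re, Complex.add_im, Complex.ofReal_re, Complex.ofReal_im] at hre him
  simp only [Complex.normSq_apply] at hq ⊢
  have hB2 : B * B = (x.re + y.re) * (x.re + y.re) := by rw [hre]
  have h1 : x.im = 0 := by nlinarith [mul_self_nonneg (x.re - y.re), mul_self_nonneg x.im, mul_self_nonneg y.im]
  have h2 : y.im = 0 := by linarith
  have h3 : x.re = B / 2 := by nlinarith [mul_self_nonneg (x.re - y.re), mul_self_nonneg x.im, mul_self_nonneg y.im]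
  have h4 : y.re = B / 2 := by linarith
  refine ⟨Complex.ext (by simp [h3]) (by simp [h1]), Complex.ext (by simp [h4]) (by simp [h2]), ?_⟩
  rw [h1, h2, h3, h4]
  ring

theorem sum_normSq_ge (x y : ℂ) {B : ℝ} (hs : x + y = (B : ℂ)) :
    B * B ≤ 2 * (Complex.normSq x + Complex.normSq y) := by
  have hre := congrArg Complex.re hs
  simp only [Complex.add_re, Complex.ofReal_re] at hre
  simp only [Complex.normSq_apply]
  have hB2 : B * B = (x.re + y.re) * (x.re + y.re) := by rw [hre]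
  nlinarith [mul_self_nonneg (x.re - y.re), mul_self_nonneg x.im, mul_self_nonneg y.im]

variable [Fact (Nat.Prime 5)]

/-- The column at an element of order `5`. -/
theorem Tab.col_five (hn : Nat.card G = 10200960) (T : Tab G) {v : G} (hv : orderOf v = 5) :
    (T.c22 : G → ℂ) v = 2 ∧ (T.a45 : G → ℂ) v = 0 ∧ (T.b45 : G → ℂ) v = 0 ∧ (T.c230 : G → ℂ) v = 0 ∧
      (T.c231 : G → ℂ) v = 1 ∧ (T.d231 : G → ℂ) v = 1 ∧ (T.e231 : G → ℂ) v = 1 ∧ (T.c253 : G → ℂ) v = -2 ∧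
      (T.a770 : G → ℂ) v = 0 ∧ (T.b770 : G → ℂ) v = 0 ∧ (T.a896 : G → ℂ) v = 1 ∧ (T.b896 : G → ℂ) v = 1 ∧
      (T.a990 : G → ℂ) v = 0 ∧ (T.b990 : G → ℂ) v = 0 ∧ (T.c1035 : G → ℂ) v = 0 ∧ (T.c2024 : G → ℂ) v = -1 := by
  obtain ⟨d1, d2, d3, d4, d5, d6, d7, d8, d9, d10, d11, d12, d13, d14, d15, d16⟩ := T.d
  have hv0 : ∀ χ : IrrCharacter G, 5 ∣ deg χ → (χ : G → ℂ) v = 0 := fun χ hd =>
    vanish_of_dvd hn (by norm_num) (by norm_num) hd (by rw [hv])
  obtain ⟨vf, vE, vF, vz⟩ := T.val5 v hv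
  have z2 := hv0 T.a45 (by rw [d2]; norm_num)
  have z3 := hv0 T.b45 (by rw [d3]; norm_num)
  have z4 := hv0 T.c230 (by rw [d4]; norm_num)
  have z9 := hv0 T.a770 (by rw [d9]; norm_num)
  have z10 := hv0 T.b770 (by rw [d10]; norm_num)
  have z13 := hv0 T.a990 (by rw [d13]; norm_num)
  have z14 := hv0 T.b990 (by rw [d14]; norm_num)
  have z15 := hv0 T.c1035 (by rw [d15]; norm_num)
  have ia := T.int_unique (Or.inl rfl : T.c22 = T.c22 ∨ _) v
  have iu := T.int_unique (Or.inr (Or.inr (Or.inl rfl)) : T.c253 = T.c22 ∨ _) v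
  obtain ⟨a, ha⟩ : ∃ a, a = iv T.c22 v := ⟨_, rfl⟩
  obtain ⟨u, hu⟩ : ∃ u, u = iv T.c253 v := ⟨_, rfl⟩
  rw [← ha] at ia
  rw [← hu] at iu
  have htriv : ∀ g : G, (Blocks.trivIrr G : G → ℂ) g = 1 := fun g => by simp [Blocks.trivIrr]
  -- `D = a`
  have hD : (T.d231 : G → ℂ) v + (T.e231 : G → ℂ) v = ((a : ℝ) : ℂ) := by
    obtain ⟨h, -⟩ := T.rel23 v (by rw [hv]; norm_num)
    rw [z9, z13, z14, z2, z3, vf, vE, vF, ia] at h
    push_cast
    linear_combination -h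
  have hv1 : v ≠ 1 := fun e => by rw [e, orderOf_one] at hv; omega
  have h1 := T.orth (g := v) (h := 1) fun h => hv1 (isConj_one_left.mp h)
  rw [T.sum_eq] at h1
  simp only [value_one', map_natCast, map_one, Nat.cast_one, d1, d2, d3, d4, d5, d6, d7, d8, d9, d10, d11, d12, d13, d14, d15, d16,
    deg_triv, htriv, ia, iu, z2, z3, z4, vf, vE, vF, vz, z9, z10, z13, z14, z15] at h1
  have hua : u = -a := by
    have h : ((253 * (u + a) : ℤ) : ℂ) = ((0 : ℤ) : ℂ) := by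
      push_cast
      push_cast at h1 hD
      linear_combination h1 - (231 : ℂ) * hD
    have := Int.cast_injective h
    omega
  have hcong : (5 : ℤ) ∣ a - 22 := by
    have h := iv_congr Nat.prime_five (χ := T.c22) (g := v) (T.int_unique (Or.inl rfl) v)
      (T.int_unique (Or.inl rfl) (v ^ 5))
    rw [show v ^ 5 = 1 by rw [← hv, pow_orderOf_eq_one], iv_one, d1, ← ha] at h
    exact_mod_cast h
  have hN := T.norm_eq v
  rw [T.sum_eq, T.cent5 v hv] at hN
  simp only [htriv, ia, iu, z2, z3, z4, vf, vE, vF, vz, z9, z10, z13, z14, z15, map_intCast, map_one, map_zero,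
    map_neg] at hN
  simp only [Complex.mul_conj] at hN
  have hN' : 5 + (a : ℝ) * a + (u : ℝ) * u +
      (Complex.normSq ((T.d231 : G → ℂ) v) + Complex.normSq ((T.e231 : G → ℂ) v)) = 15 := by
    apply Complex.ofReal_injective
    push_cast at hN ⊢
    linear_combination hN
  have hge := sum_normSq_ge _ _ hD
  rw [hua] at hN'
  push_cast at hN'
  have ha2 : a = 2 := by
    have h5 : (a : ℝ) * a ≤ 4 := by nlinarith
    have h5' : a * a ≤ 4 := by exact_mod_cast h5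
    have : -2 ≤ a ∧ a ≤ 2 := by constructor <;> nlinarith
    omega
  subst ha2
  obtain ⟨e1, e2, -⟩ := eq_of_normSq hD (by push_cast at hN' hge ⊢; linarith)
  refine ⟨by rw [ia]; norm_num, z2, z3, z4, vf, by rw [e1]; norm_num, by rw [e2]; norm_num,
    by rw [iu, hua]; norm_num, z9, z10, vE, vF, z13, z14, z15, vz⟩

variable [Fact (Nat.Prime 11)] [Fact (Nat.Prime 23)]

include S in
/-- The column at an element of order `3` or `9`. -/
theorem Tab.col_three (hn : Nat.card G = 10200960) {y : G} (hy : orderOf y = 3 ∨ orderOf y = 9) :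
    cC y = 180 ∧ (T.c22 : G → ℂ) y = 4 ∧ (T.a45 : G → ℂ) y = 0 ∧ (T.b45 : G → ℂ) y = 0 ∧
      (T.c230 : G → ℂ) y = 5 ∧ (T.c231 : G → ℂ) y = 6 ∧ (T.d231 : G → ℂ) y = -3 ∧ (T.e231 : G → ℂ) y = -3 ∧
      (T.c253 : G → ℂ) y = 1 ∧ (T.a770 : G → ℂ) y = 5 ∧ (T.b770 : G → ℂ) y = 5 ∧ (T.a896 : G → ℂ) y = -4 ∧
      (T.b896 : G → ℂ) y = -4 ∧ (T.a990 : G → ℂ) y = 0 ∧ (T.b990 : G → ℂ) y = 0 ∧ (T.c1035 : G → ℂ) y = 0 ∧
      (T.c2024 : G → ℂ) y = -1 := by
  haveI : Fact (Nat.Prime 2) := ⟨Nat.prime_two⟩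
  haveI : Fact (Nat.Prime 3) := ⟨Nat.prime_three⟩
  obtain ⟨d1, d2, d3, d4, d5, d6, d7, d8, d9, d10, d11, d12, d13, d14, d15, d16⟩ := T.d
  have hreg : ∀ z : G, orderOf z ∣ 9 → ∀ p : ℕ, p = 5 ∨ p = 7 ∨ p = 11 ∨ p = 23 → ¬ p ∣ orderOf z :=
    fun z hz p hp h => by
      have := h.trans hz
      rcases hp with rfl | rfl | rfl | rfl <;> norm_num at this
  have hy9 : orderOf y ∣ 9 := by rcases hy with h | h <;> rw [h] <;> norm_num
  -- integer values at `y` and its powers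
  have hint : ∀ z : G, orderOf z ∣ 9 → ∀ χ ∈ [T.c22, T.c230, T.c253, T.c1035, T.c2024, T.a770, T.a896, T.a990],
      (χ : G → ℂ) z = iv χ z := by
    intro z hz χ hχ
    simp only [List.mem_cons, List.not_mem_nil, or_false] at hχ
    rcases hχ with rfl | rfl | rfl | rfl | rfl | rfl | rfl | rfl
    · exact T.int_unique (Or.inl rfl) z
    · exact T.int_unique (Or.inr (Or.inl rfl)) z
    · exact T.int_unique (Or.inr (Or.inr (Or.inl rfl))) z
    · exact T.int_unique (Or.inr (Or.inr (Or.inr (Or.inl rfl)))) z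
    · exact T.int_unique (Or.inr (Or.inr (Or.inr (Or.inr rfl)))) z
    · exact T.int_pair (Or.inl ⟨rfl, rfl⟩) (T.rel23 z (hreg z hz 23 (by simp))).2
    · exact T.int_pair (Or.inr (Or.inl ⟨rfl, rfl⟩)) (T.rel11 z (hreg z hz 11 (by simp))).2
    · exact T.int_pair (Or.inr (Or.inr ⟨rfl, rfl⟩)) (S.rel7 z (hreg z hz 7 (by simp))).2
  obtain ⟨a, ha⟩ : ∃ a, a = iv T.c22 y := ⟨_, rfl⟩
  obtain ⟨s, hs⟩ : ∃ s, s = iv T.c230 y := ⟨_, rfl⟩
  obtain ⟨u, hu⟩ : ∃ u, u = iv T.c253 y := ⟨_, rfl⟩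
  obtain ⟨w, hw⟩ : ∃ w, w = iv T.c1035 y := ⟨_, rfl⟩
  obtain ⟨z, hz⟩ : ∃ z, z = iv T.c2024 y := ⟨_, rfl⟩
  obtain ⟨g, hg⟩ : ∃ g, g = iv T.a770 y := ⟨_, rfl⟩
  obtain ⟨e, he⟩ : ∃ e, e = iv T.a896 y := ⟨_, rfl⟩
  obtain ⟨h, hh⟩ : ∃ h, h = iv T.a990 y := ⟨_, rfl⟩
  have va := hint y hy9 T.c22 (by simp); rw [← ha] at va
  have vs := hint y hy9 T.c230 (by simp); rw [← hs] at vs
  have vu := hint y hy9 T.c253 (by simp); rw [← hu] at vu
  have vw := hint y hy9 T.c1035 (by simp); rw [← hw] at vw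
  have vz := hint y hy9 T.c2024 (by simp); rw [← hz] at vz
  have vg := hint y hy9 T.a770 (by simp); rw [← hg] at vg
  have ve := hint y hy9 T.a896 (by simp); rw [← he] at ve
  have vh := hint y hy9 T.a990 (by simp); rw [← hh] at vh
  obtain ⟨re, veb⟩ := T.rel11 y (hreg y hy9 11 (by simp))
  obtain ⟨rg, vgb⟩ := T.rel23 y (hreg y hy9 23 (by simp))
  obtain ⟨rh, vhb⟩ := S.rel7 y (hreg y hy9 7 (by simp))
  have rf := T.rel5 y (hreg y hy9 5 (by simp))
  rw [veb, ve] at rf rg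
  rw [ve] at re veb
  rw [vh] at rh vhb
  rw [vhb, vh, va] at rg
  rw [vg] at rg vgb
  rw [vz] at rf rh
  rw [vw] at re rh
  rw [vs] at re
  obtain ⟨f, hf⟩ : ∃ f, f = z - 1 - 2 * e := ⟨_, rfl⟩
  have vf : (T.c231 : G → ℂ) y = f := by
    rw [hf]; push_cast; linear_combination rf
  have hB : (T.a45 : G → ℂ) y + (T.b45 : G → ℂ) y = ((((e - 1 + s - w : ℤ) : ℝ)) : ℂ) := by
    push_cast; linear_combination -re
  have hh' : h = 1 - w + z := by
    apply Int.cast_injective (α := ℂ); push_cast; linear_combination rh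
  have hD : (T.d231 : G → ℂ) y + (T.e231 : G → ℂ) y =
      ((((g - 1 + a + (e - 1 + s - w) - f + 2 * e - 2 * h : ℤ) : ℝ)) : ℂ) := by
    rw [vf] at rg
    push_cast at hB ⊢
    linear_combination -rg + hB
  obtain ⟨B, hBd⟩ : ∃ B, B = e - 1 + s - w := ⟨_, rfl⟩
  obtain ⟨D, hDd⟩ : ∃ D, D = g - 1 + a + B - f + 2 * e - 2 * h := ⟨_, rfl⟩
  rw [← hBd] at hB hD
  rw [← hDd] at hD
  have htriv : ∀ x : G, (Blocks.trivIrr G : G → ℂ) x = 1 := fun x => by simp [Blocks.trivIrr]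
  have hy1 : orderOf y ≠ 1 := by rcases hy with h | h <;> rw [h] <;> norm_num
  -- orthogonality to `1`, an involution and an element of order `5`
  have o1 := T.orth (g := y) (h := 1) (not_conj_of_orderOf (by rw [orderOf_one]; exact hy1))
  rw [T.sum_eq] at o1
  simp only [value_one', map_natCast, map_one, Nat.cast_one, d1, d2, d3, d4, d5, d6, d7, d8, d9, d10, d11, d12, d13, d14, d15, d16,
    deg_triv, htriv, va, vs, vf, vu, vgb, vg, veb, ve, vhb, vh, vw, vz] at o1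
  have e1 : 1 + 22 * a + 45 * B + 230 * s + 231 * (f + D) + 253 * u + 1540 * g + 1792 * e + 1980 * h +
      1035 * w + 2024 * z = 0 := by
    apply Int.cast_injective (α := ℂ)
    push_cast at o1 hB hD ⊢
    linear_combination o1 - (45 : ℂ) * hB - (231 : ℂ) * hD
  obtain ⟨t, ht⟩ := exists_prime_orderOf_dvd_card' (G := G) 2 (by rw [hn]; norm_num)
  obtain ⟨-, t1, t2, t3, t4, t5, t6, t7, t8, t9, t10, t11, t12, t13, t14, t15, t16⟩ := T.at_invol ht
  have o2 := T.orth (g := y) (h := t) (not_conj_of_orderOf (by rcases hy with h | h <;> rw [h, ht] <;> norm_num))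
  rw [T.sum_eq] at o2
  simp only [t1, t2, t3, t4, t5, t6, t7, t8, t9, t10, t11, t12, t13, t14, t15, t16, map_one, map_zero, map_neg,
    map_ofNat, htriv, va, vs, vf, vu, vgb, vg, veb, ve, vhb, vh, vw, vz] at o2
  have e2 : 1 + 6 * a - 3 * B + 22 * s + 7 * (f + D) + 13 * u - 28 * g - 36 * h + 27 * w + 8 * z = 0 := by
    apply Int.cast_injective (α := ℂ)
    push_cast at o2 hB hD ⊢
    linear_combination o2 + (3 : ℂ) * hB - (7 : ℂ) * hD
  obtain ⟨v, hv⟩ := exists_prime_orderOf_dvd_card' (G := G) 5 (by rw [hn]; norm_num)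
  obtain ⟨v1, v2, v3, v4, v5, v6, v7, v8, v9, v10, v11, v12, v13, v14, v15, v16⟩ := T.col_five hn hv
  have o3 := T.orth (g := y) (h := v) (not_conj_of_orderOf (by rcases hy with h | h <;> rw [h, hv] <;> norm_num))
  rw [T.sum_eq] at o3
  simp only [v1, v2, v3, v4, v5, v6, v7, v8, v9, v10, v11, v12, v13, v14, v15, v16, map_one, map_zero, map_neg,
    map_ofNat, htriv, va, vs, vf, vu, vgb, vg, veb, ve, vhb, vh, vw, vz] at o3
  have e3 : 1 + 2 * a + (f + D) - 2 * u + 2 * e - z = 0 := by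
    apply Int.cast_injective (α := ℂ)
    push_cast at o3 hD ⊢
    linear_combination o3 - hD
  -- the norm
  have hN := T.norm_eq y
  rw [T.sum_eq] at hN
  simp only [htriv, va, vs, vf, vu, vgb, vg, veb, ve, vhb, vh, vw, vz, map_intCast, map_one] at hN
  simp only [Complex.mul_conj] at hN
  obtain ⟨c, hc⟩ : ∃ c, c = cC y := ⟨_, rfl⟩
  obtain ⟨R, hR⟩ : ∃ R : ℤ, R = (c : ℤ) - (1 + a * a + 2 * (e * e) + w * w + z * z + f * f + 2 * (h * h) +
      2 * (g * g) + s * s + u * u) := ⟨_, rfl⟩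
  have hQ : Complex.normSq ((T.a45 : G → ℂ) y) + Complex.normSq ((T.b45 : G → ℂ) y) +
      (Complex.normSq ((T.d231 : G → ℂ) y) + Complex.normSq ((T.e231 : G → ℂ) y)) = (R : ℝ) := by
    apply Complex.ofReal_injective
    rw [hR, hc]
    push_cast at hN ⊢
    linear_combination hN
  have g1 := sum_normSq_ge _ _ hB
  have g2 := sum_normSq_ge _ _ hD
  have hBD : B * B + D * D ≤ 2 * R := by
    have : ((B * B + D * D : ℤ) : ℝ) ≤ ((2 * R : ℤ) : ℝ) := by push_cast; linarith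
    exact_mod_cast this
  -- the order of the centraliser
  have hcm : c ∈ centOrders3 := by
    have hno : ∀ p : ℕ, p = 11 ∨ p = 23 → p.Prime → ¬ p ∣ c := fun p hp hpp hd => by
      haveI := Fact.mk hpp
      rw [hc] at hd
      obtain ⟨x, hx⟩ := exists_prime_orderOf_dvd_card' (G := Subgroup.centralizer ({y} : Set G)) p hd
      have hxo : orderOf (x : G) = p := by rw [Subgroup.orderOf_coe]; exact hx
      have h3 : orderOf y ∣ cC (x : G) := Subgroup.orderOf_dvd_natCard _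
        (Subgroup.mem_centralizer_singleton_iff.mpr (Subgroup.mem_centralizer_singleton_iff.mp x.2).symm)
      rcases hp with rfl | rfl
      · rw [T.cent11 _ hxo] at h3
        rcases hy with e | e <;> rw [e] at h3 <;> norm_num at h3
      · rw [T.cent23 _ hxo] at h3
        rcases hy with e | e <;> rw [e] at h3 <;> norm_num at h3
    have h11 := ((Nat.Prime.coprime_iff_not_dvd (by norm_num : Nat.Prime 11)).mpr
      (hno 11 (Or.inl rfl) (by norm_num))).symm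
    have h23 := ((Nat.Prime.coprime_iff_not_dvd (by norm_num : Nat.Prime 23)).mpr
      (hno 23 (Or.inr rfl) (by norm_num))).symm
    have h40 : c ∣ 40320 := (h11.mul_right h23).dvd_of_dvd_mul_left
      (show c ∣ 11 * 23 * 40320 by norm_num; exact hc ▸ cC_dvd hn y)
    have h9 : 9 ∣ c := by
      rw [hc]
      rcases hy with e | e
      · obtain ⟨P, hP⟩ := (IsPGroup.of_card (n := 1) (p := 3)
          (by rw [Nat.card_zpowers, e, pow_one] : Nat.card (Subgroup.zpowers y) = 3 ^ 1)).exists_le_sylow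
        have hP9 : Nat.card (P : Subgroup G) = 3 ^ 2 := by
          rw [P.card_eq_multiplicity, hn]
          congr 1
          rw [show (10200960 : ℕ) = 3 ^ 2 * 1133440 by norm_num,
            Nat.factorization_mul (by norm_num) (by norm_num), Finsupp.add_apply,
            Nat.Prime.factorization_pow Nat.prime_three, Finsupp.single_eq_same,
            Nat.factorization_eq_zero_of_not_dvd (by norm_num)]
        have hle : (P : Subgroup G) ≤ Subgroup.centralizer ({y} : Set G) := fun x hx =>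
          Subgroup.mem_centralizer_singleton_iff.mpr (congrArg Subtype.val
            ((IsPGroup.commGroupOfCardEqPrimeSq hP9).mul_comm ⟨x, hx⟩ ⟨y, hP (Subgroup.mem_zpowers y)⟩))
        have h' := Subgroup.card_dvd_of_le hle
        rw [hP9] at h'
        exact h'
      · rw [← e]
        exact Subgroup.orderOf_dvd_natCard _ (Subgroup.mem_centralizer_singleton_iff.mpr rfl)
    obtain ⟨m, rfl⟩ := h9
    simp only [centOrders3, List.mem_map]
    exact ⟨m, mem_divs _ (by norm_num) _ (Nat.dvd_of_mul_dvd_mul_left (by norm_num : 0 < 9)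
      (show 9 * m ∣ 9 * ([128, 5, 7] : List ℕ).prod by norm_num; exact h40.trans (by norm_num))), rfl⟩
  -- congruences
  have h333 : ∀ χ ∈ [T.c22, T.c230, T.c253, T.c1035, T.c2024, T.a770, T.a896, T.a990],
      (3 : ℤ) ∣ iv χ y - (deg χ : ℤ) := by
    intro χ hχ
    have h9' : y ^ 3 ^ 2 = 1 := orderOf_dvd_iff_pow_eq_one.mp (by norm_num; exact hy9)
    have k1 := iv_congr Nat.prime_three (hint y hy9 χ hχ) (hint (y ^ 3) ((orderOf_pow_dvd 3).trans hy9) χ hχ)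
    have k2 := iv_congr Nat.prime_three (hint (y ^ 3) ((orderOf_pow_dvd 3).trans hy9) χ hχ)
      (g := y ^ 3) (hint ((y ^ 3) ^ 3) ((orderOf_pow_dvd 3).trans ((orderOf_pow_dvd 3).trans hy9)) χ hχ)
    rw [← pow_mul, show 3 * 3 = 3 ^ 2 by norm_num, h9', iv_one] at k2
    have := dvd_add k1 k2
    simpa using this
  have hω : ∀ (χ : IrrCharacter G) (A : ℤ), (χ : G → ℂ) y = A →
      ((10200960 / c : ℕ) : ℤ) * A % (deg χ : ℤ) = 0 := fun χ A hA => by
    have h := M12Order.omega_dvd hA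
    rw [index_eq hn, ← hc] at h
    exact Int.emod_eq_zero_of_dvd h
  have ca := h333 T.c22 (by simp); rw [← ha, d1] at ca
  have cs := h333 T.c230 (by simp); rw [← hs, d4] at cs
  have cu := h333 T.c253 (by simp); rw [← hu, d8] at cu
  have cw := h333 T.c1035 (by simp); rw [← hw, d15] at cw
  have cz := h333 T.c2024 (by simp); rw [← hz, d16] at cz
  have cg := h333 T.a770 (by simp); rw [← hg, d9] at cg
  have ce := h333 T.a896 (by simp); rw [← he, d11] at ce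
  have ch := h333 T.a990 (by simp); rw [← hh, d13] at ch
  have oa := hω _ _ va; rw [d1] at oa
  have oe := hω _ _ ve; rw [d11] at oe
  have ow := hω _ _ vw; rw [d15] at ow
  have oz := hω _ _ vz; rw [d16] at oz
  have og := hω _ _ vg; rw [d9] at og
  have oh := hω _ _ vh; rw [d13] at oh
  have os := hω _ _ vs; rw [d4] at os
  have ou := hω _ _ vu; rw [d8] at ou
  have of' := hω _ _ vf; rw [d5] at of'
  obtain ⟨kc, rfl, rfl, rfl, rfl, rfl, rfl, rfl, rfl, rfl, rfl, rfl, rfl⟩ :=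
    col_arith hcm ⟨e1, e2, e3⟩ ⟨hf, hh', hBd, hDd⟩ hR hBD ⟨ca, ce, cw, cz, ch, cs, cg, cu⟩
      ⟨oa, oe, ow, oz, of', oh, os, og, ou⟩
  push_cast at g1 g2 hQ
  obtain ⟨b1, b2, -⟩ := eq_of_normSq hB (by push_cast; linarith)
  obtain ⟨e1', e2', -⟩ := eq_of_normSq hD (by push_cast; linarith)
  refine ⟨hc ▸ kc, by rw [va]; norm_num, by rw [b1]; norm_num, by rw [b2]; norm_num, by rw [vs]; norm_num,
    by rw [vf]; norm_num, by rw [e1']; norm_num, by rw [e2']; norm_num, by rw [vu]; norm_num,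
    by rw [vg]; norm_num, by rw [vgb]; norm_num, by rw [ve]; norm_num, by rw [veb]; norm_num,
    by rw [vh]; norm_num, by rw [vhb]; norm_num, by rw [vw]; norm_num, by rw [vz]; norm_num⟩

include S in
/-- There are no elements of order `9`. -/
theorem Tab.not_order_nine (hn : Nat.card G = 10200960) (y : G) : orderOf y ≠ 9 := fun h => by
  have hc := (T.col_three S hn (Or.inr h)).1
  obtain ⟨x, hx⟩ := exists_prime_orderOf_dvd_card' (G := Subgroup.centralizer ({y} : Set G)) 5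
    (show 5 ∣ cC y by rw [hc]; norm_num)
  have hxo : orderOf (x : G) = 5 := by rw [Subgroup.orderOf_coe]; exact hx
  have h9 : orderOf y ∣ cC (x : G) := Subgroup.orderOf_dvd_natCard _
    (Subgroup.mem_centralizer_singleton_iff.mpr (Subgroup.mem_centralizer_singleton_iff.mp x.2).symm)
  rw [T.cent5 _ hxo, h] at h9
  norm_num at h9

include S in
/-- All elements of order `3` are conjugate. -/
theorem Tab.three_conj (hn : Nat.card G = 10200960) {x y : G} (hx : orderOf x = 3) (hy : orderOf y = 3) :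
    IsConj x y := by
  by_contra hc
  have h := T.orth hc
  obtain ⟨-, p1, p2, p3, p4, p5, p6, p7, p8, p9, p10, p11, p12, p13, p14, p15, p16⟩ := T.col_three S hn (Or.inl hx)
  obtain ⟨-, q1, q2, q3, q4, q5, q6, q7, q8, q9, q10, q11, q12, q13, q14, q15, q16⟩ := T.col_three S hn (Or.inl hy)
  have ht : ∀ g : G, (Blocks.trivIrr G : G → ℂ) g = 1 := fun g => by simp [Blocks.trivIrr]
  rw [T.sum_eq, ht, ht, p1, p2, p3, p4, p5, p6, p7, p8, p9, p10, p11, p12, p13, p14, p15, p16, q1, q2, q3, q4, q5,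
    q6, q7, q8, q9, q10, q11, q12, q13, q14, q15, q16] at h
  simp only [map_one, map_zero, map_neg, map_ofNat] at h
  norm_num at h

end CfsgLib.M23Order
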