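import Cfsg.Agent.Lib.M23Order.CharKeys23

/-!
# Simple groups of order 10200960: the Sylow 23-subgroups are self-centralising
-/

set_option autoImplicit false
set_option linter.unusedSectionVars false
set_option linter.style.haveILetI false
set_option maxHeartbeats 2000000

namespace CfsgLib.M23Order

open Cfsg
open scoped ComplexConjugate CfsgLib.Char
open CfsgLib CfsgLib.BrauerTuan CfsgLib.OrderBlocks
open scoped _root_.Classical

universe u

variable {G : Type u} [Group G] [Fintype G] [IsSimpleGroup G] [Fact (Nat.Prime 23)]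

/-- A character of degree `231` of the principal block is `1` on the sections. -/
theorem section_231 {k : ℕ} (T : Ctx G 23 k) (he : T.D.e = 11 ∨ T.D.e = 22) {χ : IrrCharacter G}
    (hχ : χ ∈ T.D.X ∪ T.D.Y) (hd : deg χ = 231) :
    ∀ v ∈ (T.P : Subgroup G), v ≠ 1 → ∀ y ∈ Subgroup.centralizer ((T.P : Subgroup G) : Set G),
      ¬ 23 ∣ orderOf y → (χ : G → ℂ) (v * y) = ((1 : ℤ) : ℂ) := by
  intro v hv hv1 y hy hyr
  rcases Finset.mem_union.mp hχ with h | h
  · have h1 := T.D.degX χ h
    rw [show charDegree (χ : G → ℂ) = 231 from hd] at h1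
    rw [T.D.valX χ h v hv hv1 y hy hyr]
    rcases T.D.hδ χ h with e | e <;> rw [e] at h1 ⊢
    exact absurd h1 (by decide)
  · have h1 := T.D.degY χ h
    rw [show charDegree (χ : G → ℂ) = 231 from hd] at h1
    rcases he with he | he
    · rw [he] at h1
      rcases T.D.hε with e | e <;> rw [e] at h1 <;> exact absurd h1 (by decide)
    · have ht : T.D.t = 1 := by
        have := T.D.het
        rw [he] at this
        omega
      obtain ⟨ψ, hψ⟩ := Finset.card_eq_one.mp (T.D.card_Y.trans ht)
      have hs := T.D.sumY v hv hv1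
      rw [hψ, Finset.mem_singleton] at h
      rw [hψ, Finset.sum_singleton, ← h] at hs
      rw [T.D.valY χ (hψ ▸ h ▸ Finset.mem_singleton_self ψ) v hv hv1 y hy hyr, hs]
      rw [he] at h1
      rcases T.D.hε with e | e <;> rw [e] at h1 ⊢
      · exact absurd h1 (by decide)
      · norm_num

theorem false_of_231 {k : ℕ} (T : Ctx G 23 k) (he : T.D.e = 11 ∨ T.D.e = 22) (hk : k = 24 ∨ k = 12)
    {χ : IrrCharacter G} (hne : χ ≠ Blocks.trivIrr G) (hχ : χ ∈ T.D.X ∪ T.D.Y) (hd : deg χ = 231) : False := by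
  haveI : Fact (Nat.Prime 11) := ⟨by norm_num⟩
  obtain ⟨z, hz, hzC, h11, h23⟩ := exists_fixed_involution T (r := 11)
    (by rcases he with e | e <;> rw [e] <;> norm_num) (by rcases hk with rfl | rfl <;> norm_num) (by norm_num)
    fun a ha => by
      have h16 : ¬ 4 ≤ a := fun h => by
        have := (Nat.pow_dvd_pow 2 h).trans ha
        rcases hk with rfl | rfl <;> norm_num at this
      interval_cases a <;> norm_num
  obtain ⟨-, h4, hdvd, hlt⟩ := iv_facts T.card_eq T.noncomm hne hz
  have hcong := dvd_sub_of_section T (by norm_num) hz hzC (section_231 T he hχ hd)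
  rw [hd] at h4 hdvd hlt
  have h253 : 253 ∣ cC z := Nat.Coprime.mul_dvd_of_dvd_of_dvd (by norm_num : Nat.Coprime 11 23) h11 h23
  obtain ⟨m, hm⟩ : ∃ m, m = 10200960 / cC z := ⟨_, rfl⟩
  rw [← hm] at hdvd
  have hm' : m ∣ 40320 := by
    obtain ⟨j, hj⟩ := cC_dvd T.card_eq z
    obtain ⟨i, hi⟩ := h253
    have hmj : m = j := by rw [hm, hj, Nat.mul_div_cancel_left _ (cC_pos z)]
    refine ⟨i, ?_⟩
    rw [hi, mul_assoc] at hj
    rw [hmj, mul_comm j i]
    omega
  have h11A : (11 : ℤ) ∣ iv χ z := by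
    have h : (11 : ℤ) ∣ (m : ℤ) * iv χ z := (show (11 : ℤ) ∣ 231 by norm_num).trans (Int.dvd_of_emod_eq_zero hdvd)
    refine ((show Prime (11 : ℤ) by norm_num).dvd_or_dvd h).resolve_left fun h' => ?_
    have := (Int.natCast_dvd_natCast.mp (show ((11 : ℕ) : ℤ) ∣ (m : ℤ) from h')).trans hm'
    norm_num at this
  have h23A : (23 : ℤ) ∣ iv χ z - 1 := hcong
  omega

/-- **The Sylow `23`-subgroup is self-centralising, with normaliser of order `253`.** -/
theorem exists_twentythree (hn : Nat.card G = 10200960) : ∃ T : Ctx G 23 1, T.D.e = 11 := by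
  obtain ⟨k, T, h⟩ := exists_ctx_of_orderBad hn 23 [5, 7, 11, 23] 3193
    [(1680, 11, 24), (1680, 22, 12), (40320, 11, 1)]
    (by norm_num) (by norm_num) (by norm_num) (by norm_num) (by norm_num) (by simp <;> norm_num) key_order23
  simp only [List.mem_cons, List.not_mem_nil, or_false, Prod.mk.injEq] at h
  have hkp : ∀ (he : T.D.e = 11 ∨ T.D.e = 22) (hk : k = 24 ∨ k = 12),
      ∀ χ ∈ T.D.X ∪ T.D.Y, χ ≠ Blocks.trivIrr G → ∀ s : ℤ, (s = 1 ∨ s = -1) →
        not231 (s * (deg χ : ℤ)) = true := fun he hk χ hχ hne s hs => decide_eq_true fun e => by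
    refine false_of_231 T he hk hne hχ ?_
    rcases hs with rfl | rfl <;> simpa using e
  rcases h with ⟨hc, he, rfl⟩ | ⟨hc, he, rfl⟩ | ⟨hc, he, rfl⟩
  · obtain ⟨xs, y, hmem, -⟩ := exists_pblk T he not231 (hkp (Or.inl he) (Or.inl rfl))
      (X := [70, -528, -1540, 1680]) (Y := [-35, 80, 264, 770, -840])
      (by rw [hc]; exact key_x24.1) (fun _ => by rw [hc]; exact key_x24.2)
    rw [key_opts24] at hmem
    exact absurd hmem List.not_mem_nil
  · obtain ⟨xs, y, hmem, -⟩ := exists_pblk T he not231 (hkp (Or.inr he) (Or.inr rfl))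
      (X := [70, -160, -528, -1540, 1680]) (Y := [])
      (by rw [hc]; exact key_x12) (fun h => absurd rfl h)
    rw [key_opts12] at hmem
    exact absurd hmem List.not_mem_nil
  · exact ⟨T, he⟩

/-- The residues of the degrees modulo `23`. -/
theorem g23_deg (T : Ctx G 23 1) (he : T.D.e = 11) (χ : IrrCharacter G) : g23 (deg χ) = true := by
  simp only [g23, List.contains_iff_mem, List.mem_cons, List.not_mem_nil, or_false]
  rcases degree_residue T χ with h | ⟨s, hs, h⟩
  · exact Or.inl (Nat.mod_eq_zero_of_dvd h)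
  · rw [he] at h
    simp only [Int.ModEq] at h
    rcases hs with rfl | rfl <;> rcases h with h | h <;> push_cast at h <;> omega

end CfsgLib.M23Order
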