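import Cfsg.Agent.Lib.M23Order.Basic
import Cfsg.Agent.Lib.BrauerTuan.Orders
import Cfsg.Agent.S0496

/-!
# Simple groups of order 10200960: the centraliser of an involution
-/

set_option autoImplicit false
set_option linter.unusedSectionVars false
set_option linter.style.haveILetI false

namespace CfsgLib.M23Order

open Cfsg CfsgLib

universe u

theorem orderBad_1344 :
    BrauerTuan.orderBad 1344 7 [7] 36 [(8, 2, 12), (8, 3, 8), (8, 6, 4)] = true := by decide +kernel

/-- A simple group of order 1344 would have eight Sylow subgroups for seven. -/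
theorem card_sylow_1344 {K : Type u} [Group K] [Finite K] [IsSimpleGroup K] (h : Nat.card K = 1344) :
    Nat.card (Sylow 7 K) = 8 := by
  haveI : Fact (Nat.Prime 7) := ⟨by norm_num⟩
  haveI := Fintype.ofFinite K
  obtain ⟨k, T, hm⟩ := BrauerTuan.exists_ctx_of_orderBad h 7 [7] 36 _ (by norm_num) (by norm_num)
    (by norm_num) (by norm_num) (by norm_num) (by simp; norm_num) orderBad_1344
  rw [T.D.card_sylow]
  simp only [List.mem_cons, List.not_mem_nil, or_false, Prod.mk.injEq] at hm
  rcases hm with ⟨h1, _⟩ | ⟨h1, _⟩ | ⟨h1, _⟩ <;> exact h1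

variable {G : Type u} [Group G] [Finite G]

/-- The centraliser of an element. -/
abbrev cen (t : G) : Subgroup G := Subgroup.centralizer ({t} : Set G)

/-- The 2-core of the centraliser of an involution, as a subgroup of the group. -/
def core (t : G) : Subgroup G := (Cfsg.pCore 2 (cen t)).map (cen t).subtype

theorem core_le (t : G) : core t ≤ cen t := Subgroup.map_subtype_le _

variable (F : Facts G)
include F

theorem exists_seven {t : G} (ht : orderOf t = 2) : ∃ s, orderOf s = 7 ∧ s * t = t * s := by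
  obtain ⟨s, hs, hso⟩ := exists_order F (by norm_num : Nat.Prime 7)
    (show 7 ∣ Nat.card (cen t) by rw [F.card_invol t ht]; norm_num)
  exact ⟨s, hso, mem_cen.mp hs⟩

theorem cen_seven_eq {t s : G} (ht : orderOf t = 2) (hs : orderOf s = 7) (hst : s * t = t * s) :
    cen s = Subgroup.zpowers (t * s) := by
  refine (Subgroup.eq_of_le_of_card_ge (Subgroup.zpowers_le.mpr (mem_cen.mpr ?_)) ?_).symm
  · rw [← mul_assoc s, hst, mul_assoc]
  · rw [F.card_seven s hs, Nat.card_zpowers, (show Commute t s from hst.symm).orderOf_mul_eq_mul_orderOf_of_coprime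
      (by rw [ht, hs]; norm_num), ht, hs]

/-- The centraliser of an element of order seven centralises its involution. -/
theorem cen_seven_le {t s u : G} (ht : orderOf t = 2) (hs : orderOf s = 7) (hst : s * t = t * s)
    (hu : u * s = s * u) : u * t = t * u := by
  have h : u ∈ Subgroup.zpowers (t * s) := cen_seven_eq F ht hs hst ▸ mem_cen.mpr hu
  obtain ⟨i, rfl⟩ := Subgroup.mem_zpowers_iff.mp h
  exact ((Commute.refl t).mul_left (show Commute s t from hst)).zpow_left i

/-- The centraliser in `C(t)` of an element of order seven. -/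
theorem card_cen_seven {t : G} (ht : orderOf t = 2) {s : cen t} (hs : orderOf s = 7) :
    Nat.card (Subgroup.centralizer ({s} : Set (cen t))) = 14 := by
  have hso : orderOf (s : G) = 7 := by rw [Subgroup.orderOf_coe]; exact hs
  rw [← F.card_seven (s : G) hso]
  exact Nat.card_congr
    { toFun := fun u => ⟨(u.1 : G), mem_cen.mpr (congrArg Subtype.val (mem_cen.mp u.2))⟩
      invFun := fun u => ⟨⟨u.1, mem_cen.mpr (cen_seven_le F ht hso (mem_cen.mp s.2) (mem_cen.mp u.2))⟩,
        mem_cen.mpr (Subtype.ext (mem_cen.mp u.2))⟩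
      left_inv := fun _ => rfl
      right_inv := fun _ => rfl }

theorem card_cen_card_seven {t : G} (ht : orderOf t = 2) (S : Subgroup (cen t)) (hS : Nat.card S = 7) :
    Nat.card (Subgroup.centralizer (S : Set (cen t))) = 14 := by
  haveI : Fact (Nat.Prime 7) := ⟨by norm_num⟩
  obtain ⟨s, hs⟩ := exists_prime_orderOf_dvd_card' (G := S) 7 (by rw [hS])
  have hso : orderOf (s : cen t) = 7 := by rw [Subgroup.orderOf_coe]; exact hs
  have hz : Subgroup.zpowers (s : cen t) = S := Subgroup.eq_of_le_of_card_ge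
    (Subgroup.zpowers_le.mpr s.2) (by rw [hS, Nat.card_zpowers, hso])
  rw [← card_cen_seven F ht hso]
  congr 2
  refine le_antisymm (fun u hu => mem_cen.mpr (Subgroup.mem_centralizer_iff.mp hu _ s.2).symm) fun u hu => ?_
  refine Subgroup.mem_centralizer_iff.mpr fun w hw => ?_
  obtain ⟨i, rfl⟩ := Subgroup.mem_zpowers_iff.mp (show w ∈ Subgroup.zpowers (s : cen t) by rw [hz]; exact hw)
  exact ((show Commute u (s : cen t) from mem_cen.mp hu).zpow_right i).symm

/-- The normaliser in `C(t)` of a subgroup of order seven. -/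
theorem card_norm_seven {t : G} (ht : orderOf t = 2) (S : Subgroup (cen t)) (hS : Nat.card S = 7) :
    Nat.card (Subgroup.normalizer (S : Set (cen t))) = 42 := by
  haveI : Fact (Nat.Prime 7) := ⟨by norm_num⟩
  haveI : IsCyclic S := isCyclic_of_prime_card hS
  set N := Subgroup.normalizer (S : Set (cen t)) with hN
  set φ := S.normalizerMonoidHom with hφ
  have hk : Nat.card φ.ker = 14 := by
    rw [hφ, Subgroup.normalizerMonoidHom_ker,
      Nat.card_congr (Subgroup.subgroupOfEquivOfLe (Subgroup.centralizer_le_normalizer _)).toEquiv,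
      card_cen_card_seven F ht S hS]
  have hr : φ.ker.index ∣ 6 := by
    rw [Subgroup.index_ker]
    have h := Subgroup.card_subgroup_dvd_card φ.range
    rwa [IsCyclic.card_mulAut, hS, Nat.totient_prime (by norm_num)] at h
  have hmul := φ.ker.index_mul_card
  rw [hk] at hmul
  -- the number of Sylow subgroups
  have hS' : Nat.card S = 7 ^ (Nat.card (cen t)).factorization 7 := by
    rw [hS, F.card_invol t ht, show (2688 : ℕ) = 7 ^ 1 * 384 by norm_num,
      Nat.factorization_mul (by norm_num) (by norm_num), Finsupp.add_apply, Nat.factorization_pow,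
      Finsupp.smul_apply, Nat.Prime.factorization_self (by norm_num),
      Nat.factorization_eq_zero_of_not_dvd (show ¬ 7 ∣ 384 by norm_num)]
    rfl
  have hmod := card_sylow_modEq_one 7 (cen t)
  rw [(Sylow.ofCard S hS').card_eq_index_normalizer] at hmod
  have hidx : N.index * Nat.card N = 2688 := by rw [N.index_mul_card, F.card_invol t ht]
  have hcases : φ.ker.index = 1 ∨ φ.ker.index = 2 ∨ φ.ker.index = 3 ∨ φ.ker.index = 6 := by
    have := Nat.le_of_dvd (by norm_num) hr
    interval_cases h : φ.ker.index <;> omega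
  have hmod' : N.index % 7 = 1 := hmod
  rcases hcases with h | h | h | h <;> rw [h] at hmul <;> rw [← hmul] at hidx ⊢ <;> omega

/-- The 2-core of the centraliser of an involution does not have order 128. -/
theorem card_pCore_ne {t : G} (ht : orderOf t = 2) : Nat.card (Cfsg.pCore 2 (cen t)) ≠ 128 := by
  classical
  intro hQ
  haveI : Fact (Nat.Prime 2) := ⟨Nat.prime_two⟩
  haveI : Fact (Nat.Prime 3) := ⟨Nat.prime_three⟩
  haveI : Fact (Nat.Prime 7) := ⟨by norm_num⟩
  set C := cen t with hC
  set Q := Cfsg.pCore 2 C with hQd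
  haveI hQn : Q.Normal := Fitting.pCore_normal 2
  -- the Frobenius group of order 21
  obtain ⟨s₀, hs₀, hs₀t⟩ := exists_seven F ht
  set s : C := ⟨s₀, mem_cen.mpr hs₀t⟩ with hsd
  have hs : orderOf s = 7 := by rw [hsd, Subgroup.orderOf_mk]; exact hs₀
  obtain ⟨x₀, hx₀⟩ := exists_prime_orderOf_dvd_card'
    (G := Subgroup.normalizer (Subgroup.zpowers s : Set C)) 3
    (by rw [card_norm_seven F ht _ (by rw [Nat.card_zpowers, hs])]; norm_num)
  obtain ⟨x, hxd, hxs⟩ : ∃ x : C, orderOf x = 3 ∧ x * s * x⁻¹ = s ^ 2 := by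
    set x : C := (x₀ : C) with hx
    have hxo : orderOf x = 3 := by rw [hx, Subgroup.orderOf_coe]; exact hx₀
    have hmem : x * s * x⁻¹ ∈ Subgroup.zpowers s := norm_conj x₀.2 (Subgroup.mem_zpowers s)
    obtain ⟨a, ha, hae⟩ := Subgroup.mem_zpowers_iff.mp hmem |> fun ⟨k, hk⟩ =>
      (⟨(k % 7).toNat, by omega, by
        rw [← zpow_natCast, Int.toNat_of_nonneg (Int.emod_nonneg _ (by norm_num)), show (7 : ℤ) = (orderOf s : ℤ) by
          rw [hs]; rfl, zpow_mod_orderOf]; exact hk⟩ : ∃ a : ℕ, a < 7 ∧ s ^ a = x * s * x⁻¹)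
    have hx3 : x * x * x = 1 := by rw [← pow_three', ← hxo, pow_orderOf_eq_one]
    have hpow : ∀ (g : C) (n : ℕ), x * g ^ n * x⁻¹ = (x * g * x⁻¹) ^ n := fun g n => conj_pow.symm
    have h3 : s ^ (a * a * a) = s := by
      calc s ^ (a * a * a) = x * (x * (x * s * x⁻¹) * x⁻¹) * x⁻¹ := by
            rw [← hae, hpow, ← hae, ← pow_mul, hpow, ← hae, ← pow_mul, mul_assoc]
        _ = x * x * x * s * (x * x * x)⁻¹ := by group
        _ = s := by rw [hx3, one_mul, inv_one, mul_one]
    have h3' : a * a * a % 7 = 1 := by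
      have h := (pow_eq_pow_iff_modEq (x := s)).mp (h3.trans (pow_one s).symm)
      rwa [hs] at h
    have ha1 : a ≠ 1 := by
      rintro rfl
      rw [pow_one] at hae
      refine not_comm_seven F hs₀ (x := (x : G)) (by rw [Subgroup.orderOf_coe]; exact hxo) ?_
      exact congrArg Subtype.val (mul_inv_eq_iff_eq_mul.mp hae.symm : x * s = s * x)
    interval_cases a
    · omega
    · omega
    · exact ⟨x, hxo, hae.symm⟩
    · omega
    · refine ⟨x⁻¹, by rw [orderOf_inv, hxo], ?_⟩
      have e : s = x⁻¹ * s ^ 4 * x := by rw [hae]; group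
      have e2 : s ^ 2 = x⁻¹ * (s ^ 4) ^ 2 * x :=
        calc s ^ 2 = (x⁻¹ * s ^ 4 * x) ^ 2 := by rw [← e]
          _ = _ := by rw [pow_two, pow_two]; group
      rw [e2, inv_inv, ← pow_mul, show 4 * 2 = 7 + 1 from rfl, pow_succ, ← hs, pow_orderOf_eq_one, one_mul]
    · omega
    · omega
  -- fixed points in the core
  set t' : C := ⟨t, mem_cen.mpr rfl⟩ with ht'
  have ht'o : orderOf t' = 2 := by rw [ht', Subgroup.orderOf_mk]; exact ht
  have htc : ∀ g : C, g * t' = t' * g := fun g => Subtype.ext (mem_cen.mp g.2)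
  set T := Subgroup.zpowers t' with hT
  have hT2 : Nat.card T = 2 := by rw [hT, Nat.card_zpowers, ht'o]
  haveI hTn : T.Normal := ⟨fun a ha g => by
    obtain ⟨i, rfl⟩ := Subgroup.mem_zpowers_iff.mp ha
    rw [((show Commute g t' from htc g).zpow_right i).eq, mul_inv_cancel_right]
    exact ha⟩
  have hTQ : T ≤ Q := Fitting.le_pCore hTn (IsPGroup.of_card (n := 1) hT2)
  have hcent : ∀ y : C, orderOf y = 7 ∨ orderOf y = 3 →
      Q ⊓ Subgroup.centralizer ({y} : Set C) = T := by
    intro y hy
    have hTle : T ≤ Q ⊓ Subgroup.centralizer ({y} : Set C) :=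
      le_inf hTQ (Subgroup.zpowers_le.mpr (mem_cen.mpr (htc y).symm))
    refine (Subgroup.eq_of_le_of_card_ge hTle ?_).symm
    rw [hT2]
    have hd1 := Subgroup.card_dvd_of_le (inf_le_left : Q ⊓ Subgroup.centralizer ({y} : Set C) ≤ Q)
    rw [hQ] at hd1
    have hd2 := Subgroup.card_dvd_of_le (inf_le_right : Q ⊓ Subgroup.centralizer ({y} : Set C) ≤ _)
    rcases hy with hy | hy
    · rw [card_cen_seven F ht hy] at hd2
      exact Nat.le_of_dvd (by norm_num) (Nat.dvd_gcd hd1 hd2)
    · have hmod := card_mod_fixed Nat.prime_three (pow_self_of_order hy) Q fun k hk => hQn.conj_mem k hk y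
      rw [hQ] at hmod
      have hy' : orderOf (y : G) = 3 := by rw [Subgroup.orderOf_coe]; exact hy
      have hd3 : Nat.card (Subgroup.centralizer ({y} : Set C)) ∣ 180 := by
        rw [← F.card_three (y : G) hy', ← Subgroup.card_map_of_injective C.subtype_injective]
        refine Subgroup.card_dvd_of_le ?_
        rintro _ ⟨u, hu, rfl⟩
        exact mem_cen.mpr (congrArg Subtype.val (mem_cen.mp hu))
      have h4 : Nat.card ↥(Q ⊓ Subgroup.centralizer ({y} : Set C)) ∣ 4 :=
        (Nat.dvd_gcd hd1 (hd2.trans hd3) : _ ∣ Nat.gcd 128 180)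
      have := Nat.le_of_dvd (by norm_num) h4
      interval_cases h : Nat.card ↥(Q ⊓ Subgroup.centralizer ({y} : Set C)) <;>
        simp_all [Nat.ModEq]
  -- the module
  set π := QuotientGroup.mk' T with hπ
  set W := Q.map π with hW
  haveI : W.Normal := hQn.map π (QuotientGroup.mk'_surjective T)
  have hW64 : Nat.card W = 64 := by
    have hker : (π.subgroupMap Q).ker = T.subgroupOf Q := by
      ext a
      rw [MonoidHom.mem_ker, Subgroup.mem_subgroupOf, ← QuotientGroup.eq_one_iff (a : C), ← Subtype.coe_inj]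
      rfl
    have hm := (π.subgroupMap Q).ker.index_mul_card
    rw [Subgroup.index_ker, MonoidHom.range_eq_top.mpr (π.subgroupMap_surjective Q), Subgroup.card_top, hker,
      Nat.card_congr (Subgroup.subgroupOfEquivOfLe hTQ).toEquiv, hT2, hQ] at hm
    rw [hW]
    omega
  haveI : Nontrivial W := Finite.one_lt_card_iff_nontrivial.mp (by rw [hW64]; norm_num)
  have hWp : IsPGroup 2 W := IsPGroup.of_card (n := 6) hW64
  set V := (Subgroup.center W).map W.subtype with hV
  haveI : V.Normal := ConjAct.normal_of_characteristic_of_normal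
  obtain ⟨v₀, hv₀⟩ : ∃ v : V, v ≠ 1 := by
    haveI := hWp.center_nontrivial
    obtain ⟨z, hz⟩ := exists_ne (1 : Subgroup.center W)
    exact ⟨⟨((z : W) : _), ⟨z, z.2, rfl⟩⟩, fun e => hz (Subtype.ext (Subtype.ext (by simpa using congrArg Subtype.val e)))⟩
  haveI hVc : IsMulCommutative V := ⟨⟨fun a b => Subtype.ext (by
    obtain ⟨a', ha', ea⟩ := a.2
    obtain ⟨b', hb', eb⟩ := b.2
    show (a : C ⧸ T) * b = b * a
    rw [← ea, ← eb, ← map_mul, ← map_mul, Subgroup.mem_center_iff.mp hb' a'])⟩⟩
  letI : CommGroup V := { (inferInstance : Group V) with mul_comm := hVc.is_comm.comm }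
  set ψ : C →* MulAut V := (MulAut.conjNormal (H := V)).comp π with hψ
  have hfix : ∀ y : C, orderOf y = 7 ∨ orderOf y = 3 → ∀ v : V, ψ y v = v → v = 1 := by
    intro y hy v hv
    obtain ⟨⟨w, hw⟩, -, hwv⟩ := v.2
    obtain ⟨q, hq, hqw⟩ := hw
    have hv' : π y * π q * (π y)⁻¹ = π q := by
      have h := congrArg Subtype.val hv
      rw [hψ, MonoidHom.comp_apply, MulAut.conjNormal_apply] at h
      have hvq : (v : C ⧸ T) = π q := hwv.symm.trans hqw.symm
      rwa [hvq] at h
    have hmem : q⁻¹ * (y * q * y⁻¹) ∈ T := QuotientGroup.eq.mp (show ((q : C) : C ⧸ T) = ((y * q * y⁻¹ : C) : C ⧸ T) by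
      rw [← QuotientGroup.mk'_apply, ← QuotientGroup.mk'_apply, ← hπ, map_mul, map_mul, map_inv, hv'])
    set m := q⁻¹ * (y * q * y⁻¹) with hm
    have hm2 : m * m = 1 := by
      have : (⟨m, hmem⟩ : T) ^ 2 = 1 := hT2 ▸ pow_card_eq_one'
      have h := congrArg Subtype.val this
      rwa [Subgroup.coe_pow, pow_two] at h
    have hmy : y * m = m * y := by
      obtain ⟨i, hi⟩ := Subgroup.mem_zpowers_iff.mp hmem
      rw [← hi]; exact ((show Commute y t' from htc y).zpow_right i).eq
    have hit : ∀ n : ℕ, y ^ n * q * (y ^ n)⁻¹ = q * m ^ n := by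
      intro n
      induction n with
      | zero => simp
      | succ n ih =>
        calc y ^ (n + 1) * q * (y ^ (n + 1))⁻¹ = y * (y ^ n * q * (y ^ n)⁻¹) * y⁻¹ := by rw [pow_succ']; group
          _ = (y * q * y⁻¹) * (y * m ^ n * y⁻¹) := by rw [ih]; group
          _ = q * m * m ^ n := by
            rw [((show Commute y m from hmy).pow_right n).eq, mul_inv_cancel_right,
              show y * q * y⁻¹ = q * m by rw [hm]; group]
          _ = q * m ^ (n + 1) := by rw [mul_assoc, pow_succ']
    have hm1 : m = 1 := by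
      obtain ⟨j, hj⟩ : ∃ j, orderOf y = 2 * j + 1 := by rcases hy with h | h <;> rw [h]; exacts [⟨3, rfl⟩, ⟨1, rfl⟩]
      have h := hit (orderOf y)
      rw [pow_orderOf_eq_one, one_mul, inv_one, mul_one, hj, pow_succ, pow_mul, pow_two, hm2, one_pow, one_mul] at h
      exact mul_left_cancel (a := q) (by rw [mul_one]; exact h.symm)
    have hqT : q ∈ T := by
      rw [← hcent y hy]
      refine ⟨hq, mem_cen.mpr ?_⟩
      have : y * q * y⁻¹ = q := by
        have h : q * m = y * q * y⁻¹ := by rw [hm]; group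
        rw [hm1, mul_one] at h; exact h.symm
      exact (mul_inv_eq_iff_eq_mul.mp this).symm
    refine Subtype.ext ?_
    rw [hwv.symm.trans hqw.symm]
    exact (QuotientGroup.eq_one_iff q).mpr hqT
  have hψn : ∀ (a b : C) (v : V), ψ (a * b) v = ψ a (ψ b v) := fun a b v => by rw [map_mul]; rfl
  -- the product over the fixed-point-free elements
  have hP : ∀ v : V, ∏ i ∈ Finset.range 7, ψ (s ^ i) v = 1 := by
    intro v
    refine hfix s (Or.inl hs) _ ?_
    rw [map_prod]
    simp only [← hψn, ← pow_succ']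
    have h1 := Finset.prod_range_succ' (fun i => ψ (s ^ i) v) 7
    have h2 := Finset.prod_range_succ (fun i => ψ (s ^ i) v) 7
    rw [show s ^ 7 = 1 from hs ▸ pow_orderOf_eq_one s] at h2
    rw [h2, pow_zero] at h1
    exact (mul_right_cancel h1).symm
  have hxs' : ∀ k : ℕ, x * s ^ k = s ^ (2 * k) * x := fun k => by
    rw [pow_mul, ← hxs, conj_pow]; group
  have hs7 : ∀ a b : ℕ, a % 7 = b % 7 → s ^ a = s ^ b := fun a b h => by
    rw [← pow_mod_orderOf, hs, h, ← hs, pow_mod_orderOf]
  have hsq : ∀ i : ℕ, x * s ^ i * (x * s ^ i) = x * x * s ^ (5 * i % 7) := fun i => by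
    have e1 : s ^ i * x = x * s ^ (4 * i) := by
      rw [hxs']; congr 1; exact hs7 _ _ (by omega)
    rw [show x * s ^ i * (x * s ^ i) = x * (s ^ i * x) * s ^ i by group, e1, mul_assoc, mul_assoc, ← pow_add,
      ← mul_assoc, hs7 (4 * i + i) (5 * i % 7) (by omega)]
  have hyo : ∀ i : ℕ, orderOf (x * s ^ i) = 3 := by
    intro i
    have h1 : (x * s ^ i) ^ 3 = 1 := by
      have e2 : s ^ (5 * i % 7) * x = x * s ^ (6 * i) := by
        rw [hxs']; congr 1; exact hs7 _ _ (by omega)
      calc (x * s ^ i) ^ 3 = x * s ^ i * (x * s ^ i) * x * s ^ i := by rw [pow_three']; group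
        _ = x * x * (s ^ (5 * i % 7) * x) * s ^ i := by rw [hsq]; group
        _ = x * x * x * (s ^ (6 * i) * s ^ i) := by rw [e2]; group
        _ = 1 := by
          rw [← pow_three', ← hxd, pow_orderOf_eq_one, one_mul, ← pow_add, hs7 _ 0 (by omega), pow_zero]
    refine orderOf_eq_prime h1 fun e => ?_
    have hx7 : x ^ 7 = 1 := by
      rw [show x = (s ^ i)⁻¹ from eq_inv_of_mul_eq_one_left e, inv_pow, ← pow_mul, hs7 _ 0 (by omega), pow_zero,
        inv_one]
    have := orderOf_dvd_of_pow_eq_one hx7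
    rw [hxd] at this
    norm_num at this
  have hT3 : ∀ (i : ℕ) (v : V), v * ψ (x * s ^ i) v * ψ (x * s ^ i) (ψ (x * s ^ i) v) = 1 := by
    intro i v
    refine hfix _ (Or.inr (hyo i)) _ ?_
    rw [map_mul, map_mul]
    have h3 : ψ (x * s ^ i) (ψ (x * s ^ i) (ψ (x * s ^ i) v)) = v := by
      rw [← hψn, ← hψn, ← pow_three', show (x * s ^ i) ^ 3 = 1 from hyo i ▸ pow_orderOf_eq_one _,
        map_one, MulAut.one_apply]
    rw [h3, mul_comm, ← mul_assoc]
  refine hv₀ ?_
  have h := Finset.prod_congr (s₁ := Finset.range 7) rfl fun i _ => hT3 i v₀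
  rw [Finset.prod_const_one, Finset.prod_mul_distrib, Finset.prod_mul_distrib, Finset.prod_const,
    Finset.card_range] at h
  have hA : ∏ i ∈ Finset.range 7, ψ (x * s ^ i) v₀ = 1 := by
    simp only [hψn]
    rw [← map_prod, hP, map_one]
  have hB : ∏ i ∈ Finset.range 7, ψ (x * s ^ i) (ψ (x * s ^ i) v₀) = 1 := by
    simp only [← hψn, hsq]
    simp only [hψn]
    rw [← map_prod, ← map_prod]
    have hperm : ∏ i ∈ Finset.range 7, ψ (s ^ (5 * i % 7)) v₀ = ∏ i ∈ Finset.range 7, ψ (s ^ i) v₀ := by
      conv_rhs => rw [show Finset.range 7 = (Finset.range 7).image (fun i => 5 * i % 7) by decide]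
      rw [Finset.prod_image (by decide)]
    rw [hperm, hP, map_one, map_one]
  rw [hA, hB, mul_one, mul_one] at h
  have h64 : orderOf v₀ ∣ 64 := by
    refine hW64 ▸ (Subgroup.orderOf_coe v₀ ▸ Subgroup.orderOf_dvd_natCard _ ?_)
    exact Subgroup.map_subtype_le _ v₀.2
  exact orderOf_eq_one_iff.mp (Nat.dvd_one.mp ((Nat.dvd_gcd h64 (orderOf_dvd_of_pow_eq_one h) : _ ∣ Nat.gcd 64 7)))

/-- The 2-core of the centraliser of an involution has order 16 and the quotient is simple of order 168. -/
theorem core_structure {t : G} (ht : orderOf t = 2) :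
    Nat.card (Cfsg.pCore 2 (cen t)) = 16 ∧
      (haveI := Fitting.pCore_normal (G := cen t) 2; IsSimpleGroup (cen t ⧸ Cfsg.pCore 2 (cen t))) := by
  classical
  haveI : Fact (Nat.Prime 2) := ⟨Nat.prime_two⟩
  haveI : Fact (Nat.Prime 7) := ⟨by norm_num⟩
  set C := cen t with hC
  set Q := Cfsg.pCore 2 C with hQd
  haveI hQn : Q.Normal := Fitting.pCore_normal 2
  obtain ⟨j, hj⟩ := IsPGroup.iff_card.mp (Fitting.pCore_isPGroup (G := C) 2)
  set t' : C := ⟨t, mem_cen.mpr rfl⟩ with ht'
  have ht'o : orderOf t' = 2 := by rw [ht', Subgroup.orderOf_mk]; exact ht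
  have htQ : t' ∈ Q := by
    refine Fitting.le_pCore (N := Subgroup.zpowers t') ⟨fun a ha g => ?_⟩
      (IsPGroup.of_card (n := 1) (by rw [Nat.card_zpowers, ht'o, pow_one])) (Subgroup.mem_zpowers t')
    obtain ⟨i, rfl⟩ := Subgroup.mem_zpowers_iff.mp ha
    rw [((show Commute g t' from Subtype.ext (mem_cen.mp g.2)).zpow_right i).eq, mul_inv_cancel_right]
    exact ha
  have hjd : 2 ^ j ∣ 2 ^ 7 * 21 := by
    have := Subgroup.card_subgroup_dvd_card Q
    rwa [F.card_invol t ht, hj] at this
  have hj7 : j ≤ 7 :=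
    (Nat.pow_dvd_pow_iff_le_right (by norm_num)).mp ((Nat.Coprime.pow_left j (by norm_num)).dvd_of_dvd_mul_right hjd)
  have hj1 : 1 ≤ j := by
    by_contra h
    have := Subgroup.orderOf_dvd_natCard _ htQ
    rw [ht'o, hj, show j = 0 by omega] at this
    norm_num at this
  have hjne : j ≠ 7 := fun h => card_pCore_ne F ht (by rw [← hQd, hj, h]; norm_num)
  have hQbar : Nat.card (C ⧸ Q) = 21 * 2 ^ (7 - j) := by
    have h := Q.index_mul_card
    rw [F.card_invol t ht, hj] at h
    refine Nat.eq_of_mul_eq_mul_right (pow_pos two_pos j) ?_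
    rw [show Nat.card (C ⧸ Q) = Q.index from rfl, h, mul_assoc, ← pow_add, show 7 - j + j = 7 by omega]
    norm_num
  -- no proper normal subgroup above the core
  have key : ∀ L : Subgroup C, L.Normal → Q ≤ L → L = Q ∨ L = ⊤ := by
    intro L hL hQL
    by_cases h7 : 7 ∣ Nat.card L
    · right
      haveI := hL
      obtain ⟨P⟩ := (inferInstance : Nonempty (Sylow 7 L))
      have hP7 : Nat.card (P : Subgroup L) = 7 := by
        rw [P.card_eq_multiplicity]
        have hd := Subgroup.card_subgroup_dvd_card L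
        rw [F.card_invol t ht] at hd
        have h1 : (Nat.card L).factorization 7 ≤ 1 := by
          by_contra h
          have := (((show Nat.Prime 7 by norm_num).pow_dvd_iff_le_factorization Nat.card_pos.ne').mpr
            (show 2 ≤ _ by omega)).trans hd
          norm_num at this
        have h2 : 1 ≤ (Nat.card L).factorization 7 :=
          ((show Nat.Prime 7 by norm_num).dvd_iff_one_le_factorization Nat.card_pos.ne').mp h7
        rw [show (Nat.card L).factorization 7 = 1 by omega, pow_one]
      set S := (P : Subgroup L).map L.subtype with hS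
      have hS7 : Nat.card S = 7 := by rw [hS, Subgroup.card_map_of_injective L.subtype_injective, hP7]
      set N := Subgroup.normalizer (S : Set C) with hN
      have htop : N ⊔ L = ⊤ := Sylow.normalizer_sup_eq_top P
      have hidx : L.index = L.relIndex N := by
        rw [← Subgroup.relIndex_top_right, ← htop]
        exact Subgroup.relIndex_sup_right N L
      have hN42 : Nat.card N = 42 := card_norm_seven F ht S hS7
      have hcenL : Subgroup.centralizer (S : Set C) ≤ L := by
        obtain ⟨s, hs, hso⟩ : ∃ s ∈ S, orderOf s = 7 := by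
          obtain ⟨s, hs⟩ := exists_prime_orderOf_dvd_card' (G := S) 7 (by rw [hS7])
          exact ⟨s, s.2, by rw [Subgroup.orderOf_coe]; exact hs⟩
        have hsL : s ∈ L := Subgroup.map_subtype_le _ hs
        refine le_of_eq (Subgroup.eq_of_le_of_card_ge (Subgroup.zpowers_le.mpr (?_ : t' * s ∈ _)) ?_).symm |>.trans
          (Subgroup.zpowers_le.mpr (mul_mem (hQL htQ) hsL))
        · refine Subgroup.mem_centralizer_iff.mpr fun w hw => ?_
          haveI : IsCyclic S := isCyclic_of_prime_card hS7
          have e1 : w * s = s * w :=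
            congrArg Subtype.val ((IsCyclic.commGroup (α := S)).mul_comm ⟨w, hw⟩ ⟨s, hs⟩)
          have e2 : w * t' = t' * w := Subtype.ext (mem_cen.mp w.2)
          rw [← mul_assoc, e2, mul_assoc, e1, mul_assoc]
        · rw [card_cen_card_seven F ht S hS7, Nat.card_zpowers,
            (show Commute t' s from (Subtype.ext (mem_cen.mp s.2)).symm).orderOf_mul_eq_mul_orderOf_of_coprime
              (by rw [ht'o, hso]; norm_num), ht'o, hso]
      have hrel : L.relIndex N * Nat.card ↥(L ⊓ N) = 42 := by
        rw [← hN42, ← (L.subgroupOf N).index_mul_card, Subgroup.relIndex]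
        congr 1
        rw [← Subgroup.inf_subgroupOf_right]
        exact (Nat.card_congr (Subgroup.subgroupOfEquivOfLe inf_le_right).toEquiv).symm
      have h14 : 14 ∣ Nat.card ↥(L ⊓ N) := card_cen_card_seven F ht S hS7 ▸
        Subgroup.card_dvd_of_le (le_inf hcenL (Subgroup.centralizer_le_normalizer _))
      obtain ⟨c, hc⟩ := h14
      rw [hc, ← hidx] at hrel
      have hLc : L.index ∣ 3 := ⟨c, by nlinarith⟩
      rcases (Nat.dvd_prime Nat.prime_three).mp hLc with h | h
      · exact Subgroup.index_eq_one.mp h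
      exfalso
      have hL896 : Nat.card L = 896 := by
        have := L.index_mul_card
        rw [h, F.card_invol t ht] at this
        omega
      have hc1 : c = 1 := by rw [h] at hrel; omega
      have hNL : L ⊓ N = Subgroup.centralizer (S : Set C) := (Subgroup.eq_of_le_of_card_ge
        (le_inf hcenL (Subgroup.centralizer_le_normalizer _))
        (by rw [hc, hc1, card_cen_card_seven F ht S hS7])).symm
      have hP : Subgroup.normalizer ((P : Subgroup L) : Set L) ≤ Subgroup.centralizer ((P : Subgroup L) : Set L) := by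
        intro g hg
        have hgN : (g : C) ∈ N := by
          refine mem_norm ?_
          rintro _ ⟨k, hk, rfl⟩
          exact ⟨g * k * g⁻¹, norm_conj hg hk, rfl⟩
        have hgc : (g : C) ∈ Subgroup.centralizer (S : Set C) := hNL ▸ ⟨g.2, hgN⟩
        exact Subgroup.mem_centralizer_iff.mpr fun k hk => Subtype.ext
          (Subgroup.mem_centralizer_iff.mp hgc k ⟨k, hk, rfl⟩)
      have hcompl := MonoidHom.ker_transferSylow_isComplement' P hP
      set K := (MonoidHom.transferSylow P hP).ker with hK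
      have hK128 : Nat.card K = 128 := by
        have := hcompl.card_mul
        rw [hP7, hL896] at this
        omega
      have hchar : ∀ a : L, a ^ 128 = 1 → a ∈ K := by
        intro a ha
        rw [hK, MonoidHom.mem_ker]
        have h1 : MonoidHom.transferSylow P hP a ^ 128 = 1 := by rw [← map_pow, ha, map_one]
        have h2 := orderOf_dvd_of_pow_eq_one h1
        have h3 : orderOf (MonoidHom.transferSylow P hP a) ∣ 7 := by
          have h := orderOf_dvd_natCard (MonoidHom.transferSylow P hP a)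
          rwa [show Nat.card _ = 7 from hP7] at h
        exact orderOf_eq_one_iff.mp (Nat.dvd_one.mp (Nat.dvd_gcd h2 h3 : _ ∣ Nat.gcd 128 7))
      set K' := K.map L.subtype with hK'
      have hK'n : K'.Normal := ⟨fun a ha g => by
        obtain ⟨a, ha, rfl⟩ := ha
        refine ⟨⟨g * a * g⁻¹, hL.conj_mem _ a.2 g⟩, hchar _ (Subtype.ext ?_), rfl⟩
        rw [Subgroup.coe_pow, Subgroup.coe_one, conj_pow, ← Subgroup.coe_pow, pow_card_of_mem hK128 ha,
          Subgroup.coe_one, mul_one, mul_inv_cancel]⟩
      have hK'c : Nat.card K' = 2 ^ 7 := by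
        rw [hK', Subgroup.card_map_of_injective L.subtype_injective, hK128]; norm_num
      have hle := Subgroup.card_le_of_le (Fitting.le_pCore hK'n (IsPGroup.of_card hK'c))
      rw [hK'c, ← hQd, hj] at hle
      have := (Nat.pow_le_pow_iff_right (by norm_num)).mp hle
      omega
    · left
      refine le_antisymm (Fitting.le_pCore hL ?_) hQL
      by_cases h3 : 3 ∣ Nat.card L
      · exfalso
        obtain ⟨s₀, hs₀, hs₀t⟩ := exists_seven F ht
        refine false_of_seven F hs₀ (L.map C.subtype) ?_
          (by rwa [Subgroup.card_map_of_injective C.subtype_injective])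
          (by rwa [Subgroup.card_map_of_injective C.subtype_injective])
        rintro _ ⟨k, hk, rfl⟩
        exact ⟨⟨s₀, mem_cen.mpr hs₀t⟩ * k * ⟨s₀, mem_cen.mpr hs₀t⟩⁻¹, hL.conj_mem k hk _, rfl⟩
      · have hd := Subgroup.card_subgroup_dvd_card L
        rw [F.card_invol t ht, show (2688 : ℕ) = 2 ^ 7 * (3 * 7) by norm_num] at hd
        obtain ⟨i, -, hi⟩ := (Nat.dvd_prime_pow Nat.prime_two).mp ((Nat.Coprime.mul_right
          (Nat.prime_three.coprime_iff_not_dvd.mpr h3).symm
          ((show Nat.Prime 7 by norm_num).coprime_iff_not_dvd.mpr h7).symm).dvd_of_dvd_mul_right hd)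
        exact IsPGroup.of_card hi
  have hbig : 21 ≤ Nat.card (C ⧸ Q) := by
    rw [hQbar]; exact Nat.le_mul_of_pos_right _ (pow_pos two_pos _)
  haveI : Nontrivial (C ⧸ Q) := Finite.one_lt_card_iff_nontrivial.mp (by omega)
  haveI hsimple : IsSimpleGroup (C ⧸ Q) := by
    refine ⟨fun M hM => ?_⟩
    have hsurj := QuotientGroup.mk'_surjective Q
    rcases key (M.comap (QuotientGroup.mk' Q)) (hM.comap _)
      (fun a ha => by rw [Subgroup.mem_comap, QuotientGroup.mk'_apply, (QuotientGroup.eq_one_iff a).mpr ha];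
                      exact one_mem M) with h | h
    · left
      rw [← Subgroup.map_comap_eq_self_of_surjective hsurj M, h]
      exact QuotientGroup.map_mk'_self Q
    · right
      rw [← Subgroup.map_comap_eq_self_of_surjective hsurj M, h, Subgroup.map_top_of_surjective _ hsurj]
  refine ⟨?_, hsimple⟩
  have hnp : ¬ (Nat.card (C ⧸ Q)).Prime := by
    rw [hQbar]
    exact Nat.not_prime_mul (by norm_num) (by
      intro h
      have := (Nat.pow_eq_one.mp h)
      omega)
  have hna : ¬ IsMulCommutative (C ⧸ Q) := SmallOrder.not_comm_of_not_prime hnp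
  by_cases hsm : Nat.card (C ⧸ Q) ≤ 1092
  · have h := Cfsg.Agent.S0496.result hna hsm
    rw [hQbar] at h
    interval_cases j <;> simp_all
  · exfalso
    rw [hQbar] at hsm
    have hj' : j = 1 := by interval_cases j <;> simp_all
    have hQT : Q = Subgroup.zpowers t' := (Subgroup.eq_of_le_of_card_ge (Subgroup.zpowers_le.mpr htQ)
      (by rw [hj, hj', Nat.card_zpowers, ht'o]; norm_num)).symm
    have h1344 : Nat.card (C ⧸ Q) = 1344 := by rw [hQbar, hj']; norm_num
    have h8 := card_sylow_1344 h1344
    obtain ⟨P⟩ := (inferInstance : Nonempty (Sylow 7 (C ⧸ Q)))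
    have hP7 : Nat.card (P : Subgroup (C ⧸ Q)) = 7 := by
      rw [P.card_eq_multiplicity, h1344, show (1344 : ℕ) = 7 ^ 1 * 192 by norm_num,
        Nat.factorization_mul (by norm_num) (by norm_num), Finsupp.add_apply, Nat.factorization_pow,
        Finsupp.smul_apply, Nat.Prime.factorization_self (by norm_num),
        Nat.factorization_eq_zero_of_not_dvd (show ¬ 7 ∣ 192 by norm_num)]
      rfl
    set π := QuotientGroup.mk' Q with hπ
    set R := (P : Subgroup (C ⧸ Q)).comap π with hR
    have hR14 : Nat.card R = 14 := by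
      have h := R.index_mul_card
      rw [show R.index = (P : Subgroup (C ⧸ Q)).index from
        Subgroup.index_comap_of_surjective _ (QuotientGroup.mk'_surjective Q), F.card_invol t ht] at h
      have h' := (P : Subgroup (C ⧸ Q)).index_mul_card
      rw [hP7, h1344] at h'
      rw [show (P : Subgroup (C ⧸ Q)).index = 192 by omega] at h
      omega
    obtain ⟨s, hs, hso⟩ : ∃ s ∈ R, orderOf s = 7 := by
      obtain ⟨s, hs⟩ := exists_prime_orderOf_dvd_card' (G := R) 7 (by rw [hR14]; norm_num)
      exact ⟨s, s.2, by rw [Subgroup.orderOf_coe]; exact hs⟩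
    have hts : orderOf (t' * s) = 14 := by
      rw [(show Commute t' s from (Subtype.ext (mem_cen.mp s.2)).symm).orderOf_mul_eq_mul_orderOf_of_coprime
        (by rw [ht'o, hso]; norm_num), ht'o, hso]
    have htR : t' ∈ R := by
      show π t' ∈ (P : Subgroup (C ⧸ Q))
      rw [hπ, QuotientGroup.mk'_apply, (QuotientGroup.eq_one_iff t').mpr htQ]; exact one_mem _
    have hRz : R = Subgroup.zpowers (t' * s) := (Subgroup.eq_of_le_of_card_ge
      (Subgroup.zpowers_le.mpr (mul_mem htR hs)) (by rw [Nat.card_zpowers, hts, hR14])).symm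
    set M := (Subgroup.normalizer ((P : Subgroup (C ⧸ Q)) : Set (C ⧸ Q))).comap π with hM
    have hM336 : Nat.card M = 336 := by
      have h := M.index_mul_card
      rw [show M.index = (Subgroup.normalizer ((P : Subgroup (C ⧸ Q)) : Set (C ⧸ Q))).index from
        Subgroup.index_comap_of_surjective _ (QuotientGroup.mk'_surjective Q), F.card_invol t ht] at h
      have h' := P.card_eq_index_normalizer
      erw [h8] at h'
      erw [← h'] at h
      omega
    have hMN : M ≤ Subgroup.normalizer (Subgroup.zpowers s : Set C) := by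
      intro g hg
      refine mem_norm ?_
      have hgs : g * s * g⁻¹ ∈ R := by
        show π (g * s * g⁻¹) ∈ (P : Subgroup (C ⧸ Q))
        rw [map_mul, map_mul, map_inv]
        exact norm_conj hg hs
      have hgsz : g * s * g⁻¹ ∈ Subgroup.zpowers s := by
        obtain ⟨i, hi⟩ := Subgroup.mem_zpowers_iff.mp (hRz ▸ hgs : g * s * g⁻¹ ∈ Subgroup.zpowers (t' * s))
        have h7 : (g * s * g⁻¹) ^ 7 = 1 := by rw [conj_pow, pow_self_of_order hso, mul_one, mul_inv_cancel]
        rw [← hi, (show Commute t' s from (Subtype.ext (mem_cen.mp s.2)).symm).mul_zpow] at h7 ⊢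
        rw [((show Commute t' s from (Subtype.ext (mem_cen.mp s.2)).symm).zpow_zpow i i).mul_pow] at h7
        have e7 : (s ^ i) ^ 7 = 1 := by
          rw [← zpow_natCast, ← zpow_mul, mul_comm, zpow_mul, zpow_natCast, pow_self_of_order hso, one_zpow]
        have e2 : (t' ^ i) ^ 2 = 1 := by
          rw [← zpow_natCast, ← zpow_mul, mul_comm, zpow_mul, zpow_natCast, pow_self_of_order ht'o, one_zpow]
        rw [e7, mul_one, show 7 = 2 * 3 + 1 from rfl, pow_succ, pow_mul, e2, one_pow, one_mul] at h7
        rw [h7, one_mul]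
        exact Subgroup.zpow_mem _ (Subgroup.mem_zpowers s) i
      intro k hk
      obtain ⟨i, rfl⟩ := Subgroup.mem_zpowers_iff.mp hk
      rw [← conj_zpow]
      exact Subgroup.zpow_mem _ hgsz i
    have := Subgroup.card_le_of_le hMN
    rw [hM336, card_norm_seven F ht _ (by rw [Nat.card_zpowers, hso])] at this
    omega

end CfsgLib.M23Order
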