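import Cfsg.Agent.Lib.M23Order.Sixteen

/-!
# Simple groups of order 10200960: all involutions of a core have it as their core
-/

set_option autoImplicit false
set_option linter.unusedSectionVars false
set_option linter.style.haveILetI false

namespace CfsgLib.M23Order

open Cfsg CfsgLib

universe u

variable {G : Type u} [Group G] [Finite G]

/-- An involution inverting or centralising an element of order five. -/
theorem conj_five {y w : G} (hy : orderOf y = 5) (hw : w * w = 1)
    (hn : w * y * w⁻¹ ∈ Subgroup.zpowers y) : w * y = y * w ∨ w * y * w⁻¹ = y⁻¹ := by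
  obtain ⟨k, hk⟩ := Subgroup.mem_zpowers_iff.mp hn
  have h2 : y ^ (k * k) = y := by
    calc y ^ (k * k) = (y ^ k) ^ k := zpow_mul _ _ _
      _ = (w * y * w⁻¹) ^ k := by rw [hk]
      _ = w * (w * y * w⁻¹) * w⁻¹ := by rw [conj_zpow, hk]
      _ = (w * w) * y * (w * w)⁻¹ := by group
      _ = y := by rw [hw, one_mul, inv_one, mul_one]
  have hd : (5 : ℤ) ∣ (k - 1) * (k + 1) := by
    have h : y ^ ((k - 1) * (k + 1)) = 1 := by
      rw [show (k - 1) * (k + 1) = k * k - 1 by ring, zpow_sub, h2, zpow_one, mul_inv_cancel]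
    have := orderOf_dvd_iff_zpow_eq_one.mpr h
    rwa [hy] at this
  rcases (Int.prime_iff_natAbs_prime.mpr (by norm_num : Nat.Prime 5) : Prime (5 : ℤ)).dvd_or_dvd hd with h | h
  · left
    refine mul_inv_eq_iff_eq_mul.mp ?_
    rw [← hk]
    have : y ^ (k - 1) = 1 := orderOf_dvd_iff_zpow_eq_one.mp (by rw [hy]; exact h)
    rwa [zpow_sub, zpow_one, mul_inv_eq_one] at this
  · right
    rw [← hk]
    have : y ^ (k + 1) = 1 := orderOf_dvd_iff_zpow_eq_one.mp (by rw [hy]; exact h)
    rw [zpow_add, zpow_one] at this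
    exact eq_inv_of_mul_eq_one_left this

variable (F : Facts G)
include F

/-- An element of the centraliser of `x` cycling the four-group. -/
theorem exists_cycle {t v x : G} (ht : orderOf t = 2) (hv : v ∈ core t) (hv1 : v ≠ 1) (hvt : v ≠ t)
    (hx : orderOf x = 3) (hxt : x * t = t * x) (hxv : x * v = v * x) :
    ∃ w : G, w * x = x * w ∧ w * t * w⁻¹ = v ∧ w * v * w⁻¹ = t * v := by
  classical
  haveI : Fact (Nat.Prime 2) := ⟨Nat.prime_two⟩
  haveI : Fact (Nat.Prime 5) := ⟨by norm_num⟩
  set D := cen x with hD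
  set W := core t ⊓ cen x with hW
  have hWD : W ≤ D := inf_le_right
  have hD180 : Nat.card D = 180 := F.card_three x hx
  have hW4 : Nat.card W = 4 := card_core_inf_cen F ht hx hxt
  have htW : t ∈ W := ⟨mem_core_self F ht, mem_cen.mpr hxt.symm⟩
  have hvW : v ∈ W := ⟨hv, mem_cen.mpr hxv.symm⟩
  have htv1 : t * v ≠ 1 := fun e => hvt (by rw [eq_inv_of_mul_eq_one_right e, inv_core F ht (mem_core_self F ht)])
  have hWset : ({1, t, v, t * v} : Set G) = (W : Set G) := by
    refine Set.eq_of_subset_of_ncard_le ?_ ?_ (Set.toFinite _)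
    · rintro w (rfl | rfl | rfl | rfl)
      exacts [one_mem _, htW, hvW, mul_mem htW hvW]
    · rw [← Nat.card_coe_set_eq, show Nat.card ↥(W : Set G) = 4 from hW4, Set.ncard_eq_four.mpr
        ⟨1, t, v, t * v, (ne_one_of_order ht le_rfl).symm, hv1.symm, htv1.symm, hvt.symm,
          fun e => hv1 (mul_eq_left.mp e.symm), fun e => ne_one_of_order ht le_rfl (mul_eq_right.mp e.symm), rfl⟩]
  have hfac : (Nat.card D).factorization 2 = 2 := by
    rw [hD180, show (180 : ℕ) = 2 ^ 2 * 45 by norm_num, Nat.factorization_mul (by norm_num) (by norm_num),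
      Finsupp.add_apply, Nat.factorization_pow, Finsupp.smul_apply, Nat.Prime.factorization_self Nat.prime_two,
      Nat.factorization_eq_zero_of_not_dvd (show ¬ 2 ∣ 45 by norm_num)]
    rfl
  have hWD4 : Nat.card (W.subgroupOf D) = 2 ^ (Nat.card D).factorization 2 := by
    rw [hfac, Nat.card_congr (Subgroup.subgroupOfEquivOfLe hWD).toEquiv, hW4]; norm_num
  set P : Sylow 2 D := Sylow.ofCard _ hWD4 with hP
  have hPW : ∀ d : D, d ∈ (P : Subgroup D) ↔ (d : G) ∈ W := fun d => by
    rw [hP, Sylow.coe_ofCard, Subgroup.mem_subgroupOf]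
  -- the four-group is not centralised by its normaliser
  obtain ⟨g, hg, hgm⟩ : ∃ g : D, g ∈ Subgroup.normalizer ((P : Subgroup D) : Set D) ∧
      g ∉ Subgroup.centralizer ((P : Subgroup D) : Set D) := by
    by_contra hc
    push Not at hc
    have hcompl := MonoidHom.ker_transferSylow_isComplement' P hc
    set K := (MonoidHom.transferSylow P hc).ker with hK
    have hK45 : Nat.card K = 45 := by
      have h := hcompl.card_mul_card
      rw [show Nat.card (P : Subgroup D) = 4 by rw [P.card_eq_multiplicity, hfac]; norm_num, hD180] at h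
      omega
    obtain ⟨y, hyK, hy⟩ : ∃ y ∈ K, orderOf y = 5 := by
      obtain ⟨y, hy⟩ := exists_prime_orderOf_dvd_card' (G := K) 5 (by rw [hK45]; norm_num)
      exact ⟨y, y.2, by rw [Subgroup.orderOf_coe]; exact hy⟩
    -- the subgroup of order five in the complement is normal
    have hone : Nat.card (Sylow 5 K) = 1 := by
      obtain ⟨S⟩ := (inferInstance : Nonempty (Sylow 5 K))
      have hS5 : Nat.card (S : Subgroup K) = 5 := by
        rw [S.card_eq_multiplicity, hK45, show (45 : ℕ) = 5 ^ 1 * 9 by norm_num,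
          Nat.factorization_mul (by norm_num) (by norm_num), Finsupp.add_apply, Nat.factorization_pow,
          Finsupp.smul_apply, Nat.Prime.factorization_self (by norm_num),
          Nat.factorization_eq_zero_of_not_dvd (show ¬ 5 ∣ 9 by norm_num)]
        rfl
      have hd := S.card_dvd_index
      have hi := (S : Subgroup K).index_mul_card
      rw [hS5, hK45] at hi
      rw [show (S : Subgroup K).index = 9 by omega] at hd
      have hm : Nat.card (Sylow 5 K) % 5 = 1 := card_sylow_modEq_one 5 K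
      have := Nat.le_of_dvd (by norm_num) hd
      interval_cases h : Nat.card (Sylow 5 K) <;> omega
    haveI : Subsingleton (Sylow 5 K) := (Nat.card_eq_one_iff_unique.mp hone).1
    have hnorm : ∀ d : D, d * y * d⁻¹ ∈ Subgroup.zpowers y := by
      intro d
      have hc' : d * y * d⁻¹ ∈ K := (MonoidHom.normal_ker _).conj_mem y hyK d
      obtain ⟨S1, h1⟩ := (IsPGroup.of_card (p := 5) (n := 1) (show Nat.card (Subgroup.zpowers (⟨y, hyK⟩ : K)) = 5 ^ 1
        by rw [Nat.card_zpowers, Subgroup.orderOf_mk, hy, pow_one])).exists_le_sylow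
      obtain ⟨S2, h2⟩ := (IsPGroup.of_card (p := 5) (n := 1) (show Nat.card (Subgroup.zpowers (⟨_, hc'⟩ : K)) = 5 ^ 1
        by rw [Nat.card_zpowers, Subgroup.orderOf_mk, order_conj, hy, pow_one])).exists_le_sylow
      have hS5 : Nat.card (S1 : Subgroup K) = 5 := by
        rw [S1.card_eq_multiplicity, hK45, show (45 : ℕ) = 5 ^ 1 * 9 by norm_num,
          Nat.factorization_mul (by norm_num) (by norm_num), Finsupp.add_apply, Nat.factorization_pow,
          Finsupp.smul_apply, Nat.Prime.factorization_self (by norm_num),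
          Nat.factorization_eq_zero_of_not_dvd (show ¬ 5 ∣ 9 by norm_num)]
        rfl
      have e : Subgroup.zpowers (⟨y, hyK⟩ : K) = (S1 : Subgroup K) := Subgroup.eq_of_le_of_card_ge h1
        (by rw [hS5, Nat.card_zpowers, Subgroup.orderOf_mk, hy])
      rw [Subsingleton.elim S2 S1, ← e] at h2
      obtain ⟨k, hk⟩ := Subgroup.mem_zpowers_iff.mp (h2 (Subgroup.mem_zpowers (⟨_, hc'⟩ : K)))
      exact ⟨k, congrArg (fun z : K => (z : D)) hk⟩
    have hyo : orderOf (y : G) = 5 := by rw [Subgroup.orderOf_coe]; exact hy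
    have hinvert : ∀ w ∈ W, w ≠ 1 → w * (y : G) * w⁻¹ = (y : G)⁻¹ := by
      intro w hw hw1
      have hn : w * (y : G) * w⁻¹ ∈ Subgroup.zpowers (y : G) := by
        obtain ⟨k, hk⟩ := Subgroup.mem_zpowers_iff.mp (hnorm ⟨w, hWD hw⟩)
        exact ⟨k, congrArg (fun z : D => (z : G)) hk⟩
      refine (conj_five hyo (core_sq F ht hw.1) hn).resolve_left fun hcomm => ?_
      have hd : orderOf w ∣ 15 := F.card_five (y : G) hyo ▸ Subgroup.orderOf_dvd_natCard _ (mem_cen.mpr hcomm)
      rw [order_core F ht hw.1 hw1] at hd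
      norm_num at hd
    have e1 := hinvert t htW (ne_one_of_order ht le_rfl)
    have e2 := hinvert v hvW hv1
    have e3 := hinvert (t * v) (mul_mem htW hvW) htv1
    have e4 : t * v * (y : G) * (t * v)⁻¹ = (y : G) := by
      calc t * v * (y : G) * (t * v)⁻¹ = t * (v * (y : G) * v⁻¹) * t⁻¹ := by group
        _ = (t * (y : G) * t⁻¹)⁻¹ := by rw [e2]; group
        _ = y := by rw [e1, inv_inv]
    rw [e4] at e3
    have : (y : G) ^ 2 = 1 := by rw [pow_two]; nth_rw 2 [e3]; exact mul_inv_cancel _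
    have := orderOf_dvd_of_pow_eq_one this
    rw [hyo] at this
    norm_num at this
  -- the odd part of the element
  have hnW : ∀ w ∈ W, (g : G) * w * (g : G)⁻¹ ∈ W := fun w hw =>
    (hPW _).mp (norm_conj hg ((hPW ⟨w, hWD hw⟩).mpr hw))
  have hg45 : ∀ w ∈ W, (g : G) ^ 45 * w = w * (g : G) ^ 45 := by
    have h4 : (g ^ 45) ^ 4 = 1 := by
      rw [← pow_mul, show 45 * 4 = 180 from rfl, ← hD180]; exact pow_card_eq_one'
    have hmem : g ^ 45 ∈ (P : Subgroup D) := by
      have hz : IsPGroup 2 (Subgroup.zpowers (g ^ 45)) := fun a => by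
        obtain ⟨k, hk⟩ := Subgroup.mem_zpowers_iff.mp a.2
        refine ⟨2, Subtype.ext ?_⟩
        rw [Subgroup.coe_pow, ← hk, show (2 : ℕ) ^ 2 = 4 from rfl, ← zpow_natCast, ← zpow_mul, mul_comm, zpow_mul,
          zpow_natCast, h4, one_zpow]
        rfl
      have hle : Subgroup.zpowers (g ^ 45) ≤ Subgroup.normalizer ((P : Subgroup D) : Set D) :=
        Subgroup.zpowers_le.mpr (Subgroup.pow_mem _ hg 45)
      have := P.3 (hz.to_sup_of_normal_right' P.2 hle) le_sup_right
      exact this ▸ (le_sup_left (b := (P : Subgroup D))) (Subgroup.mem_zpowers _)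
    intro w hw
    have := core_comm F ht ((hPW _).mp hmem).1 hw.1
    simpa using this
  obtain ⟨w₀, hw₀, hmove⟩ : ∃ w₀ ∈ W, ((g : G) ^ 4) * w₀ * ((g : G) ^ 4)⁻¹ ≠ w₀ := by
    by_contra hc
    push Not at hc
    refine hgm (Subgroup.mem_centralizer_iff.mpr fun p hp => Subtype.ext ?_)
    have hw := (hPW p).mp hp
    have h1 : Commute ((g : G) ^ 4) (p : G) := mul_inv_eq_iff_eq_mul.mp (hc p hw)
    have h2 : Commute ((g : G) ^ 45) (p : G) := hg45 p hw
    have h3 : Commute (g : G) (p : G) := by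
      have := (h1.zpow_left (-11)).mul_left (h2.zpow_left 1)
      rwa [← zpow_natCast, ← zpow_mul, ← zpow_natCast, ← zpow_mul, ← zpow_add,
        show ((4 : ℕ) : ℤ) * -11 + ((45 : ℕ) : ℤ) * 1 = 1 by norm_num, zpow_one] at this
    exact h3.eq.symm
  set z := (g : G) ^ 4 with hz
  have hz45 : z ^ 45 = 1 := by
    rw [hz, ← pow_mul, show 4 * 45 = 180 from rfl]
    exact pow_card_of_mem hD180 g.2
  have hzW : ∀ w ∈ W, z * w * z⁻¹ ∈ W := by
    intro w hw
    have h : ∀ n : ℕ, (g : G) ^ n * w * ((g : G) ^ n)⁻¹ ∈ W := by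
      intro n
      induction n with
      | zero => simpa using hw
      | succ n ih =>
        rw [pow_succ', show (g : G) * (g : G) ^ n * w * ((g : G) * (g : G) ^ n)⁻¹ =
          (g : G) * ((g : G) ^ n * w * ((g : G) ^ n)⁻¹) * (g : G)⁻¹ by group]
        exact hnW _ ih
    exact h 4
  have hthree : ∀ e ∈ W, e ≠ 1 → e = t ∨ e = v ∨ e = t * v := fun e he h1 =>
    (hWset.symm ▸ he : e ∈ ({1, t, v, t * v} : Set G)).resolve_left h1
  have hfix : ∀ e ∈ W, e ≠ 1 → z * e * z⁻¹ ≠ e := by
    intro e he he1 hfe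
    have hsq : ∀ w ∈ W, z * (z * w * z⁻¹) * z⁻¹ = w := by
      intro w hw
      by_contra hne'
      rcases eq_or_ne w 1 with rfl | hw1
      · exact hne' (by group)
      set w1 := z * w * z⁻¹ with hw1'
      have hm1 : w1 ∈ W := hzW w hw
      set w2 := z * w1 * z⁻¹ with hw2'
      have hm2 : w2 ∈ W := hzW w1 hm1
      have n1 : w1 ≠ 1 := fun h => hw1 (conj_eq_one_iff.mp h)
      have n2 : w2 ≠ 1 := fun h => n1 (conj_eq_one_iff.mp h)
      have d01 : w ≠ w1 := fun h => hne' (by rw [hw2', ← h, ← hw1', ← h])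
      have d12 : w1 ≠ w2 := fun h => d01 (mul_left_cancel (mul_right_cancel (hw1' ▸ h.trans hw2' : z * w * z⁻¹ = z * w1 * z⁻¹)))
      have he0 : e ≠ w := fun h => d01 (by rw [hw1', ← h]; exact hfe.symm)
      have he1' : e ≠ w1 := fun h => d12 (by rw [hw2', ← h]; exact hfe.symm)
      have he2 : e ≠ w2 := fun h => he1' (mul_left_cancel (mul_right_cancel (by rw [hfe]; exact h.trans hw2' :
        z * e * z⁻¹ = z * w1 * z⁻¹)))
      rcases hthree e he he1 with a | a | a <;> rcases hthree w hw hw1 with b | b | b <;>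
        rcases hthree w1 hm1 n1 with c | c | c <;> rcases hthree w2 hm2 n2 with d | d | d <;> subst a b <;>
          first
            | exact he0 rfl
            | exact he1' c.symm
            | exact he2 d.symm
            | exact d01 c.symm
            | exact d12 (c.trans d.symm)
            | exact hne' d
    refine hmove ?_
    have hev : ∀ n : ℕ, ∀ w ∈ W, z ^ (2 * n) * w * (z ^ (2 * n))⁻¹ = w := by
      intro n
      induction n with
      | zero => intro w _; simp
      | succ n ih =>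
        intro w hw
        calc z ^ (2 * (n + 1)) * w * (z ^ (2 * (n + 1)))⁻¹
            = z * (z * (z ^ (2 * n) * w * (z ^ (2 * n))⁻¹) * z⁻¹) * z⁻¹ := by
              rw [show 2 * (n + 1) = 2 * n + 1 + 1 by ring, pow_succ', pow_succ']; group
          _ = w := by rw [ih w hw, hsq w hw]
    have h := hev 22 w₀ hw₀
    have e22 : z ^ (2 * 22) = z⁻¹ := eq_inv_of_mul_eq_one_left (by rw [← pow_succ]; exact hz45)
    rw [e22, inv_inv] at h
    calc z * w₀ * z⁻¹ = z * (z⁻¹ * w₀ * z) * z⁻¹ := by rw [h]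
      _ = w₀ := by group
  have hzx : z * x = x * z := ((show Commute (g : G) x from mem_cen.mp g.2).pow_left 4).eq
  have hzmul : z * (t * v) * z⁻¹ = z * t * z⁻¹ * (z * v * z⁻¹) := by group
  have hzinj : z * t * z⁻¹ ≠ z * v * z⁻¹ := fun e => hvt (mul_left_cancel (mul_right_cancel e)).symm
  have k1 := hfix t htW (ne_one_of_order ht le_rfl)
  have k2 := hfix v hvW hv1
  have k3 := hfix (t * v) (mul_mem htW hvW) htv1
  rcases hthree _ (hzW t htW) (fun e => ne_one_of_order ht le_rfl (conj_eq_one_iff.mp e)) with h | h | h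
  · exact absurd h k1
  · rcases hthree _ (hzW v hvW) (fun e => hv1 (conj_eq_one_iff.mp e)) with h' | h' | h'
    · refine absurd ?_ k3
      rw [hzmul, h, h', core_comm F ht hv (mem_core_self F ht)]
    · exact absurd h' k2
    · exact ⟨z, hzx, h, h'⟩
  · rcases hthree _ (hzW v hvW) (fun e => hv1 (conj_eq_one_iff.mp e)) with h' | h' | h'
    · refine ⟨z⁻¹, ((show Commute z x from hzx).inv_left).eq, ?_, ?_⟩
      · calc z⁻¹ * t * z⁻¹⁻¹ = z⁻¹ * (z * v * z⁻¹) * z := by rw [h', inv_inv]
          _ = v := by group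
      · calc z⁻¹ * v * z⁻¹⁻¹ = z⁻¹ * ((t * v) * (z * v * z⁻¹)) * z := by
              rw [show t * v * (z * v * z⁻¹) = v by
                rw [h', mul_assoc, cen_core_comm hv, ← mul_assoc, sq_of_order ht, one_mul], inv_inv]
          _ = z⁻¹ * ((z * t * z⁻¹) * (z * v * z⁻¹)) * z := by rw [h]
          _ = t * v := by group
    · exact absurd h' k2
    · exact absurd (h.trans h'.symm) hzinj

theorem comm_prod {t a b : G} (ht : orderOf t = 2) (ha : a ∈ core t) (hb : b ∈ core t) : Commute a b :=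
  core_comm F ht ha hb

/-- All involutions of a core have it as their core. -/
theorem core_eq {t v : G} (ht : orderOf t = 2) (hv : v ∈ core t) (hv1 : v ≠ 1) : core v = core t := by
  classical
  rcases eq_or_ne v t with rfl | hvt
  · rfl
  by_contra hne
  obtain ⟨x, hx, hxt, hxv⟩ := exists_order_three F (t := t) (v := v) (by
    rw [card_cen_two F ht hv hv1 hvt]; norm_num)
  obtain ⟨w, hwx, hwt, hwv⟩ := exists_cycle F ht hv hv1 hvt hx hxt hxv
  have hvo := order_core F ht hv hv1
  have htv1 : t * v ≠ 1 := fun e => hvt (by rw [eq_inv_of_mul_eq_one_right e, inv_core F ht (mem_core_self F ht)])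
  set u := t * v with hu
  have huE : u ∈ core t := mul_mem (mem_core_self F ht) hv
  have huo := order_core F ht huE htv1
  have hxu : x * u = u * x := ((show Commute x t from hxt).mul_right hxv).eq
  have hwu : w * u * w⁻¹ = t := by
    rw [hu, show w * (t * v) * w⁻¹ = w * t * w⁻¹ * (w * v * w⁻¹) by group, hwt, hwv, hu,
      ← mul_assoc, cen_core_comm hv, mul_assoc, sq_of_order hvo, mul_one]
  set E1 := core t with hE1
  set E2 := core v with hE2
  set E3 := core u with hE3
  have m12 : E1.map (MulAut.conj w).toMonoidHom = E2 := by rw [hE1, core_map_conj, hwt]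
  have m23 : E2.map (MulAut.conj w).toMonoidHom = E3 := by rw [hE2, core_map_conj, hwv]
  have m31 : E3.map (MulAut.conj w).toMonoidHom = E1 := by rw [hE3, core_map_conj, hwu]
  have n12 : E1 ≠ E2 := fun e => hne e.symm
  have hinj := Subgroup.map_injective (MulAut.conj w).injective (f := (MulAut.conj w).toMonoidHom)
  have n23 : E2 ≠ E3 := fun e => n12 (hinj (by rw [m12, m23, e]))
  have n31 : E3 ≠ E1 := fun e => n23 (hinj (by rw [m23, m31, e]))
  have hvtc : v * t = t * v := cen_core_comm hv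
  have hut : u * t = t * u := cen_core_comm huE
  have huv : u * v = v * u := core_comm F ht huE hv
  -- the four-group is common
  have hW : ∀ z : G, z * x = x * z → (z ∈ E1 → z ∈ E2 ∧ z ∈ E3) ∧ (z ∈ E2 → z ∈ E1) ∧ (z ∈ E3 → z ∈ E1) := by
    intro z hzx
    refine ⟨fun hz => ⟨two_mem_core F hvo hx hxv (core_comm F ht hz hv) hzx (core_pow F ht hz),
      two_mem_core F huo hx hxu (core_comm F ht hz huE) hzx (core_pow F ht hz)⟩, fun hz => ?_, fun hz => ?_⟩
    · exact two_mem_core F ht hx hxt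
        (core_comm F hvo hz (mem_core_symm F ht hvo hx hxt hxv hvtc.symm)) hzx (core_pow F hvo hz)
    · exact two_mem_core F ht hx hxt
        (core_comm F huo hz (mem_core_symm F ht huo hx hxt hxu hut.symm)) hzx (core_pow F huo hz)
  have i12 : ∀ z ∈ E1, z ∈ E2 → z * x = x * z := fun z h1 h2 => core_inter F ht hvo hx hxt hxv hvtc.symm n12 h1 h2
  have i23 : ∀ z ∈ E2, z ∈ E3 → z * x = x * z := fun z h2 h3 => core_inter F hvo huo hx hxv hxu huv.symm n23 h2 h3
  have i31 : ∀ z ∈ E3, z ∈ E1 → z * x = x * z := fun z h3 h1 => core_inter F huo ht hx hxu hxt hut n31 h3 h1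
  -- the common part of the centralisers
  set R := cen t ⊓ cen v with hR
  have hR192 : Nat.card R = 192 := card_cen_two F ht hv hv1 hvt
  have hW1 := hW t hxt.symm
  have hW2 := hW v hxv.symm
  have e1R : E1 ≤ R := fun a ha => ⟨core_le t ha, mem_cen.mpr (core_comm F ht ha hv)⟩
  have e2R : E2 ≤ R := fun a ha =>
    ⟨mem_cen.mpr (core_comm F hvo ha (hW1.1 (mem_core_self F ht)).1), core_le v ha⟩
  have e3R : E3 ≤ R := fun a ha =>
    ⟨mem_cen.mpr (core_comm F huo ha (hW1.1 (mem_core_self F ht)).2),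
      mem_cen.mpr (core_comm F huo ha (hW2.1 hv).2)⟩
  have hn2 : ∀ c ∈ R, ∀ a ∈ E2, c * a * c⁻¹ ∈ E2 := fun c hc a ha => core_conj (mem_cen.mp hc.2) ha
  have hn3 : ∀ c ∈ R, ∀ a ∈ E3, c * a * c⁻¹ ∈ E3 := fun c hc a ha => core_conj
    (((show Commute c t from mem_cen.mp hc.1).mul_right (mem_cen.mp hc.2)).eq) ha
  set A2 := E2.subgroupOf R with hA2
  set A3 := E3.subgroupOf R with hA3
  haveI : A2.Normal := ⟨fun a ha c => hn2 c c.2 a ha⟩
  haveI : A3.Normal := ⟨fun a ha c => hn3 c c.2 a ha⟩
  have hinf : Nat.card ↥(A2 ⊓ A3) = 4 := by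
    have e : (A2 ⊓ A3) = (E2 ⊓ E3).subgroupOf R := rfl
    rw [e, Nat.card_congr (Subgroup.subgroupOfEquivOfLe ((inf_le_left).trans e2R)).toEquiv,
      ← card_core_inf_cen F hvo hx hxv]
    congr 2
    refine le_antisymm (fun z hz => ⟨hz.1, mem_cen.mpr (i23 z hz.1 hz.2)⟩) fun z hz => ?_
    exact ⟨hz.1, ((hW z (mem_cen.mp hz.2)).1 ((hW z (mem_cen.mp hz.2)).2.1 hz.1)).2⟩
  set U := A2 ⊔ A3 with hU
  have hU64 : U.index = 3 := by
    have hA2c : Nat.card A2 = 16 := by
      rw [hA2, Nat.card_congr (Subgroup.subgroupOfEquivOfLe e2R).toEquiv, hE2, card_core F hvo]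
    have hA3c : Nat.card A3 = 16 := by
      rw [hA3, Nat.card_congr (Subgroup.subgroupOfEquivOfLe e3R).toEquiv, hE3, card_core F huo]
    have hrel : A2.relIndex U = 4 := by
      rw [hU, sup_comm, Subgroup.relIndex_sup_right]
      have h := (A2.subgroupOf A3).index_mul_card
      rw [← Subgroup.inf_subgroupOf_right, Nat.card_congr (Subgroup.subgroupOfEquivOfLe inf_le_right).toEquiv,
        hinf, hA3c, Subgroup.inf_subgroupOf_right] at h
      show (A2.subgroupOf A3).index = 4
      omega
    have h := (A2.subgroupOf U).index_mul_card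
    rw [show (A2.subgroupOf U).index = 4 from hrel,
      Nat.card_congr (Subgroup.subgroupOfEquivOfLe (le_sup_left : A2 ≤ U)).toEquiv, hA2c] at h
    have h' := U.index_mul_card
    rw [hR192, ← h] at h'
    omega
  have hdec : ∀ a ∈ E1, ∃ b ∈ E2, ∃ c ∈ E3, a = b * c := by
    intro a ha
    set a' : R := ⟨a, e1R ha⟩
    have h3 : a' ^ 3 ∈ U := hU64 ▸ U.pow_index_mem a'
    have h128 : a' ^ 128 = 1 := Subtype.ext (core_pow F ht ha)
    have ha' : a' ∈ U := by
      rw [show a' = (a' ^ 3) ^ 43 by rw [← pow_mul, show 3 * 43 = 128 + 1 from rfl, pow_succ, h128, one_mul]]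
      exact pow_mem h3 43
    obtain ⟨b, hb, c, hc, e⟩ := Subgroup.mem_sup_of_normal_right.mp ha'
    exact ⟨b, hb, c, hc, congrArg (fun z : R => (z : G)) e.symm⟩
  -- commutators
  have hS2 : ∀ a ∈ E2, a * a = 1 := fun a ha => core_sq F hvo ha
  have hS3 : ∀ a ∈ E3, a * a = 1 := fun a ha => core_sq F huo ha
  have hKmem : ∀ b ∈ E2, ∀ c ∈ E3, b * c * b * c ∈ E2 ∧ b * c * b * c ∈ E3 := by
    intro b hb c hc
    constructor
    · have h := hn2 c (e3R hc) b hb
      rw [inv_core F huo hc] at h
      simpa [mul_assoc] using mul_mem hb h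
    · have h := hn3 b (e2R hb) c hc
      rw [inv_core F hvo hb] at h
      exact mul_mem h hc
  have hzero : ∀ z ∈ E2, z ∈ E3 → (∀ b ∈ E2, Commute z b) ∧ (∀ c ∈ E3, Commute z c) := fun z h2 h3 =>
    ⟨fun b hb => comm_prod F hvo h2 hb, fun c hc => comm_prod F huo h3 hc⟩
  have hbl : ∀ b ∈ E2, ∀ b' ∈ E2, ∀ c ∈ E3,
      b * b' * c * (b * b') * c = (b' * c * b' * c) * (b * c * b * c) := by
    intro b hb b' hb' c hc
    obtain ⟨k2, k3⟩ := hKmem b' hb' c hc
    have hk := (hzero _ k2 k3).1 b hb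
    calc b * b' * c * (b * b') * c = b * b' * c * (b' * b) * c := by rw [core_comm F hvo hb hb']
      _ = b * (b' * c * b' * c) * c⁻¹ * b * c := by group
      _ = (b' * c * b' * c) * b * c * b * c := by rw [← hk.eq, inv_core F huo hc]
      _ = _ := by group
  have hbr : ∀ b ∈ E2, ∀ c ∈ E3, ∀ c' ∈ E3,
      b * (c * c') * b * (c * c') = (b * c * b * c) * (b * c' * b * c') := by
    intro b hb c hc c' hc'
    obtain ⟨k2, k3⟩ := hKmem b hb c' hc'
    have hk := (hzero _ k2 k3).2 c hc
    calc b * (c * c') * b * (c * c') = b * c * b⁻¹ * (b * c' * b * c') * (c'⁻¹ * c * c') := by group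
      _ = b * c * b * (c * (b * c' * b * c')) := by
        rw [show c'⁻¹ * c * c' = c by rw [mul_assoc, core_comm F huo hc hc', inv_mul_cancel_left],
          mul_assoc _ _ c, hk.eq, inv_core F hvo hb]
      _ = _ := by group
  have hz1 : ∀ p q z : G, Commute z p → Commute z q → z * z = 1 → p * z * q * (p * z) * q = p * q * p * q := by
    intro p q z h1 h2 h3
    calc p * z * q * (p * z) * q = p * (z * q) * p * (z * q) := by group
      _ = p * q * (z * p) * (q * z) := by rw [h2.eq]; group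
      _ = p * q * p * (z * q) * z := by rw [h1.eq]; group
      _ = p * q * p * q * (z * z) := by rw [h2.eq]; group
      _ = _ := by rw [h3, mul_one]
  -- a member outside the four-group
  obtain ⟨a, ha, hax⟩ : ∃ a ∈ E1, a * x ≠ x * a := by
    by_contra hc
    push Not at hc
    have hle : E1 ≤ E1 ⊓ cen x := fun a ha => ⟨ha, mem_cen.mpr (hc a ha)⟩
    have := Subgroup.card_le_of_le hle
    rw [hE1, card_core F ht, card_core_inf_cen F ht hx hxt] at this
    omega
  obtain ⟨b, hb, c, hc, habc⟩ := hdec a ha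
  have hbx : b * x ≠ x * b := by
    intro hbx
    have hb1 := (hW b hbx).2.1 hb
    have hb3 := ((hW b hbx).1 hb1).2
    exact hax (i31 a (habc ▸ mul_mem hb3 hc) ha)
  have hbc : c * b = b * c := by
    have h : (b * c) * (b * c) = 1 := habc ▸ core_sq F ht ha
    calc c * b = b⁻¹ * (b * c * (b * c)) * c⁻¹ := by group
      _ = b⁻¹ * c⁻¹ := by rw [h, mul_one]
      _ = b * c := by rw [inv_core F hvo hb, inv_core F huo hc]
  obtain ⟨a', ha'⟩ : ∃ a', a' = x * a * x⁻¹ := ⟨_, rfl⟩
  obtain ⟨b', hb'⟩ : ∃ b', b' = x * b * x⁻¹ := ⟨_, rfl⟩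
  obtain ⟨c', hc'⟩ : ∃ c', c' = x * c * x⁻¹ := ⟨_, rfl⟩
  have ha'm : a' ∈ E1 := ha' ▸ core_conj hxt ha
  have hb'm : b' ∈ E2 := hb' ▸ core_conj hxv hb
  have hc'm : c' ∈ E3 := hc' ▸ core_conj hxu hc
  have habc' : a' = b' * c' := by rw [ha', habc, hb', hc']; group
  have hxK : ∀ z, z ∈ E2 → z ∈ E3 → x * z * x⁻¹ = z := fun z h2 h3 => by
    rw [← i23 z h2 h3, mul_inv_cancel_right]
  have hb'c' : b' * c' * b' * c' = 1 := by
    rw [mul_assoc (b' * c'), ← habc']; exact core_sq F ht ha'm
  have hbc1 : b * c * b * c = 1 := by rw [mul_assoc (b * c), ← habc]; exact core_sq F ht ha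
  -- the two mixed commutators agree
  obtain ⟨k, hk⟩ : ∃ k, k = b * c' * b * c' := ⟨_, rfl⟩
  obtain ⟨hk2, hk3⟩ : k ∈ E2 ∧ k ∈ E3 := hk ▸ hKmem b hb c' hc'm
  obtain ⟨hl2, hl3⟩ := hKmem b' hb'm c hc
  have hkl : b' * c * b' * c = k := by
    have haa : (a * a') * (a * a') = 1 := core_sq F ht (mul_mem ha ha'm)
    obtain ⟨l, hl⟩ : ∃ l, l = b' * c * b' * c := ⟨_, rfl⟩
    rw [← hl] at hl2 hl3 ⊢
    have e : a * a' = b * b' * (c * c') * l := by
      have hl' : c * b' = b' * c * l := by
        calc c * b' = (b' * b') * c * b' * (c * c) := by rw [hS2 b' hb'm, hS3 c hc, one_mul, mul_one]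
          _ = b' * (b' * c * b' * c) * c := by group
          _ = b' * (c * l) := by rw [← hl, mul_assoc, ((hzero l hl2 hl3).2 c hc).eq]
          _ = b' * c * l := by rw [mul_assoc]
      calc a * a' = b * (c * b') * c' := by rw [habc, habc']; group
        _ = b * b' * c * (l * c') := by rw [hl']; group
        _ = _ := by rw [((hzero l hl2 hl3).2 c' hc'm).eq]; group
    have hll : l * l = 1 := hS2 l hl2
    have hbb' : Commute l (b * b') := (hzero l hl2 hl3).1 _ (mul_mem hb hb'm)
    have hcc' : Commute l (c * c') := (hzero l hl2 hl3).2 _ (mul_mem hc hc'm)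
    have h1 : b * b' * (c * c') * (b * b') * (c * c') = 1 := by
      rw [e] at haa
      calc b * b' * (c * c') * (b * b') * (c * c')
          = b * b' * (c * c') * (b * b') * (c * c') * (l * l) := by rw [hll, mul_one]
        _ = b * b' * (c * c') * ((b * b') * (c * c') * l) * l := by group
        _ = b * b' * (c * c') * (l * ((b * b') * (c * c'))) * l := by rw [← (hbb'.mul_right hcc').eq]
        _ = 1 := by rw [← haa]; group
    rw [hbl b hb b' hb'm (c * c') (mul_mem hc hc'm), hbr b' hb'm c hc c' hc'm, hbr b hb c hc c' hc'm,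
      hbc1, hb'c', mul_one, one_mul, ← hk, ← hl] at h1
    rw [eq_inv_of_mul_eq_one_left h1, inv_core F hvo hk2]
  -- the shifted pair
  have hshift : c * a' * c * a' = k := by
    rw [habc']
    calc c * (b' * c') * c * (b' * c') = c * b' * (c' * c) * b' * c' := by group
      _ = c * b' * c * (c' * b' * c') := by rw [core_comm F huo hc'm hc]; group
      _ = c * b' * c * b' * ((b'⁻¹) * c' * b' * c') := by group
      _ = (b' * c * b' * c)⁻¹ * (b' * c' * b' * c') := by
        rw [mul_inv_rev, mul_inv_rev, mul_inv_rev, inv_core F hvo hb'm, inv_core F huo hc]; group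
      _ = k := by rw [hb'c', mul_one, hkl, inv_core F hvo hk2]
  have hshift2 : a * b' * a * b' = k := by
    rw [habc]
    calc b * c * b' * (b * c) * b' = b * c * b' * (c * b) * b' := by rw [hbc]
      _ = b * c * (b' * c * b' * c) * c⁻¹ * b'⁻¹ * b * b' := by group
      _ = b * c * k * c * (b' * b * b') := by rw [hkl, inv_core F huo hc, inv_core F hvo hb'm]; group
      _ = b * c * (k * c) * b := by
        rw [show b' * b * b' = b by rw [core_comm F hvo hb'm hb, mul_assoc, hS2 b' hb'm, mul_one]]; group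
      _ = b * (c * c) * k * b := by rw [((hzero k hk2 hk3).2 c hc).eq]; group
      _ = b * b * k := by rw [hS3 c hc, mul_one, mul_assoc b k, ((hzero k hk2 hk3).1 b hb).eq, mul_assoc]
      _ = k := by rw [hS2 b hb, one_mul]
  -- the image under the cycle is again such a pair
  have huniq : ∀ B ∈ E2, ∀ C ∈ E3, B * C ∈ E1 → B * x ≠ x * B →
      B * (x * C * x⁻¹) * B * (x * C * x⁻¹) = k := by
    intro B hB C hC hBC hBx
    obtain ⟨b'', hb''⟩ : ∃ g, g = x * b' * x⁻¹ := ⟨_, rfl⟩
    obtain ⟨c'', hc''⟩ : ∃ g, g = x * c' * x⁻¹ := ⟨_, rfl⟩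
    have hb''m : b'' ∈ E2 := hb'' ▸ core_conj hxv hb'm
    have hc''m : c'' ∈ E3 := hc'' ▸ core_conj hxu hc'm
    have habc'' : x * a' * x⁻¹ = b'' * c'' := by rw [habc', hb'', hc'']; group
    have hx3 : x * x * x = 1 := by rw [← pow_three']; exact pow_self_of_order hx
    -- cover
    have hcover : ∃ z ∈ E2, z * x = x * z ∧ (B = b * z ∨ B = b' * z ∨ B = b'' * z) := by
      have hb'b : ∀ z : G, z * x = x * z → b' ≠ b * z := by
        intro z hz e
        have e0 : x * b * x⁻¹ = b * z := hb' ▸ e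
        have e1 : ∀ n : ℕ, x ^ n * b * (x ^ n)⁻¹ = b * z ^ n := by
          intro n
          induction n with
          | zero => simp
          | succ n ih =>
            calc x ^ (n + 1) * b * (x ^ (n + 1))⁻¹ = x * (x ^ n * b * (x ^ n)⁻¹) * x⁻¹ := by rw [pow_succ']; group
              _ = x * b * x⁻¹ * (x * z ^ n * x⁻¹) := by rw [ih]; group
              _ = b * z ^ (n + 1) := by
                rw [e0, ((show Commute x z from hz.symm).pow_right n).eq, mul_inv_cancel_right, mul_assoc, ← pow_succ']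
        have h3 := e1 3
        rw [pow_self_of_order hx, one_mul, inv_one, mul_one] at h3
        have hz2 : z ∈ E2 := by
          have : z = b⁻¹ * b' := by rw [e]; group
          rw [this]; exact mul_mem (inv_mem hb) hb'm
        have hz1' : z = 1 := by
          have h := mul_eq_left.mp h3.symm
          rwa [pow_succ, pow_two, hS2 z hz2, one_mul] at h
        rw [hz1', mul_one] at e
        exact hbx (mul_inv_eq_iff_eq_mul.mp (hb' ▸ e : x * b * x⁻¹ = b)).symm
      have hd1 : ∀ z : G, z * x = x * z → b'' ≠ b' * z := by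
        intro z hz e
        refine hb'b z hz (mul_left_cancel (mul_right_cancel (a := x * b' ) (b := x⁻¹) ?_))
        calc x * b' * x⁻¹ = b' * z := by rw [← hb'']; exact e
          _ = x * (b * z) * x⁻¹ := by
            rw [hb', show x * (b * z) * x⁻¹ = x * b * x⁻¹ * (x * z * x⁻¹) by group, ← hz, mul_inv_cancel_right]
      have hd2 : ∀ z : G, z * x = x * z → b ≠ b'' * z := by
        intro z hz e
        refine hd1 z hz (mul_left_cancel (mul_right_cancel (a := x * b'') (b := x⁻¹) ?_))
        calc x * b'' * x⁻¹ = b := by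
              rw [hb'', hb', show x * (x * (x * b * x⁻¹) * x⁻¹) * x⁻¹ = x * x * x * b * (x * x * x)⁻¹ by group, hx3]
              group
          _ = b'' * z := e
          _ = x * (b' * z) * x⁻¹ := by
            rw [hb'', show x * (b' * z) * x⁻¹ = x * b' * x⁻¹ * (x * z * x⁻¹) by group, ← hz, mul_inv_cancel_right]
      have hb''x : ∀ z : G, z * x = x * z → b' * z ≠ 1 ∧ b * z ≠ 1 ∧ b'' * z ≠ 1 := by
        intro z hz
        have hb0 : b * z ≠ 1 := fun e => hbx (by
          rw [eq_inv_of_mul_eq_one_left e]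
          exact ((show Commute z x from hz).inv_left).eq)
        have hxz : x * z * x⁻¹ = z := by rw [← hz, mul_inv_cancel_right]
        refine ⟨fun e => hb0 ?_, hb0, fun e => hb0 ?_⟩
        · refine (conj_eq_one_iff (a := x)).mp ?_
          rw [show x * (b * z) * x⁻¹ = x * b * x⁻¹ * (x * z * x⁻¹) by group, hxz, ← hb']; exact e
        · refine (conj_eq_one_iff (a := x * x)).mp ?_
          rw [show x * x * (b * z) * (x * x)⁻¹ = x * (x * b * x⁻¹) * x⁻¹ * (x * (x * z * x⁻¹) * x⁻¹) by group,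
            hxz, hxz, ← hb', ← hb'']
          exact e
      set W2 := E2 ⊓ cen x with hW2'
      have hcW : Nat.card W2 = 4 := card_core_inf_cen F hvo hx hxv
      let f : W2 × Fin 4 → E2 := fun p => ⟨![1, b, b', b''] p.2 * p.1, mul_mem (by
        rcases p with ⟨_, i⟩
        fin_cases i
        exacts [one_mem _, hb, hb'm, hb''m]) p.1.2.1⟩
      have hf : Function.Bijective f := by
        letI : Fintype E2 := Fintype.ofFinite _
        letI : Fintype W2 := Fintype.ofFinite _
        refine (Fintype.bijective_iff_injective_and_card f).mpr ⟨?_, ?_⟩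
        · rintro ⟨z, i⟩ ⟨z', j⟩ e
          have e' : ![1, b, b', b''] i * (z : G) = ![1, b, b', b''] j * z' := congrArg Subtype.val e
          have hzz : ((z' : G) * (z : G)⁻¹) * x = x * ((z' : G) * (z : G)⁻¹) :=
            mem_cen.mp ((cen x).mul_mem z'.2.2 ((cen x).inv_mem z.2.2))
          have hzz' : ((z : G) * (z' : G)⁻¹) * x = x * ((z : G) * (z' : G)⁻¹) :=
            mem_cen.mp ((cen x).mul_mem z.2.2 ((cen x).inv_mem z'.2.2))
          have e2 : ![1, b, b', b''] i = ![1, b, b', b''] j * ((z' : G) * (z : G)⁻¹) := by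
            rw [← mul_assoc, ← e', mul_inv_cancel_right]
          have e3 : ![1, b, b', b''] j = ![1, b, b', b''] i * ((z : G) * (z' : G)⁻¹) := by
            rw [← mul_assoc, e', mul_inv_cancel_right]
          have hij : i = j := by
            obtain ⟨p1, p2, p3⟩ := hb''x _ hzz
            obtain ⟨q1, q2, q3⟩ := hb''x _ hzz'
            fin_cases i <;> fin_cases j <;> simp at e2 e3 ⊢
            all_goals first
              | exact hb'b _ hzz e2 | exact hb'b _ hzz' e3
              | exact hd1 _ hzz e2 | exact hd1 _ hzz' e3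
              | exact hd2 _ hzz e2 | exact hd2 _ hzz' e3
              | exact p1 e2.symm | exact p2 e2.symm | exact p3 e2.symm
              | exact q1 e3.symm | exact q2 e3.symm | exact q3 e3.symm
          subst hij
          exact Prod.ext (Subtype.ext (mul_left_cancel e')) rfl
        · rw [← Nat.card_eq_fintype_card, ← Nat.card_eq_fintype_card, Nat.card_prod, hcW, Nat.card_fin,
            hE2, card_core F hvo]
      obtain ⟨⟨z, i⟩, hzi⟩ := hf.2 ⟨B, hB⟩
      have hBe : ![1, b, b', b''] i * (z : G) = B := congrArg Subtype.val hzi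
      refine ⟨z, z.2.1, mem_cen.mp z.2.2, ?_⟩
      fin_cases i <;> simp at hBe
      · exact absurd (hBe ▸ mem_cen.mp z.2.2) hBx
      · exact Or.inl hBe.symm
      · exact Or.inr (Or.inl hBe.symm)
      · exact Or.inr (Or.inr hBe.symm)
    have main : ∀ p ∈ E2, ∀ q ∈ E3, p * q ∈ E1 → ∀ z ∈ E2, z * x = x * z → B = p * z →
        B * (x * C * x⁻¹) * B * (x * C * x⁻¹) = p * (x * q * x⁻¹) * p * (x * q * x⁻¹) := by
      intro p hp q hq hpq z hz hzx hBp
      have hz1' := (hW z hzx).2.1 hz
      have hz3 := ((hW z hzx).1 hz1').2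
      obtain ⟨d, hd⟩ : ∃ d, d = q⁻¹ * C := ⟨_, rfl⟩
      have hd3 : d ∈ E3 := hd ▸ mul_mem (inv_mem hq) hC
      have hd1' : d ∈ E1 := by
        have e : d = (p * q)⁻¹ * (B * C) * z⁻¹ := by
          have hcz : z * C = C * z := core_comm F huo hz3 hC
          rw [hd, hBp, show (p * q)⁻¹ * (p * z * C) * z⁻¹ = q⁻¹ * (z * C) * z⁻¹ by group, hcz]
          group
        rw [e]
        exact mul_mem (mul_mem (inv_mem hpq) hBC) (inv_mem hz1')
      have hdx := i31 d hd3 hd1'
      have hd2' := ((hW d hdx).1 hd1').1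
      have hq' : x * q * x⁻¹ ∈ E3 := core_conj hxu hq
      have hC' : x * C * x⁻¹ = x * q * x⁻¹ * d := by
        calc x * C * x⁻¹ = x * q * x⁻¹ * (x * d * x⁻¹) := by rw [hd]; group
          _ = _ := by rw [hxK d hd2' hd3]
      obtain ⟨q', hq''⟩ : ∃ g, g = x * q * x⁻¹ := ⟨_, rfl⟩
      rw [← hq''] at hq' hC' ⊢
      have e1 : p * z * (x * C * x⁻¹) * (p * z) * (x * C * x⁻¹) = p * (x * C * x⁻¹) * p * (x * C * x⁻¹) :=
        hz1 p _ z ((hzero z hz hz3).1 p hp) ((hzero z hz hz3).2 _ (core_conj hxu hC)) (hS2 z hz)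
      rw [hBp, e1, hC', hbr p hp q' hq' d hd3]
      have : p * d * p * d = 1 := by
        rw [show p * d * p * d = p * (d * p) * d by group, ((hzero d hd2' hd3).1 p hp).eq, ← mul_assoc, hS2 p hp,
          one_mul, hS3 d hd3]
      rw [this, mul_one]
    obtain ⟨z, hz, hzx, h | h | h⟩ := hcover
    · rw [main b hb c hc (habc ▸ ha) z hz hzx h, ← hc', ← hk]
    · rw [main b' hb'm c' hc'm (habc' ▸ ha'm) z hz hzx h]
      calc b' * (x * c' * x⁻¹) * b' * (x * c' * x⁻¹) = x * (b * c' * b * c') * x⁻¹ := by rw [hb']; group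
        _ = k := by rw [← hk]; exact hxK k hk2 hk3
    · rw [main b'' hb''m c'' hc''m (habc'' ▸ core_conj hxt ha'm) z hz hzx h]
      calc b'' * (x * c'' * x⁻¹) * b'' * (x * c'' * x⁻¹) = x * (x * (b * c' * b * c') * x⁻¹) * x⁻¹ := by
            rw [hb'', hc'', hb']; group
        _ = k := by rw [← hk, hxK k hk2 hk3, hxK k hk2 hk3]
  -- the cycle fixes the commutator
  have hxw : ∀ g : G, w * (x * g * x⁻¹) * w⁻¹ = x * (w * g * w⁻¹) * x⁻¹ := fun g => by
    calc w * (x * g * x⁻¹) * w⁻¹ = (w * x) * g * (w * x)⁻¹ := by group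
      _ = x * (w * g * w⁻¹) * x⁻¹ := by rw [hwx]; group
  have hwk : w * k * w⁻¹ = k := by
    set B := w * a * w⁻¹ with hB
    set C := w * b * w⁻¹ with hC
    have hBm : B ∈ E2 := m12 ▸ ⟨a, ha, rfl⟩
    have hCm : C ∈ E3 := m23 ▸ ⟨b, hb, rfl⟩
    have hBC : B * C ∈ E1 := by
      rw [← m31]
      refine ⟨c, hc, ?_⟩
      show w * c * w⁻¹ = B * C
      rw [hB, hC, habc, show w * (b * c) * w⁻¹ * (w * b * w⁻¹) = w * (b * (c * b)) * w⁻¹ by group, hbc,
        ← mul_assoc b b c, hS2 b hb, one_mul]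
    have hBx : B * x ≠ x * B := by
      intro e
      refine hax ?_
      have h1 : w * (a * x) * w⁻¹ = w * (x * a) * w⁻¹ := by
        calc w * (a * x) * w⁻¹ = B * (w * x * w⁻¹) := by rw [hB]; group
          _ = B * x := by rw [hwx, mul_inv_cancel_right]
          _ = x * B := e
          _ = (w * x * w⁻¹) * B := by rw [hwx, mul_inv_cancel_right]
          _ = _ := by rw [hB]; group
      exact mul_left_cancel (mul_right_cancel h1)
    have h := huniq B hBm C hCm hBC hBx
    rw [hC, ← hxw, hB] at h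
    calc w * k * w⁻¹ = w * (a * b' * a * b') * w⁻¹ := by rw [hshift2]
      _ = k := by rw [← h, hb']; group
  have hk1 : k = 1 := by
    have hkx := i23 k hk2 hk3
    have hk1' := (hW k hkx).2.1 hk2
    by_contra hk0
    have hWc : ({1, t, v, t * v} : Set G) = ((core t ⊓ cen x : Subgroup G) : Set G) := by
      refine Set.eq_of_subset_of_ncard_le ?_ ?_ (Set.toFinite _)
      · rintro z (rfl | rfl | rfl | rfl)
        exacts [one_mem _, ⟨mem_core_self F ht, mem_cen.mpr hxt.symm⟩, ⟨hv, mem_cen.mpr hxv.symm⟩,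
          ⟨huE, mem_cen.mpr hxu.symm⟩]
      · rw [← Nat.card_coe_set_eq, show Nat.card ↥((core t ⊓ cen x : Subgroup G) : Set G) = 4 from
          card_core_inf_cen F ht hx hxt, Set.ncard_eq_four.mpr ⟨1, t, v, t * v, (ne_one_of_order ht le_rfl).symm,
            hv1.symm, htv1.symm, hvt.symm, fun e => hv1 (mul_eq_left.mp e.symm),
            fun e => ne_one_of_order ht le_rfl (mul_eq_right.mp e.symm), rfl⟩]
    have hmem : k ∈ ({1, t, v, t * v} : Set G) := by rw [hWc]; exact ⟨hk1', mem_cen.mpr hkx⟩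
    rcases hmem with e | e | e | e
    · exact hk0 e
    · rw [e, hwt] at hwk; exact hvt hwk
    · rw [e, hwv] at hwk; exact ne_one_of_order ht le_rfl (mul_eq_right.mp hwk)
    · rw [e, hwu] at hwk; exact hv1 (mul_eq_left.mp hwk.symm)
  -- so b centralises the third core
  have hb3 : b ∈ E3 := by
    refine cen_core F huo fun q hq => ?_
    have e1 : Commute b c := hbc.symm
    have e2 : Commute b c' := by
      have h : b * c' * b * c' = 1 := hk ▸ hk1
      show b * c' = c' * b
      calc b * c' = b * c' * b * c' * (c'⁻¹ * b⁻¹) := by group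
        _ = c' * b := by rw [h, one_mul, inv_core F huo hc'm, inv_core F hvo hb]
    have hcx : c * x ≠ x * c := fun hcx => by
      have hc1 := (hW c hcx).2.2 hc
      have hc2 := ((hW c hcx).1 hc1).1
      exact hax (i12 a ha (habc ▸ mul_mem hb hc2))
    -- the span
    set L := E3 ⊓ Subgroup.centralizer ({b} : Set G) with hL
    have hWL : E3 ⊓ cen x ≤ L := by
      intro z hz
      have hz1' := (hW z (mem_cen.mp hz.2)).2.2 hz.1
      have hz2 := ((hW z (mem_cen.mp hz.2)).1 hz1').1
      exact ⟨hz.1, mem_cen.mpr (core_comm F hvo hz2 hb)⟩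
    have hcL : c ∈ L := ⟨hc, mem_cen.mpr e1.eq.symm⟩
    have hc'L : c' ∈ L := ⟨hc'm, mem_cen.mpr e2.eq.symm⟩
    have hxc : ∀ z ∈ E3 ⊓ cen x, c' ≠ c * z := by
      intro z hz e
      rw [hc'] at e
      have e1 : ∀ n : ℕ, x ^ n * c * (x ^ n)⁻¹ = c * z ^ n := by
        intro n
        induction n with
        | zero => simp
        | succ n ih =>
          calc x ^ (n + 1) * c * (x ^ (n + 1))⁻¹ = x * (x ^ n * c * (x ^ n)⁻¹) * x⁻¹ := by rw [pow_succ']; group
            _ = x * c * x⁻¹ * (x * z ^ n * x⁻¹) := by rw [ih]; group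
            _ = c * z ^ (n + 1) := by
              rw [e, ((show Commute x z from (mem_cen.mp hz.2).symm).pow_right n).eq, mul_inv_cancel_right,
                mul_assoc, ← pow_succ']
      have h3 := e1 3
      rw [pow_self_of_order hx, one_mul, inv_one, mul_one] at h3
      have h := mul_eq_left.mp h3.symm
      rw [pow_succ, pow_two, hS3 z hz.1, one_mul] at h
      rw [h, mul_one] at e
      exact hcx (mul_inv_eq_iff_eq_mul.mp e).symm
    have hc'x : c' * x ≠ x * c' := fun e => hcx (by
      rw [hc'] at e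
      calc c * x = x⁻¹ * (x * c * x⁻¹ * x) * x := by group
        _ = x⁻¹ * (x * (x * c * x⁻¹)) * x := by rw [e]
        _ = x * c := by group)
    set W3 := E3 ⊓ cen x with hW3
    let f : W3 × Fin 3 → L := fun p => ⟨![1, c, c'] p.2 * p.1, L.mul_mem (by
      rcases p with ⟨_, i⟩
      fin_cases i
      exacts [one_mem _, hcL, hc'L]) (hWL p.1.2)⟩
    have hf : Function.Injective f := by
      rintro ⟨z, i⟩ ⟨z', j⟩ e
      have e' : ![1, c, c'] i * (z : G) = ![1, c, c'] j * z' := congrArg Subtype.val e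
      have hm : ∀ i j : Fin 3, ∀ y y' : W3, i < j → ![1, c, c'] i * (y : G) ≠ ![1, c, c'] j * y' := by
        intro i j y y' hij e2
        have hy : (y : G) * (y' : G)⁻¹ ∈ W3 := mul_mem y.2 (inv_mem y'.2)
        have e3 : ![1, c, c'] j = ![1, c, c'] i * ((y : G) * (y' : G)⁻¹) := by
          rw [← mul_assoc, e2, mul_inv_cancel_right]
        fin_cases i <;> fin_cases j <;> simp at hij e3
        · exact hcx (mem_cen.mp (e3 ▸ hy).2)
        · exact hc'x (mem_cen.mp (e3 ▸ hy).2)
        · exact hxc _ hy e3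
      rcases lt_trichotomy i j with h | h | h
      · exact absurd e' (hm i j z z' h)
      · subst h
        exact Prod.ext (Subtype.ext (mul_left_cancel e')) rfl
      · exact absurd e'.symm (hm j i z' z h)
    have h12 := Nat.card_le_card_of_injective f hf
    rw [Nat.card_prod, Nat.card_fin, show Nat.card W3 = 4 from card_core_inf_cen F huo hx hxu] at h12
    have hd16 := Subgroup.card_dvd_of_le (inf_le_left : L ≤ E3)
    rw [hE3, card_core F huo] at hd16
    have h16 : 16 ≤ Nat.card L := by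
      obtain ⟨k, hk, hk'⟩ := (Nat.dvd_prime_pow Nat.prime_two).mp (show Nat.card L ∣ 2 ^ 4 from hd16)
      rw [hk'] at h12 ⊢
      interval_cases k <;> omega
    have h2 : E3 ≤ L := le_of_eq (Subgroup.eq_of_le_of_card_ge inf_le_left (by
      rw [hE3, card_core F huo]; exact h16)).symm
    exact (mem_cen.mp (h2 hq).2).symm
  exact hbx (i23 b hb hb3)

end CfsgLib.M23Order
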