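import Cfsg.Agent.Lib.M23Order.Blocks
import Cfsg.Agent.Lib.Steiner.Aut
import Cfsg.Agent.Lib.Golay.MathieuFacts
import Cfsg.Prelude.Def_Spor_Mathieu

/-!
# Simple groups of order 10200960: the Steiner system and the isomorphism with the Mathieu group
-/

set_option autoImplicit false
set_option linter.unusedSectionVars false
set_option linter.style.haveILetI false

namespace CfsgLib.M23Order

open Cfsg CfsgLib
open scoped Pointwise

universe u

variable {G : Type u} [Group G] [Finite G]

/-- The automorphism group of the standard system on 23 points is the Mathieu group. -/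
theorem aut23_equiv : Nonempty (setSystemAut (Steiner.sysL 23 Steiner.std23 : Set (Finset (Fin 23))) ≃*
    Cfsg.Spor.M23) := by
  have e : setSystemAut (Steiner.sysL 23 Steiner.std23 : Set (Finset (Fin 23))) ≃*
      MulAction.stabilizer M24 (Steiner.E24 (Fin.last 23)) :=
    (MonoidHom.ofInjective Steiner.f23_injective).trans (MulEquiv.subgroupCongr Steiner.f23_range)
  obtain ⟨e1⟩ := Golay.nonempty_equiv23 (Steiner.E24 (Fin.last 23))
  obtain ⟨e2⟩ := Golay.nonempty_equiv23 (none : GolayPt)
  have e3 : MulAction.stabilizer M24 (none : GolayPt) ≃* Cfsg.Spor.M23 :=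
    Golay.conjEquiv (K := Cfsg.Spor.M23) inf_le_left _ (one_mem M24) fun x => by
      simp only [inv_one, one_mul, mul_one, Subgroup.mem_inf, Cfsg.Spor.M23,
        MulAction.mem_stabilizer_iff, SetLike.coe_mem, true_and]
      rfl
  exact ⟨e.trans (e1.trans (e2.symm.trans e3))⟩

/-- A group of order 10200960 with the facts of the Mathieu group is the Mathieu group. -/
theorem isoM23_of_facts (F : Facts G) [IsSimpleGroup G] : Cfsg.Spor.IsoM23 G := by
  classical
  obtain ⟨t, M, S⟩ := exists_setup F
  haveI := Fintype.ofFinite (G ⧸ M)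
  have hX : Fintype.card (G ⧸ M) = 23 := by rw [← Nat.card_eq_fintype_card]; exact S.index
  obtain ⟨h7, -⟩ := fix_core F S
  let blk : G ⧸ nor t → Finset (G ⧸ M) := fun a =>
    Quotient.liftOn' a (fun g => (g • blockPts t M).toFinset) fun g h e =>
      Set.toFinset_congr ((block_smul_eq F S).mpr (Quotient.sound' e))
  have hblk : ∀ g : G, (blk (g : G ⧸ nor t) : Set (G ⧸ M)) = g • blockPts t M := fun g => Set.coe_toFinset _
  have hc : ∀ a, (blk a).card = 7 := by
    intro a
    obtain ⟨g, rfl⟩ := QuotientGroup.mk_surjective a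
    rw [← Set.ncard_coe_finset, hblk, ← Set.image_smul, Set.ncard_image_of_injective _ (MulAction.injective g), h7]
  have hmeet : ∀ a b, a ≠ b → (blk a ∩ blk b).card ≤ 3 := by
    intro a b hab
    obtain ⟨g, rfl⟩ := QuotientGroup.mk_surjective a
    obtain ⟨h, rfl⟩ := QuotientGroup.mk_surjective b
    rw [← Set.ncard_coe_finset, Finset.coe_inter, hblk, hblk,
      show g • blockPts t M = h • ((h⁻¹ * g) • blockPts t M) by rw [← mul_smul, mul_inv_cancel_left],
      ← Set.smul_set_inter, ← Set.image_smul, Set.ncard_image_of_injective _ (MulAction.injective h)]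
    refine block_meet F S fun e => hab ((block_smul_eq F S).mp ?_)
    conv_rhs => rw [← e, ← mul_smul, mul_inv_cancel_left]
  set B : Set (Finset (G ⧸ M)) := Set.range blk with hBd
  have hsteiner : IsSteinerSystem 4 7 B := by
    refine ⟨by rintro b ⟨a, rfl⟩; exact hc a, fun s hs => ?_⟩
    haveI := Fintype.ofFinite (G ⧸ nor t)
    let T : Finset (Σ _ : G ⧸ nor t, Finset (G ⧸ M)) :=
      Finset.univ.sigma fun a => (blk a).powersetCard 4
    have hinj : Set.InjOn (fun p : Σ _ : G ⧸ nor t, Finset (G ⧸ M) => p.2) ↑T := by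
      rintro ⟨a, s₁⟩ ha ⟨b, s₂⟩ hb (e : s₁ = s₂)
      subst e
      simp only [T, Finset.coe_sigma, Set.mem_sigma_iff, Finset.mem_coe, Finset.mem_powersetCard] at ha hb
      by_contra hne
      have hab : a ≠ b := fun e => hne (by rw [e])
      have h1 := Finset.card_le_card (Finset.subset_inter ha.2.1 hb.2.1)
      have h2 := hmeet a b hab
      omega
    have hT : T.image (fun p => p.2) = (Finset.univ : Finset (G ⧸ M)).powersetCard 4 := by
      refine Finset.eq_of_subset_of_card_le ?_ ?_
      · intro s' hs'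
        obtain ⟨p, hp, rfl⟩ := Finset.mem_image.mp hs'
        simp only [T, Finset.mem_sigma, Finset.mem_powersetCard] at hp
        exact Finset.mem_powersetCard.mpr ⟨Finset.subset_univ _, hp.2.2⟩
      · rw [Finset.card_image_of_injOn hinj, Finset.card_powersetCard, Finset.card_univ, hX, Finset.card_sigma]
        simp only [Finset.card_powersetCard, hc, Finset.sum_const, Finset.card_univ, smul_eq_mul]
        rw [← Nat.card_eq_fintype_card, show Nat.card (G ⧸ nor t) = 253 from index_nor F S.ord]
        decide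
    have hmem : s ∈ T.image (fun p => p.2) := hT ▸ Finset.mem_powersetCard.mpr ⟨Finset.subset_univ _, hs⟩
    obtain ⟨⟨a, s'⟩, hp, rfl⟩ := Finset.mem_image.mp hmem
    simp only [T, Finset.mem_sigma, Finset.mem_powersetCard] at hp
    refine ⟨blk a, ⟨⟨a, rfl⟩, hp.2.1⟩, ?_⟩
    rintro _ ⟨⟨b, rfl⟩, hsb⟩
    by_contra hne
    have h1 := Finset.card_le_card (Finset.subset_inter hsb hp.2.1)
    have h2 := hmeet b a (fun e => hne (by rw [e]))
    dsimp only at h1 hs
    omega
  -- the action
  let P := MulAction.toPermHom G (G ⧸ M)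
  have hP : ∀ g, P g ∈ setSystemAut B := by
    have hblk' : ∀ (g : G) (a : G ⧸ nor t), P g • blk a = blk (g • a) := by
      intro g a
      obtain ⟨h, rfl⟩ := QuotientGroup.mk_surjective a
      refine Finset.coe_injective ?_
      rw [Finset.coe_smul_finset, hblk, show g • (h : G ⧸ nor t) = ((g * h : G) : G ⧸ nor t) from rfl, hblk, mul_smul]
      rfl
    intro g
    rw [MulAction.mem_stabilizer_iff, hBd, Set.smul_set_range]
    simp only [hblk']
    exact (Equiv.surjective (MulAction.toPerm g)).range_comp blk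
  let Φ := P.codRestrict (setSystemAut B) hP
  have hinj : Function.Injective Φ := by
    rw [← MonoidHom.ker_eq_bot_iff]
    refine (IsSimpleGroup.eq_bot_or_eq_top_of_normal _ (MonoidHom.normal_ker _)).resolve_right fun h => ?_
    have hM : M = ⊤ := eq_top_iff.mpr fun a _ => by
      have ha : a ∈ Φ.ker := h ▸ Subgroup.mem_top a
      have := Equiv.ext_iff.mp (congrArg Subtype.val (MonoidHom.mem_ker.mp ha)) ((1 : G) : G ⧸ M)
      simpa using (smul_mk_eq a 1).mp this
    have := S.index
    rw [hM, Subgroup.index_top] at this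
    omega
  obtain ⟨⟨-, hcard⟩, -⟩ := Steiner.aut23_transfer hX hsteiner
  have hbij : Function.Bijective Φ := (Nat.bijective_iff_injective_and_card Φ).mpr ⟨hinj, F.card.trans hcard.symm⟩
  obtain ⟨e, he⟩ := Steiner.lab23 hX hsteiner
  obtain ⟨e'⟩ := aut23_equiv
  exact ⟨(MulEquiv.ofBijective Φ hbij).trans
    (((MulEquiv.subgroupCongr (by rw [he])).trans (Steiner.autEquiv e B)).symm.trans e')⟩

end CfsgLib.M23Order
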