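import Cfsg.Agent.Lib.M23Order.Core

/-!
# Simple groups of order 10200960: the elementary sixteen in the centraliser of an involution
-/

set_option autoImplicit false
set_option linter.unusedSectionVars false
set_option linter.style.haveILetI false

namespace CfsgLib.M23Order

open Cfsg CfsgLib

universe u

variable {G : Type u} [Group G] [Finite G]

theorem mem_core_iff {t : G} {y : cen t} : (y : G) ∈ core t ↔ y ∈ Cfsg.pCore 2 (cen t) :=
  Subgroup.mem_map_iff_mem (Subgroup.subtype_injective _)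

theorem core_conj {t c q : G} (hc : c * t = t * c) (hq : q ∈ core t) : c * q * c⁻¹ ∈ core t := by
  obtain ⟨q, hq, rfl⟩ := hq
  haveI := Fitting.pCore_normal (G := cen t) 2
  exact ⟨⟨c, mem_cen.mpr hc⟩ * q * ⟨c, mem_cen.mpr hc⟩⁻¹, Subgroup.Normal.conj_mem inferInstance _ hq _, rfl⟩

/-- A complement of the involution in its sixteen, invariant under its centraliser. -/
structure Split (t : G) (H : Subgroup G) : Prop where
  le : H ≤ core t
  card : Nat.card H = 8
  notMem : t ∉ H
  inv : ∀ c : G, c * t = t * c → ∀ h ∈ H, c * h * c⁻¹ ∈ H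

/-- The 2-core of the centraliser of a conjugate. -/
theorem core_map_conj (g t : G) : (core t).map (MulAut.conj g).toMonoidHom = core (g * t * g⁻¹) := by
  have key : ∀ g t : G, (core t).map (MulAut.conj g).toMonoidHom ≤ core (g * t * g⁻¹) := by
    intro g t
    rintro _ ⟨_, ⟨y, hy, rfl⟩, rfl⟩
    have hmem : ∀ z : cen t, g * (z : G) * g⁻¹ ∈ cen (g * t * g⁻¹) := fun z => mem_cen.mpr (by
      rw [show g * (z : G) * g⁻¹ * (g * t * g⁻¹) = g * ((z : G) * t) * g⁻¹ by group, mem_cen.mp z.2]; group)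
    let φ : cen t →* cen (g * t * g⁻¹) :=
      { toFun := fun z => ⟨g * (z : G) * g⁻¹, hmem z⟩
        map_one' := Subtype.ext (by simp)
        map_mul' := fun a b => Subtype.ext (by
          show g * ((a : G) * b) * g⁻¹ = g * a * g⁻¹ * (g * b * g⁻¹); group) }
    have hφ : Function.Surjective φ := fun z => by
      refine ⟨⟨g⁻¹ * (z : G) * g, mem_cen.mpr ?_⟩, Subtype.ext ?_⟩
      · calc g⁻¹ * (z : G) * g * t = g⁻¹ * ((z : G) * (g * t * g⁻¹)) * g := by group
          _ = t * (g⁻¹ * (z : G) * g) := by rw [mem_cen.mp z.2]; group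
      · show g * (g⁻¹ * (z : G) * g) * g⁻¹ = z
        group
    haveI := (Fitting.pCore_normal (G := cen t) 2).map φ hφ
    exact ⟨φ y, Fitting.le_pCore inferInstance ((Fitting.pCore_isPGroup 2).map φ) ⟨y, hy, rfl⟩, rfl⟩
  refine le_antisymm (key g t) fun q hq => ?_
  have h := key g⁻¹ (g * t * g⁻¹) ⟨q, hq, rfl⟩
  rw [show g⁻¹ * (g * t * g⁻¹) * g⁻¹⁻¹ = t by group] at h
  exact ⟨g⁻¹ * q * g⁻¹⁻¹, h, by show g * (g⁻¹ * q * g⁻¹⁻¹) * g⁻¹ = q; group⟩

theorem conj_mem_core {g t q : G} (hq : q ∈ core t) : g * q * g⁻¹ ∈ core (g * t * g⁻¹) :=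
  core_map_conj g t ▸ ⟨q, hq, rfl⟩

theorem cen_core_comm {t q : G} (hq : q ∈ core t) : q * t = t * q := mem_cen.mp (core_le t hq)

variable (F : Facts G)
include F

theorem card_core {t : G} (ht : orderOf t = 2) : Nat.card (core t) = 16 := by
  rw [core, Subgroup.card_map_of_injective (Subgroup.subtype_injective _), (core_structure F ht).1]

theorem core_pow {t q : G} (ht : orderOf t = 2) (hq : q ∈ core t) : q ^ 128 = 1 := by
  rw [show 128 = 16 * 8 by norm_num, pow_mul, pow_card_of_mem (card_core F ht) hq, one_pow]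

theorem mem_core_self {t : G} (ht : orderOf t = 2) : t ∈ core t := by
  haveI : Fact (Nat.Prime 2) := ⟨Nat.prime_two⟩
  set t' : cen t := ⟨t, mem_cen.mpr rfl⟩ with ht'
  refine mem_core_iff (y := t').mpr (Fitting.le_pCore (N := Subgroup.zpowers t') ⟨fun a ha g => ?_⟩
    (IsPGroup.of_card (n := 1) (by rw [Nat.card_zpowers, pow_one, ht', Subgroup.orderOf_mk, ht]))
    (Subgroup.mem_zpowers t'))
  obtain ⟨i, rfl⟩ := Subgroup.mem_zpowers_iff.mp ha
  rw [((show Commute g t' from Subtype.ext (mem_cen.mp g.2)).zpow_right i).eq, mul_inv_cancel_right]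
  exact ha

/-- Only the two subgroups lie between the core and the centraliser and are normal in the latter. -/
theorem core_cases {t : G} (ht : orderOf t = 2) {L : Subgroup G} (h1 : core t ≤ L) (h2 : L ≤ cen t)
    (hn : ∀ c ∈ cen t, ∀ l ∈ L, c * l * c⁻¹ ∈ L) : L = core t ∨ L = cen t := by
  haveI hQn := Fitting.pCore_normal (G := cen t) 2
  haveI := (core_structure F ht).2
  set Q := Cfsg.pCore 2 (cen t) with hQ
  have hQL : Q ≤ L.subgroupOf (cen t) := fun q hq =>
    Subgroup.mem_subgroupOf.mpr (h1 (mem_core_iff.mpr hq))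
  have hLn : (L.subgroupOf (cen t)).Normal := ⟨fun l hl c => hn c c.2 l hl⟩
  have hmap := hLn.map _ (QuotientGroup.mk'_surjective Q)
  have hcm := Subgroup.comap_map_eq (QuotientGroup.mk' Q) (L.subgroupOf (cen t))
  rw [QuotientGroup.ker_mk', sup_eq_left.mpr hQL] at hcm
  rcases hmap.eq_bot_or_eq_top with h | h
  · left
    rw [h, MonoidHom.comap_bot, QuotientGroup.ker_mk'] at hcm
    rw [← Subgroup.map_subgroupOf_eq_of_le h2, ← hcm]
    rfl
  · right
    rw [h, Subgroup.comap_top] at hcm
    exact le_antisymm h2 (Subgroup.subgroupOf_eq_top.mp hcm.symm)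

/-- An element of order seven fixes only the involution in the core. -/
theorem seven_fix {t s q : G} (ht : orderOf t = 2) (hs : orderOf s = 7) (hst : s * t = t * s)
    (hq : q ∈ core t) (hc : q * s = s * q) : q = 1 ∨ q = t := by
  have hz : q ∈ Subgroup.zpowers (t * s) := cen_seven_eq F ht hs hst ▸ mem_cen.mpr hc
  have h16 := pow_card_of_mem (card_core F ht) hq
  obtain ⟨i, rfl⟩ := Subgroup.mem_zpowers_iff.mp hz
  have hct : Commute t s := hst.symm
  rw [hct.mul_zpow] at h16 ⊢
  rw [((hct.zpow_zpow i i)).mul_pow] at h16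
  have e2 : (t ^ i) ^ 2 = 1 := by
    rw [← zpow_natCast, ← zpow_mul, mul_comm, zpow_mul, zpow_natCast, pow_self_of_order ht, one_zpow]
  have e7 : (s ^ i) ^ 7 = 1 := by
    rw [← zpow_natCast, ← zpow_mul, mul_comm, zpow_mul, zpow_natCast, pow_self_of_order hs, one_zpow]
  have e16 : (s ^ i) ^ 16 = 1 := by
    rwa [show (t ^ i) ^ 16 = 1 by rw [show 16 = 2 * 8 from rfl, pow_mul, e2, one_pow], one_mul] at h16
  have hs1 : s ^ i = 1 := orderOf_eq_one_iff.mp (Nat.dvd_one.mp
    (Nat.dvd_gcd (orderOf_dvd_of_pow_eq_one e7) (orderOf_dvd_of_pow_eq_one e16) : _ ∣ Nat.gcd 7 16))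
  rw [hs1, mul_one]
  rcases Int.even_or_odd i with ⟨j, rfl⟩ | ⟨j, rfl⟩
  · left
    rw [show j + j = 2 * j by ring, zpow_mul, zpow_two, sq_of_order ht, one_zpow]
  · right
    rw [zpow_add_one, zpow_mul, zpow_two, sq_of_order ht, one_zpow, one_mul]

/-- Conjugation by powers of an element of order seven meets every coset of the involution in the core. -/
theorem seven_cover {t s a b : G} (ht : orderOf t = 2) (hs : orderOf s = 7) (hst : s * t = t * s)
    (ha : a ∈ core t) (ha1 : a ≠ 1) (hat : a ≠ t) (hb : b ∈ core t) (hb1 : b ≠ 1) (hbt : b ≠ t) :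
    ∃ i : ℕ, s ^ i * a * (s ^ i)⁻¹ = b ∨ s ^ i * a * (s ^ i)⁻¹ = b * t := by
  classical
  have htt := sq_of_order ht
  have hsi : ∀ i : ℕ, s ^ i * t = t * s ^ i := fun i => ((show Commute s t from hst).pow_left i).eq
  have hconj_t : ∀ i : ℕ, s ^ i * t * (s ^ i)⁻¹ = t := fun i => by rw [hsi, mul_inv_cancel_right]
  -- no two powers give the same coset
  have key : ∀ i : ℕ, i % 7 ≠ 0 → s ^ i * a * (s ^ i)⁻¹ ≠ a ∧ s ^ i * a * (s ^ i)⁻¹ ≠ a * t := by
    intro i hi
    have hr : orderOf (s ^ i) = 7 := by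
      rw [Nat.Coprime.orderOf_pow, hs]
      rw [hs]
      exact (show Nat.Prime 7 by norm_num).coprime_iff_not_dvd.mpr fun h => hi (Nat.mod_eq_zero_of_dvd h)
    have h0 : s ^ i * a * (s ^ i)⁻¹ ≠ a := fun e => by
      rcases seven_fix F ht hr (hsi i) ha (mul_inv_eq_iff_eq_mul.mp e).symm with h | h
      exacts [ha1 h, hat h]
    refine ⟨h0, fun e => h0 ?_⟩
    set r := s ^ i with hr'
    have e2 : r * (r * a * r⁻¹) * r⁻¹ = a := by
      rw [e, show r * (a * t) * r⁻¹ = r * a * r⁻¹ * (r * t * r⁻¹) by group, e, hr', hconj_t, mul_assoc, htt, mul_one]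
    have hit : ∀ n : ℕ, r ^ (2 * n) * a * (r ^ (2 * n))⁻¹ = a := by
      intro n
      induction n with
      | zero => simp
      | succ n ih =>
        calc r ^ (2 * (n + 1)) * a * (r ^ (2 * (n + 1)))⁻¹
            = r * (r * (r ^ (2 * n) * a * (r ^ (2 * n))⁻¹) * r⁻¹) * r⁻¹ := by
              rw [show 2 * (n + 1) = 2 * n + 1 + 1 by ring, pow_succ', pow_succ']; group
          _ = a := by rw [ih, e2]
    have h := hit 4
    rwa [show 2 * 4 = 7 + 1 from rfl, pow_succ, ← hr, pow_orderOf_eq_one, one_mul] at h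
  let f : Fin 7 × Bool → G := fun p => s ^ (p.1 : ℕ) * a * (s ^ (p.1 : ℕ))⁻¹ * if p.2 then t else 1
  have hfmem : ∀ p, f p ∈ ((core t : Set G) \ {1, t}) := by
    intro p
    have h1 : s ^ (p.1 : ℕ) * a * (s ^ (p.1 : ℕ))⁻¹ ∈ core t := core_conj (hsi _) ha
    have h2 : (if p.2 then t else 1 : G) ∈ core t := by
      split
      exacts [mem_core_self F ht, one_mem _]
    refine ⟨mul_mem h1 h2, ?_⟩
    have hne : ∀ z : G, z * t = t * z → s ^ (p.1 : ℕ) * a * (s ^ (p.1 : ℕ))⁻¹ = z → z = 1 ∨ z = t → False := by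
      intro z _ e hz
      have e' : a = (s ^ (p.1 : ℕ))⁻¹ * z * s ^ (p.1 : ℕ) := by rw [← e]; group
      rcases hz with rfl | rfl
      · exact ha1 (by rw [e']; group)
      · exact hat (by rw [e', mul_assoc, ← hsi, inv_mul_cancel_left])
    rintro (h | h) <;> simp only [f] at h <;> split at h
    · exact hne t rfl (by rw [← mul_one (s ^ (p.1 : ℕ) * a * (s ^ (p.1 : ℕ))⁻¹), ← htt, ← mul_assoc, h, one_mul]) (Or.inr rfl)
    · exact hne 1 (by rw [one_mul, mul_one]) (by rwa [mul_one] at h) (Or.inl rfl)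
    · exact hne 1 (by rw [one_mul, mul_one]) (by
        rw [← mul_one (s ^ (p.1 : ℕ) * a * (s ^ (p.1 : ℕ))⁻¹), ← htt, ← mul_assoc, h, htt]) (Or.inl rfl)
    · exact hne t rfl (by rwa [mul_one] at h) (Or.inr rfl)
  have hinj : Function.Injective f := by
    have main : ∀ p q : Fin 7 × Bool, (p.1 : ℕ) ≤ (q.1 : ℕ) → f p = f q → p = q := by
      rintro ⟨i, c⟩ ⟨j, d⟩ hij e
      have hij' : i = j := by
        by_contra hne
        have hlt : (i : ℕ) < j := lt_of_le_of_ne hij fun h => hne (Fin.ext h)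
        obtain ⟨k1, k2⟩ := key ((j : ℕ) - i) (by omega)
        have e' : s ^ ((j : ℕ) - i) * a * (s ^ ((j : ℕ) - i))⁻¹ =
            a * ((if c then t else 1) * (if d then t else 1)) := by
          have hh := congrArg (fun z => (s ^ (i : ℕ))⁻¹ * z * s ^ (i : ℕ) * (if d then t else 1)) e
          simp only [f] at hh
          have hcomm : ∀ b : Bool, (if b then t else 1 : G) * s ^ (i : ℕ) = s ^ (i : ℕ) * (if b then t else 1) := by
            intro b; cases b
            · simp
            · simpa using (hsi _).symm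
          have hsq : (if d then t else 1 : G) * (if d then t else 1) = 1 := by cases d <;> simp [htt]
          calc s ^ ((j : ℕ) - i) * a * (s ^ ((j : ℕ) - i))⁻¹
              = (s ^ (i : ℕ))⁻¹ * (s ^ (j : ℕ) * a * (s ^ (j : ℕ))⁻¹) * s ^ (i : ℕ) := by
                rw [show (j : ℕ) = i + ((j : ℕ) - i) by omega, pow_add, Nat.add_sub_cancel_left]; group
            _ = (s ^ (i : ℕ))⁻¹ * (s ^ (j : ℕ) * a * (s ^ (j : ℕ))⁻¹ * (if d then t else 1)) * s ^ (i : ℕ) *
                (if d then t else 1) := by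
              have := hcomm d
              calc _ = (s ^ (i : ℕ))⁻¹ * (s ^ (j : ℕ) * a * (s ^ (j : ℕ))⁻¹) * s ^ (i : ℕ) *
                    ((if d then t else 1) * (if d then t else 1)) := by rw [hsq, mul_one]
                _ = (s ^ (i : ℕ))⁻¹ * (s ^ (j : ℕ) * a * (s ^ (j : ℕ))⁻¹) *
                    (s ^ (i : ℕ) * (if d then t else 1)) * (if d then t else 1) := by group
                _ = _ := by rw [← this]; group
            _ = (s ^ (i : ℕ))⁻¹ * (s ^ (i : ℕ) * a * (s ^ (i : ℕ))⁻¹ * (if c then t else 1)) * s ^ (i : ℕ) *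
                (if d then t else 1) := hh.symm
            _ = (s ^ (i : ℕ))⁻¹ * (s ^ (i : ℕ) * a * (s ^ (i : ℕ))⁻¹) * ((if c then t else 1) * s ^ (i : ℕ)) *
                (if d then t else 1) := by group
            _ = _ := by rw [hcomm c]; group
        cases c <;> cases d <;> simp [htt] at e'
        exacts [k1 e', k2 e', k2 e', k1 e']
      subst hij'
      refine Prod.ext rfl ?_
      have e' := mul_left_cancel e
      cases c <;> cases d <;> simp at e' ⊢
      exacts [(ne_one_of_order ht le_rfl) e'.symm, (ne_one_of_order ht le_rfl) e']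
    intro p q e
    rcases le_total (p.1 : ℕ) (q.1 : ℕ) with h | h
    exacts [main p q h e, (main q p h e.symm).symm]
  have hcard : ((core t : Set G) \ {1, t}).ncard = 14 := by
    rw [Set.ncard_sdiff (fun z hz => by rcases hz with rfl | rfl; exacts [one_mem _, mem_core_self F ht]),
      Set.ncard_pair (ne_one_of_order ht le_rfl).symm, ← Nat.card_coe_set_eq]
    exact congrArg (· - 2) (card_core F ht)
  have himg : Set.range f = (core t : Set G) \ {1, t} := by
    refine Set.eq_of_subset_of_ncard_le (by rintro _ ⟨p, rfl⟩; exact hfmem p) ?_ (Set.toFinite _)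
    rw [hcard, ← Nat.card_coe_set_eq, Nat.card_range_of_injective hinj]
    simp
  obtain ⟨⟨i, c⟩, hp⟩ : b ∈ Set.range f := by rw [himg]; exact ⟨hb, by rintro (h | h); exacts [hb1 h, hbt h]⟩
  refine ⟨i, ?_⟩
  cases c
  · exact Or.inl (by simpa [f] using hp)
  · refine Or.inr ?_
    rw [← hp]
    simp [f, mul_assoc, htt]

/-- The core of the centraliser of an involution is elementary abelian. -/
theorem core_sq {t q : G} (ht : orderOf t = 2) (hq : q ∈ core t) : q * q = 1 := by
  classical
  obtain ⟨s, hs, hst⟩ := exists_seven F ht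
  have htt := sq_of_order ht
  by_contra hne
  have hq1 : q ≠ 1 := fun e => hne (by rw [e, one_mul])
  have hqt : q ≠ t := fun e => hne (by rw [e, htt])
  -- all squares outside the involution agree
  have h16 := pow_card_of_mem (card_core F ht) hq
  obtain ⟨a, ha, ha1, hat, haT⟩ : ∃ a ∈ core t, a ≠ 1 ∧ a ≠ t ∧ (a * a = 1 ∨ a * a = t) := by
    by_cases h2 : q * q = 1 ∨ q * q = t
    · exact ⟨q, hq, hq1, hqt, h2⟩
    by_cases h4 : q ^ 4 = 1 ∨ q ^ 4 = t
    · refine ⟨q * q, mul_mem hq hq, fun e => h2 (Or.inl e), fun e => h2 (Or.inr e), ?_⟩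
      rwa [← pow_two, ← pow_two, ← pow_mul]
    by_cases h8 : q ^ 8 = 1 ∨ q ^ 8 = t
    · refine ⟨q ^ 4, pow_mem hq 4, fun e => h4 (Or.inl e), fun e => h4 (Or.inr e), ?_⟩
      rwa [← pow_two, ← pow_mul]
    refine ⟨q ^ 8, pow_mem hq 8, fun e => h8 (Or.inl e), fun e => h8 (Or.inr e), Or.inl ?_⟩
    rw [← pow_two, ← pow_mul, h16]
  have hsq : ∀ b ∈ core t, b ≠ 1 → b ≠ t → b * b = a * a := by
    intro b hb hb1 hbt
    obtain ⟨i, h⟩ := seven_cover F ht hs hst ha ha1 hat hb hb1 hbt
    have hs2 : s ^ i * (a * a) * (s ^ i)⁻¹ = a * a := by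
      rcases haT with e | e <;> rw [e]
      · group
      · rw [((show Commute s t from hst).pow_left i).eq, mul_inv_cancel_right]
    have e : (s ^ i * a * (s ^ i)⁻¹) * (s ^ i * a * (s ^ i)⁻¹) = a * a := by
      rw [← hs2]; group
    rcases h with h | h
    · rwa [h] at e
    · rw [h, show b * t * (b * t) = b * (t * b) * t by group, ← cen_core_comm hb, ← mul_assoc, mul_assoc (b * b),
        htt, mul_one] at e
      exact e
  have hqqt : a * a = t := haT.resolve_left fun e => hne (by rw [hsq q hq hq1 hqt, e])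
  have hinv : ∀ a ∈ core t, a ≠ 1 → a ≠ t → a⁻¹ = a * t := fun a ha h1 h2 => by
    rw [inv_eq_iff_mul_eq_one, ← mul_assoc, hsq a ha h1 h2, hqqt, htt]
  have hne_comm : ∀ a ∈ core t, ∀ b ∈ core t, a ≠ 1 → a ≠ t → b ≠ 1 → b ≠ t → a * b ≠ 1 → a * b ≠ t →
      b * a = a * b * t := by
    intro a ha b hb a1 a2 b1 b2 ab1 ab2
    have h := hsq _ (mul_mem ha hb) ab1 ab2
    rw [hqqt] at h
    calc b * a = a⁻¹ * (a * b * (a * b)) * b⁻¹ := by group
      _ = a * t * t * (b * t) := by rw [h, hinv a ha a1 a2, hinv b hb b1 b2]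
      _ = a * b * t := by rw [mul_assoc a t t, htt, mul_one, mul_assoc]
  -- two independent elements outside
  have hcardc : Nat.card (core t) = 16 := card_core F ht
  obtain ⟨b, hb, hbS⟩ : ∃ b ∈ core t, b ∉ ({1, t, q, q * t} : Finset G) := by
    by_contra h
    push Not at h
    have := Set.ncard_le_ncard (show (core t : Set G) ⊆ (({1, t, q, q * t} : Finset G) : Set G) from h)
      (Finset.finite_toSet _)
    rw [← Nat.card_coe_set_eq, Set.ncard_coe_finset] at this
    have h4 : ({1, t, q, q * t} : Finset G).card ≤ 4 := Finset.card_le_four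
    have : 16 ≤ 4 := hcardc ▸ this.trans h4
    omega
  obtain ⟨c, hc, hcS⟩ : ∃ c ∈ core t, c ∉ ({1, t, q, q * t, b, b * t, q * b, q * b * t} : Finset G) := by
    by_contra h
    push Not at h
    have := Set.ncard_le_ncard
      (show (core t : Set G) ⊆ (({1, t, q, q * t, b, b * t, q * b, q * b * t} : Finset G) : Set G) from h)
      (Finset.finite_toSet _)
    rw [← Nat.card_coe_set_eq, Set.ncard_coe_finset] at this
    have h8 : ({1, t, q, q * t, b, b * t, q * b, q * b * t} : Finset G).card ≤ 8 := by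
      refine (Finset.card_insert_le _ _).trans (Nat.succ_le_succ ?_)
      refine (Finset.card_insert_le _ _).trans (Nat.succ_le_succ ?_)
      refine (Finset.card_insert_le _ _).trans (Nat.succ_le_succ ?_)
      refine (Finset.card_insert_le _ _).trans (Nat.succ_le_succ ?_)
      refine (Finset.card_insert_le _ _).trans (Nat.succ_le_succ ?_)
      refine (Finset.card_insert_le _ _).trans (Nat.succ_le_succ ?_)
      refine (Finset.card_insert_le _ _).trans (Nat.succ_le_succ ?_)
      exact (Finset.card_singleton _).le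
    have : 16 ≤ 8 := hcardc ▸ this.trans h8
    omega
  simp only [Finset.mem_insert, Finset.mem_singleton, not_or] at hbS hcS
  obtain ⟨b1, b2, bq, bqt⟩ := hbS
  obtain ⟨c1, c2, cq, cqt, cb, cbt, cqb, cqbt⟩ := hcS
  have hprod : ∀ a z : G, a ∈ core t → a ≠ 1 → a ≠ t → z ≠ a → z ≠ a * t → a * z ≠ 1 ∧ a * z ≠ t := by
    intro a z ha h1 h2 h3 h4
    constructor <;> intro e
    · exact h4 ((eq_inv_of_mul_eq_one_right e).trans (hinv a ha h1 h2))
    · refine h3 ?_
      rw [eq_inv_mul_of_mul_eq e, hinv a ha h1 h2, mul_assoc, htt, mul_one]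
  obtain ⟨qb1, qb2⟩ := hprod q b hq hq1 hqt bq bqt
  obtain ⟨qc1, qc2⟩ := hprod q c hq hq1 hqt cq cqt
  obtain ⟨bc1, bc2⟩ := hprod b c hb b1 b2 cb cbt
  obtain ⟨qbc1, qbc2⟩ := hprod (q * b) c (mul_mem hq hb) qb1 qb2 cqb cqbt
  have h1 := hne_comm q hq b hb hq1 hqt b1 b2 qb1 qb2
  have h2 := hne_comm q hq c hc hq1 hqt c1 c2 qc1 qc2
  rw [mul_assoc] at qbc1 qbc2
  have h3 := hne_comm q hq (b * c) (mul_mem hb hc) hq1 hqt bc1 bc2 qbc1 qbc2
  have h4 : b * c * q = q * (b * c) := by
    calc b * c * q = b * (c * q) := mul_assoc _ _ _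
      _ = b * q * (c * t) := by rw [h2]; group
      _ = q * b * (t * c) * t := by rw [h1]; group
      _ = q * b * c * (t * t) := by rw [← cen_core_comm hc]; group
      _ = q * (b * c) := by rw [htt, mul_one, mul_assoc]
  rw [h4] at h3
  exact ne_one_of_order ht le_rfl (mul_eq_left.mp h3.symm)

theorem core_comm {t a b : G} (ht : orderOf t = 2) (ha : a ∈ core t) (hb : b ∈ core t) : a * b = b * a := by
  have h1 := core_sq F ht ha
  have h2 := core_sq F ht hb
  have h3 := core_sq F ht (mul_mem ha hb)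
  calc a * b = a * (a * b * (a * b)) * b := by rw [h3, mul_one]
    _ = (a * a) * (b * a) * (b * b) := by group
    _ = b * a := by rw [h1, h2, one_mul, mul_one]

theorem inv_core {t a : G} (ht : orderOf t = 2) (ha : a ∈ core t) : a⁻¹ = a :=
  inv_eq_iff_mul_eq_one.mpr (core_sq F ht ha)

theorem order_core {t a : G} (ht : orderOf t = 2) (ha : a ∈ core t) (h1 : a ≠ 1) : orderOf a = 2 :=
  order_of_sq (core_sq F ht ha) h1

/-- The core is its own centraliser in the centraliser. -/
theorem cen_core {t u : G} (ht : orderOf t = 2) (hu : ∀ a ∈ core t, u * a = a * u) : u ∈ core t := by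
  have hut : u * t = t * u := hu t (mem_core_self F ht)
  set L := Subgroup.centralizer (core t : Set G) with hL
  have hLC : L ≤ cen t := fun l hl =>
    mem_cen.mpr (Subgroup.mem_centralizer_iff.mp hl t (mem_core_self F ht)).symm
  have hCL : core t ≤ L := fun a ha => Subgroup.mem_centralizer_iff.mpr fun b hb => core_comm F ht hb ha
  rcases core_cases F ht hCL hLC (fun c hc l hl => Subgroup.mem_centralizer_iff.mpr fun b hb => by
      have hb' : c⁻¹ * b * c ∈ core t := by
        have := core_conj (t := t) (show c⁻¹ * t = t * c⁻¹ from mem_cen.mp ((cen t).inv_mem hc)) hb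
        rwa [inv_inv] at this
      have h := Subgroup.mem_centralizer_iff.mp hl _ hb'
      calc b * (c * l * c⁻¹) = c * (c⁻¹ * b * c * l) * c⁻¹ := by group
        _ = c * l * c⁻¹ * b := by rw [h]; group) with h | h
  · rw [← h]
    exact Subgroup.mem_centralizer_iff.mpr fun a ha => (hu a ha).symm
  · exfalso
    obtain ⟨s, hs, hst⟩ := exists_seven F ht
    have hsL : s ∈ L := h ▸ mem_cen.mpr hst
    obtain ⟨a, ha, ha'⟩ : ∃ a ∈ core t, a ∉ ({1, t} : Set G) := by
      by_contra hc
      push Not at hc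
      have := Set.ncard_le_ncard (show (core t : Set G) ⊆ ({1, t} : Set G) from hc) (Set.toFinite _)
      rw [← Nat.card_coe_set_eq, Set.ncard_pair (ne_one_of_order ht le_rfl).symm] at this
      have : 16 ≤ 2 := (card_core F ht) ▸ this
      omega
    exact ha' (seven_fix F ht hs hst ha (Subgroup.mem_centralizer_iff.mp hsL a ha))

/-- An element of order three fixes a four-group in the core. -/
theorem card_core_inf_cen {t x : G} (ht : orderOf t = 2) (hx : orderOf x = 3) (hxt : x * t = t * x) :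
    Nat.card ↥(core t ⊓ cen x) = 4 := by
  have hd1 := Subgroup.card_dvd_of_le (inf_le_left : core t ⊓ cen x ≤ _)
  have hd2 := Subgroup.card_dvd_of_le (inf_le_right : core t ⊓ cen x ≤ _)
  rw [card_core F ht] at hd1
  rw [show cen x = Subgroup.centralizer ({x} : Set G) from rfl, F.card_three x hx] at hd2
  have h4 : Nat.card ↥(core t ⊓ cen x) ∣ 4 := (Nat.dvd_gcd hd1 hd2 : _ ∣ Nat.gcd 16 180)
  have hmod := card_mod_fixed Nat.prime_three (pow_self_of_order hx) (core t) fun k hk => core_conj hxt hk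
  rw [card_core F ht] at hmod
  have hne : Nat.card ↥(core t ⊓ cen x) ≠ 1 := fun h1 => by
    have := (Nat.card_eq_one_iff_unique.mp h1).1.elim (⟨t, mem_core_self F ht, mem_cen.mpr hxt.symm⟩ :
      ↥(core t ⊓ cen x)) 1
    exact ne_one_of_order ht le_rfl (congrArg Subtype.val this)
  have := Nat.le_of_dvd (by norm_num) h4
  interval_cases h : Nat.card ↥(core t ⊓ cen x) <;> simp_all [Nat.ModEq]

/-- A 2-element centralising the involution and an element of order three lies in the core. -/
theorem two_mem_core {t x u : G} (ht : orderOf t = 2) (hx : orderOf x = 3) (hxt : x * t = t * x)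
    (hut : u * t = t * u) (hux : u * x = x * u) (h2 : u ^ 128 = 1) : u ∈ core t := by
  set D := cen t ⊓ cen x with hD
  set W := (core t ⊓ cen x).subgroupOf D with hW
  have hD12 : Nat.card D ∣ 12 := by
    have hd1 := Subgroup.card_dvd_of_le (inf_le_left : D ≤ _)
    have hd2 := Subgroup.card_dvd_of_le (inf_le_right : D ≤ _)
    rw [show cen t = Subgroup.centralizer ({t} : Set G) from rfl, F.card_invol t ht] at hd1
    rw [show cen x = Subgroup.centralizer ({x} : Set G) from rfl, F.card_three x hx] at hd2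
    exact (Nat.dvd_gcd hd1 hd2 : _ ∣ Nat.gcd 2688 180)
  have hle : core t ⊓ cen x ≤ D := inf_le_inf_right _ (core_le t)
  have hW4 : Nat.card W = 4 := by
    rw [hW, Nat.card_congr (Subgroup.subgroupOfEquivOfLe hle).toEquiv, card_core_inf_cen F ht hx hxt]
  haveI : W.Normal := ⟨fun a ha g => ⟨core_conj (mem_cen.mp g.2.1) ha.1,
    (cen x).mul_mem ((cen x).mul_mem g.2.2 ha.2) ((cen x).inv_mem g.2.2)⟩⟩
  have hidx : W.index ∣ 3 := by
    have h := W.index_mul_card
    rw [hW4] at h
    rw [← h] at hD12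
    exact Nat.dvd_of_mul_dvd_mul_right (by norm_num : 0 < 4) hD12
  set u' : D := ⟨u, mem_cen.mpr hut, mem_cen.mpr hux⟩ with hu'
  obtain ⟨k, hk⟩ := hidx
  have h3 : u' ^ 3 ∈ W := by
    rw [hk, pow_mul]
    exact W.pow_mem (W.pow_index_mem u') k
  have h3' : u ^ 3 ∈ core t := h3.1
  have : u = (u ^ 3) ^ 43 := by rw [← pow_mul, show 3 * 43 = 128 + 1 from rfl, pow_succ, h2, one_mul]
  rw [this]
  exact pow_mem h3' 43

/-- The member of the core commuting with `x` determine the same four-group. -/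
theorem mem_core_symm {t v x : G} (ht : orderOf t = 2) (hv : orderOf v = 2) (hx : orderOf x = 3)
    (hxt : x * t = t * x) (hxv : x * v = v * x) (htv : t * v = v * t) : t ∈ core v :=
  two_mem_core F hv hx hxv htv hxt.symm
    (by rw [show 128 = 2 * 64 from rfl, pow_mul, pow_two, sq_of_order ht, one_pow])

/-- Two cores sharing a four-group meet in it unless they are equal. -/
theorem core_inter {t v x : G} (ht : orderOf t = 2) (hv : orderOf v = 2) (hx : orderOf x = 3)
    (hxt : x * t = t * x) (hxv : x * v = v * x) (htv : t * v = v * t) (hne : core t ≠ core v) {z : G}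
    (hz1 : z ∈ core t) (hz2 : z ∈ core v) : z * x = x * z := by
  set I := core t ⊓ core v with hI
  have hd := Subgroup.card_dvd_of_le (inf_le_left : I ≤ core t)
  rw [card_core F ht] at hd
  have hne16 : Nat.card I ≠ 16 := fun h => hne (by
    have e1 : I = core t := Subgroup.eq_of_le_of_card_ge inf_le_left (by rw [h, card_core F ht])
    have e2 : I = core v := Subgroup.eq_of_le_of_card_ge inf_le_right (by rw [h, card_core F hv])
    rw [← e1, e2])
  have hWle : core t ⊓ cen x ≤ I ⊓ cen x := by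
    intro w hw
    refine ⟨⟨hw.1, ?_⟩, hw.2⟩
    exact two_mem_core F hv hx hxv
      (core_comm F ht hw.1 (mem_core_symm F hv ht hx hxv hxt htv.symm))
      (mem_cen.mp hw.2) (core_pow F ht hw.1)
  have hWc : Nat.card ↥(I ⊓ cen x) = 4 := by
    refine le_antisymm ?_ (card_core_inf_cen F ht hx hxt ▸ Subgroup.card_le_of_le hWle)
    exact card_core_inf_cen F ht hx hxt ▸ Subgroup.card_le_of_le (inf_le_inf_right _ inf_le_left)
  have hmod := card_mod_fixed Nat.prime_three (pow_self_of_order hx) I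
    fun k hk => ⟨core_conj hxt hk.1, core_conj hxv hk.2⟩
  rw [show Subgroup.centralizer ({x} : Set G) = cen x from rfl, hWc] at hmod
  have h4 : Nat.card I = 4 := by
    obtain ⟨i, hi, hI'⟩ := (Nat.dvd_prime_pow Nat.prime_two).mp (show Nat.card I ∣ 2 ^ 4 from hd)
    rw [hI'] at hmod hne16 ⊢
    have hge := Subgroup.card_le_of_le (inf_le_left : I ⊓ cen x ≤ I)
    rw [hWc, hI'] at hge
    interval_cases i <;> simp_all [Nat.ModEq]
  have hIx : I ⊓ cen x = I := Subgroup.eq_of_le_of_card_ge inf_le_left (by rw [hWc, h4])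
  exact mem_cen.mp (hIx.ge ⟨hz1, hz2⟩).2

end CfsgLib.M23Order
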