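import Cfsg.Agent.Lib.M23Order.Counts
import Cfsg.Agent.Lib.M23Order.Points
import Cfsg.Agent.Lib.Golay.MathieuFacts
import Cfsg.Prelude.Def_Spor_Mathieu

/-!
# The element-order counts of M23 at the prime 23
-/

set_option autoImplicit false
set_option linter.unusedSectionVars false
set_option linter.style.haveILetI false

namespace CfsgLib.M23Order

open Cfsg CfsgLib

theorem natCard_M23 : Nat.card ↥Cfsg.Spor.M23 = 10200960 := by
  rw [← Nat.card_congr (Golay.conjEquiv (K := Cfsg.Spor.M23) inf_le_left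
    (MulAction.stabilizer M24 (none : GolayPt)) (one_mem M24) fun x => by
      simp only [inv_one, one_mul, mul_one, Subgroup.mem_inf, Cfsg.Spor.M23,
        MulAction.mem_stabilizer_iff, SetLike.coe_mem, true_and]
      rfl).toEquiv, Golay.natCard_stab_point]

theorem card_cen_twentythree {v : ↥Cfsg.Spor.M23} (hv : orderOf v = 23) :
    Nat.card ↥(cen v) = 23 := by
  classical
  set σ : Equiv.Perm GolayPt := (v : Equiv.Perm GolayPt) with hσ
  have hσo : orderOf σ = 23 := by rw [hσ, Subgroup.orderOf_coe, hv]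
  obtain ⟨n, hn⟩ := Equiv.Perm.cycleType_prime_order (σ := σ) (by rw [hσo]; norm_num)
  have hcard : Fintype.card GolayPt = 24 := by simp [GolayPt, Fintype.card_option, ZMod.card]
  have hn0 : n = 0 := by
    have h := σ.sum_cycleType
    rw [hn, Multiset.sum_replicate, hσo, smul_eq_mul] at h
    have := σ.support.card_le_univ
    omega
  subst hn0
  have hP : Nat.card ↥(Subgroup.centralizer ({σ} : Set (Equiv.Perm GolayPt))) = 23 := by
    rw [Equiv.Perm.nat_card_centralizer, hn, hcard, hσo]
    rfl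
  refine Nat.dvd_antisymm ?_ (hv ▸ Subgroup.orderOf_dvd_natCard _ (mem_cen.mpr rfl))
  rw [← hP]
  have hle : (cen v).map Cfsg.Spor.M23.subtype ≤ Subgroup.centralizer ({σ} : Set (Equiv.Perm GolayPt)) := by
    rintro _ ⟨a, ha, rfl⟩
    exact mem_cen.mpr (congrArg Subtype.val (mem_cen.mp ha))
  rw [Nat.card_congr ((cen v).equivMapOfInjective _ Cfsg.Spor.M23.subtype_injective).toEquiv]
  exact Subgroup.card_dvd_of_le hle

/-- The counts of `M₂₃`: only the count of the elements of order `23` is not a multiple of `23`, besides `1`. -/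
theorem m23_counts (n : ℕ) :
    Nat.card {g : ↥Cfsg.Spor.M23 // orderOf g = n} = 1 ∨ Nat.card {g : ↥Cfsg.Spor.M23 // orderOf g = n} = 887040 ∨
      23 ∣ Nat.card {g : ↥Cfsg.Spor.M23 // orderOf g = n} := by
  classical
  haveI : Fact (Nat.Prime 23) := ⟨by norm_num⟩
  have hn := natCard_M23
  rcases eq_or_ne n 1 with rfl | hn1
  · left
    exact Nat.card_eq_one_iff_exists.mpr ⟨⟨1, orderOf_one⟩, fun g => Subtype.ext (orderOf_eq_one_iff.mp g.2)⟩
  obtain ⟨v, hv⟩ := exists_prime_orderOf_dvd_card' (G := ↥Cfsg.Spor.M23) 23 (by rw [hn]; norm_num)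
  rcases eq_or_ne n 23 with rfl | hn23
  · right; left
    have hS : ∀ P : Sylow 23 ↥Cfsg.Spor.M23, Nat.card (P : Subgroup ↥Cfsg.Spor.M23) = 23 :=
      card_sylow_twentythree (m := 443520) (hn.trans (by norm_num)) (by norm_num)
    rw [SmallOrder.card_orderOf_eq_prime hS]
    obtain ⟨d, m, hd, hm, h1, h2⟩ := card_norm_prime (K := (⊤ : Subgroup ↥Cfsg.Spor.M23)) (by norm_num) hv
      (Subgroup.mem_top v) (by rw [Subgroup.card_top, hn]; norm_num)
    rw [top_inf_eq] at h1 h2
    rw [top_inf_eq, card_cen_twentythree hv] at h1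
    rw [Subgroup.card_top, hn, h1] at h2
    have hd' := Nat.le_of_dvd (by norm_num) hd
    have hd11 : d = 11 := by interval_cases d <;> omega
    subst hd11
    have hY : Nat.card (Subgroup.zpowers v) = 23 := by rw [Nat.card_zpowers, hv]
    obtain ⟨P, hP⟩ := (IsPGroup.of_card (n := 1) (by rw [hY, pow_one]) :
      IsPGroup 23 (Subgroup.zpowers v)).exists_le_sylow
    have heq : Subgroup.zpowers v = (P : Subgroup ↥Cfsg.Spor.M23) :=
      Subgroup.eq_of_le_of_card_ge hP (by rw [hS P, hY])
    have hidx := (norZ v).index_mul_card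
    rw [h1, hn] at hidx
    rw [P.card_eq_index_normalizer]
    have : (norZ v).index = 40320 := by omega
    change (Subgroup.normalizer (((P : Subgroup ↥Cfsg.Spor.M23)) : Set ↥Cfsg.Spor.M23)).index * (23 - 1) = 887040
    rw [← heq]
    change (norZ v).index * (23 - 1) = 887040
    rw [this]
  right; right
  let α := {g : ↥Cfsg.Spor.M23 // orderOf g = n}
  let f : Function.End α := fun g => ⟨v * g * v⁻¹, by rw [order_conj, g.2]⟩
  have hiter : ∀ k (g : α), ((f^[k]) g : ↥Cfsg.Spor.M23) = v ^ k * g * (v ^ k)⁻¹ := by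
    intro k
    induction k with
    | zero => intro g; show (g : ↥Cfsg.Spor.M23) = _; simp
    | succ k ih =>
      intro g
      rw [Function.iterate_succ_apply']
      show v * (f^[k] g : ↥Cfsg.Spor.M23) * v⁻¹ = _
      rw [ih, pow_succ']
      group
  letI : Fintype α := Fintype.ofFinite α
  have h := Equiv.Perm.card_fixedPoints_modEq (α := α) (f := f) (p := 23) (n := 1) (by
    funext g
    refine Subtype.ext ?_
    show ((f^[23 ^ 1]) g : ↥Cfsg.Spor.M23) = (g : ↥Cfsg.Spor.M23)
    rw [pow_one, hiter, pow_self_of_order hv, one_mul, inv_one, mul_one])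
  haveI : IsEmpty (Function.fixedPoints f) := ⟨fun z => by
    have hz : v * (z.1.1 : ↥Cfsg.Spor.M23) * v⁻¹ = z.1.1 := congrArg Subtype.val z.2
    have hd := Subgroup.orderOf_dvd_natCard (cen v) (mem_cen.mpr (mul_inv_eq_iff_eq_mul.mp hz).symm)
    rw [card_cen_twentythree hv, z.1.2] at hd
    rcases (Nat.dvd_prime (by norm_num)).mp hd with e | e
    · exact hn1 e
    · exact hn23 e⟩
  rw [← Nat.card_eq_fintype_card, ← Nat.card_eq_fintype_card, Nat.card_of_isEmpty (α := Function.fixedPoints f)] at h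
  exact Nat.modEq_zero_iff_dvd.mp h

/-- A group with the order and the counts of `M₂₃` is simple. -/
theorem isSimple_of_nse {G : Type*} [Group G] [Finite G] (hcard : Nat.card G = Nat.card ↥Cfsg.Spor.M23)
    (hnse : {c : ℕ | 0 < c ∧ ∃ n : ℕ, c = Nat.card {g : G // orderOf g = n}} =
      {c : ℕ | 0 < c ∧ ∃ n : ℕ, c = Nat.card {g : ↥Cfsg.Spor.M23 // orderOf g = n}}) : IsSimpleGroup G :=
  isSimple_of_counts (hcard.trans natCard_M23) fun n hpos => by
    obtain ⟨-, m, hm⟩ := Set.ext_iff.mp hnse (Nat.card {g : G // orderOf g = n}) |>.mp ⟨hpos, n, rfl⟩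
    rw [hm]
    exact m23_counts m

end CfsgLib.M23Order
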