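import Cfsg.Agent.Lib.M23Order.Cycle
import Cfsg.Agent.S0984

/-!
# Simple groups of order 10200960: the normaliser of a sixteen
-/

set_option autoImplicit false
set_option linter.unusedSectionVars false
set_option linter.style.haveILetI false

namespace CfsgLib.M23Order

open Cfsg CfsgLib

universe u

variable {G : Type u} [Group G] [Finite G]

/-- The normaliser of the core of the centraliser of an element. -/
abbrev nor (t : G) : Subgroup G := Subgroup.normalizer (core t : Set G)

theorem conj_range_mem_iff {H : Subgroup G} {t z : G} :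
    z ∈ (Set.range fun h : H => (h : G) * t * (h : G)⁻¹) ↔ ∃ h ∈ H, h * t * h⁻¹ = z :=
  ⟨fun ⟨h, e⟩ => ⟨h, h.2, e⟩, fun ⟨h, hh, e⟩ => ⟨⟨h, hh⟩, e⟩⟩

variable (F : Facts G)
include F

theorem mem_nor {t g : G} (ht : orderOf t = 2) (hg : g * t * g⁻¹ ∈ core t) : g ∈ nor t := by
  refine mem_norm fun k hk => ?_
  rw [← core_eq F ht hg fun e => ne_one_of_order ht le_rfl (conj_eq_one_iff.mp e)]
  exact conj_mem_core hk

theorem nor_conj {t g : G} (ht : orderOf t = 2) (hg : g ∈ nor t) : g * t * g⁻¹ ∈ core t :=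
  norm_conj hg (mem_core_self F ht)

theorem cen_le_nor {t e : G} (ht : orderOf t = 2) (he : e ∈ core t) (he1 : e ≠ 1) : cen e ≤ nor t := by
  intro c hc
  refine mem_norm fun k hk => ?_
  rw [← core_eq F ht he he1] at hk ⊢
  exact core_conj (mem_cen.mp hc) hk

theorem core_le_nor {t : G} (ht : orderOf t = 2) : core t ≤ nor t :=
  fun _ hk => cen_le_nor F ht (mem_core_self F ht) (ne_one_of_order ht le_rfl) (core_le t hk)

/-- Two cores with a common involution are equal. -/
theorem core_ti {t t' e : G} (ht : orderOf t = 2) (ht' : orderOf t' = 2) (h : e ∈ core t) (h' : e ∈ core t')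
    (he : e ≠ 1) : core t = core t' :=
  (core_eq F ht h he).symm.trans (core_eq F ht' h' he)

theorem nor_trans {t e : G} (ht : orderOf t = 2) (he : e ∈ core t) (he1 : e ≠ 1) :
    ∃ n ∈ nor t, n * t * n⁻¹ = e := by
  rcases eq_or_ne e t with rfl | het
  · exact ⟨1, one_mem _, by group⟩
  obtain ⟨x, hx, hxt, hxe⟩ := exists_order_three F (t := t) (v := e) (by
    rw [card_cen_two F ht he he1 het]; norm_num)
  obtain ⟨w, -, hwt, -⟩ := exists_cycle F ht he he1 het hx hxt hxe
  exact ⟨w, mem_nor F ht (by rw [hwt]; exact he), hwt⟩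

theorem card_nor {t : G} (ht : orderOf t = 2) : Nat.card (nor t) = 40320 := by
  have horb : (Set.range fun n : nor t => (n : G) * t * (n : G)⁻¹) = (core t : Set G) \ {1} := by
    ext z
    rw [conj_range_mem_iff]
    constructor
    · rintro ⟨n, hn, rfl⟩
      exact ⟨nor_conj F ht hn, fun e => ne_one_of_order ht le_rfl (conj_eq_one_iff.mp e)⟩
    · rintro ⟨hz, hz1⟩
      exact nor_trans F ht hz hz1
  have h := card_conj_range (nor t) t
  rw [horb, Set.ncard_sdiff (Set.singleton_subset_iff.mpr (one_mem _)), Set.ncard_singleton,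
    ← Nat.card_coe_set_eq, show Nat.card ↥(core t : Set G) = 16 from card_core F ht,
    inf_eq_right.mpr (cen_le_nor F ht (mem_core_self F ht) (ne_one_of_order ht le_rfl)),
    show Nat.card (cen t) = 2688 from F.card_invol t ht] at h
  exact h.symm

theorem index_nor {t : G} (ht : orderOf t = 2) : (nor t).index = 253 := by
  have h := (nor t).index_mul_card
  rw [card_nor F ht, F.card] at h
  omega

theorem self_cen {t g : G} (ht : orderOf t = 2) (hg : ∀ a ∈ core t, g * a = a * g) : g ∈ core t :=
  cen_core F ht hg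

/-- No proper normal subgroup of the normaliser lies above the sixteen. -/
theorem nor_normal_cases {t : G} (ht : orderOf t = 2) {L : Subgroup G} (h1 : core t ≤ L) (h2 : L ≤ nor t)
    (hn : ∀ c ∈ nor t, ∀ l ∈ L, c * l * c⁻¹ ∈ L) : L = core t ∨ L = nor t := by
  have htE := mem_core_self F ht
  have hCN : cen t ≤ nor t := cen_le_nor F ht htE (ne_one_of_order ht le_rfl)
  have htrans : ∀ {a b : G}, a ∈ core t → a ≠ 1 → b ∈ core t → b ≠ 1 → a ≠ t → b ≠ t →
      ∃ c ∈ cen t, c * a * c⁻¹ = b := fun ha a1 hb b1 at' bt => by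
    obtain ⟨c, hc, e⟩ := core_trans F ht ha a1 at' hb b1 bt
    exact ⟨c, mem_cen.mpr hc, e⟩
  have hLn : ∀ c ∈ cen t, ∀ l ∈ L ⊓ cen t, c * l * c⁻¹ ∈ L ⊓ cen t := fun c hc l hl =>
    ⟨hn c (hCN hc) l hl.1, (cen t).mul_mem ((cen t).mul_mem hc hl.2) ((cen t).inv_mem hc)⟩
  rcases core_cases F ht (L := L ⊓ cen t) (le_inf h1 (core_le t)) inf_le_right hLn with h | h
  · -- the orbit of the involution
    set O : Set G := Set.range fun l : L => (l : G) * t * (l : G)⁻¹ with hO
    have hcard := card_conj_range L t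
    rw [h, card_core F ht] at hcard
    have hOsub : O ⊆ (core t : Set G) \ {1} := by
      rintro _ ⟨l, rfl⟩
      exact ⟨nor_conj F ht (h2 l.2), fun e => ne_one_of_order ht le_rfl (conj_eq_one_iff.mp e)⟩
    by_cases hone : ∀ z ∈ O, z = t
    · left
      refine le_antisymm (fun l hl => ?_) h1
      have : (l : G) * t * l⁻¹ = t := hone _ ⟨⟨l, hl⟩, rfl⟩
      exact h.le ⟨hl, mem_cen.mpr (mul_inv_eq_iff_eq_mul.mp this)⟩
    · exfalso
      push Not at hone
      obtain ⟨z, hz, hzt⟩ := hone
      have hall : O = (core t : Set G) \ {1} := by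
        refine Set.Subset.antisymm hOsub fun e he => ?_
        rcases eq_or_ne e t with rfl | het
        · exact ⟨1, by simp⟩
        obtain ⟨l, rfl⟩ := hz
        obtain ⟨c, hc, rfl⟩ := htrans (hOsub ⟨l, rfl⟩).1 (hOsub ⟨l, rfl⟩).2 he.1 he.2 hzt het
        refine ⟨⟨c * l * c⁻¹, hn c (hCN hc) l l.2⟩, ?_⟩
        show c * l * c⁻¹ * t * (c * l * c⁻¹)⁻¹ = c * ((l : G) * t * (l : G)⁻¹) * c⁻¹
        calc c * l * c⁻¹ * t * (c * l * c⁻¹)⁻¹ = c * l * (c⁻¹ * t * c) * (l : G)⁻¹ * c⁻¹ := by group
          _ = c * l * t * (l : G)⁻¹ * c⁻¹ := by rw [mul_assoc c⁻¹, ← mem_cen.mp hc, inv_mul_cancel_left]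
          _ = _ := by group
      have h15 : O.ncard = 15 := by
        rw [hall, Set.ncard_sdiff (Set.singleton_subset_iff.mpr (one_mem _)), Set.ncard_singleton,
          ← Nat.card_coe_set_eq]
        exact congrArg (· - 1) (card_core F ht)
      rw [← hO, h15] at hcard
      obtain ⟨s, hs, hst⟩ := exists_seven F ht
      exact false_of_seven F hs L (fun k hk => hn s (hCN (mem_cen.mpr hst)) k hk) (by rw [← hcard]; norm_num)
        (by rw [← hcard]; norm_num)
  · right
    have hCL : cen t ≤ L := h.ge.trans inf_le_left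
    have hall : ∀ e ∈ core t, e ≠ 1 → cen e ≤ L := by
      intro e he he1 c hc
      obtain ⟨n, hnN, rfl⟩ := nor_trans F ht he he1
      have hmem : n⁻¹ * c * n ∈ cen t := mem_cen.mpr (by
        calc n⁻¹ * c * n * t = n⁻¹ * (c * (n * t * n⁻¹)) * n := by group
          _ = t * (n⁻¹ * c * n) := by rw [mem_cen.mp hc]; group)
      have := hn n hnN _ (hCL hmem)
      rwa [show n * (n⁻¹ * c * n) * n⁻¹ = c by group] at this
    have htr : ∀ e ∈ core t, e ≠ 1 → ∃ l ∈ L, l * t * l⁻¹ = e := by
      intro e he he1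
      rcases eq_or_ne e t with rfl | het
      · exact ⟨1, one_mem _, by group⟩
      obtain ⟨f, hf, hf'⟩ : ∃ f ∈ core t, f ∉ ({1, t, e} : Set G) := by
        by_contra hc
        push Not at hc
        have := Set.ncard_le_ncard (show (core t : Set G) ⊆ ({1, t, e} : Set G) from hc) (Set.toFinite _)
        rw [← Nat.card_coe_set_eq, show Nat.card ↥(core t : Set G) = 16 from card_core F ht] at this
        have h3 : ({1, t, e} : Set G).ncard ≤ 3 :=
          (Set.ncard_insert_le _ _).trans (Nat.succ_le_succ ((Set.ncard_insert_le _ _).trans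
            (Nat.succ_le_succ (Set.ncard_singleton e).le)))
        omega
      simp only [Set.mem_insert_iff, Set.mem_singleton_iff, not_or] at hf'
      have hfo := order_core F ht hf hf'.1
      have hfc := core_eq F ht hf hf'.1
      obtain ⟨c, hc, hce⟩ := core_trans F hfo (a := t) (b := e) (by rw [hfc]; exact htE)
        (ne_one_of_order ht le_rfl) (fun h => hf'.2.1 h.symm) (by rw [hfc]; exact he) he1 (fun h => hf'.2.2 h.symm)
      exact ⟨c, hall f hf hf'.1 (mem_cen.mpr hc), hce⟩
    refine le_antisymm h2 fun g hg => ?_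
    obtain ⟨l, hl, hle⟩ := htr _ (nor_conj F ht hg) fun e => ne_one_of_order ht le_rfl (conj_eq_one_iff.mp e)
    have hmem : l⁻¹ * g ∈ cen t := mem_cen.mpr (by
      calc l⁻¹ * g * t = l⁻¹ * (g * t * g⁻¹) * g := by group
        _ = t * (l⁻¹ * g) := by rw [← hle]; group)
    have := mul_mem hl (hCL hmem)
    rwa [mul_inv_cancel_left] at this

/-- The normaliser modulo the sixteen is the alternating group of degree seven. -/
theorem exists_alt_seven {t : G} (ht : orderOf t = 2) :
    ∃ ψ : nor t →* alternatingGroup (Fin 7), Function.Surjective ψ ∧ ψ.ker = (core t).subgroupOf (nor t) := by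
  set E' := (core t).subgroupOf (nor t) with hE'
  haveI hn : E'.Normal := ⟨fun a ha c => show (c : G) * (a : G) * (c : G)⁻¹ ∈ core t from norm_conj c.2 ha⟩
  have hcard : Nat.card (nor t ⧸ E') = 2520 := by
    have h := E'.index_mul_card
    rw [hE', Nat.card_congr (Subgroup.subgroupOfEquivOfLe (core_le_nor F ht)).toEquiv, card_core F ht,
      card_nor F ht] at h
    show E'.index = 2520
    rw [hE']
    omega
  haveI : Nontrivial (nor t ⧸ E') := Finite.one_lt_card_iff_nontrivial.mp (by omega)
  haveI : IsSimpleGroup (nor t ⧸ E') := by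
    refine ⟨fun M hM => ?_⟩
    have hsurj := QuotientGroup.mk'_surjective E'
    set L := (M.comap (QuotientGroup.mk' E')).map (nor t).subtype with hL
    have h1 : core t ≤ L := fun a ha => ⟨⟨a, core_le_nor F ht ha⟩, by
      show QuotientGroup.mk' E' _ ∈ M
      rw [QuotientGroup.mk'_apply, (QuotientGroup.eq_one_iff _).mpr (show (⟨a, core_le_nor F ht ha⟩ : nor t) ∈ E' from ha)]
      exact one_mem _, rfl⟩
    rcases nor_normal_cases F ht h1 (Subgroup.map_subtype_le _) (by
        rintro c hc _ ⟨l, hl, rfl⟩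
        exact ⟨⟨c, hc⟩ * l * ⟨c, hc⟩⁻¹, (hM.comap _).conj_mem l hl _, rfl⟩) with h | h
    · left
      rw [← Subgroup.map_comap_eq_self_of_surjective hsurj M,
        show M.comap (QuotientGroup.mk' E') = E' from ?_, QuotientGroup.map_mk'_self]
      have hh := congrArg (Subgroup.comap (nor t).subtype) h
      rw [hL, Subgroup.comap_map_eq_self_of_injective (nor t).subtype_injective] at hh
      exact hh
    · right
      rw [← Subgroup.map_comap_eq_self_of_surjective hsurj M,
        show M.comap (QuotientGroup.mk' E') = ⊤ from ?_, Subgroup.map_top_of_surjective _ hsurj]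
      rw [← Subgroup.comap_map_eq_self_of_injective (nor t).subtype_injective (M.comap (QuotientGroup.mk' E')), ← hL,
        h]
      exact Subgroup.subgroupOf_self _
  obtain ⟨e⟩ := Cfsg.Agent.S0984.result hcard
  refine ⟨e.toMonoidHom.comp (QuotientGroup.mk' E'), e.surjective.comp (QuotientGroup.mk'_surjective E'), ?_⟩
  rw [← MonoidHom.comap_ker, show e.toMonoidHom.ker = ⊥ from (MonoidHom.ker_eq_bot_iff _).mpr e.injective,
    MonoidHom.comap_bot, QuotientGroup.ker_mk']

end CfsgLib.M23Order
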