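import Cfsg.Agent.Lib.M23Order.CharFacts
import Cfsg.Agent.Lib.Char.Counting

/-!
# Simple groups of order 10200960: the fixed points in an action on 23 points
-/

set_option autoImplicit false
set_option linter.unusedSectionVars false
set_option linter.style.haveILetI false
set_option maxHeartbeats 2000000

namespace CfsgLib.M23Order

open Cfsg
open scoped ComplexConjugate CfsgLib.Char
open CfsgLib CfsgLib.BrauerTuan CfsgLib.OrderBlocks
open scoped _root_.Classical

universe u v

variable {G : Type u} [Group G] [Finite G] [IsSimpleGroup G]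

/-- The permutation character of degree 23 is `1 + χ₂₂`. -/
theorem perm23 (hn : Nat.card G = 10200960) (X : Type v) [MulAction G X] [Finite X]
    [MulAction.IsPretransitive G X] (hX : Nat.card X = 23) (g : G) :
    (orderOf g = 2 → Nat.card (MulAction.fixedBy X g) = 7) ∧
      (orderOf g = 3 → Nat.card (MulAction.fixedBy X g) = 5) ∧
      (orderOf g = 5 → Nat.card (MulAction.fixedBy X g) = 3) ∧
      (orderOf g = 7 → Nat.card (MulAction.fixedBy X g) = 2) := by
  letI := Fintype.ofFinite G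
  letI := Fintype.ofFinite X
  haveI : Fact (Nat.Prime 5) := ⟨by norm_num⟩
  haveI : Fact (Nat.Prime 7) := ⟨by norm_num⟩
  haveI : Fact (Nat.Prime 11) := ⟨by norm_num⟩
  haveI : Fact (Nat.Prime 23) := ⟨by norm_num⟩
  obtain ⟨T⟩ := exists_tab hn
  obtain ⟨S⟩ := exists_sevenBlk hn T
  haveI : Nonempty X := (Nat.card_pos_iff.mp (by rw [hX]; norm_num)).1
  obtain ⟨x⟩ := ‹Nonempty X›
  set π : G → ℂ := fun g => (Nat.card (MulAction.fixedBy X g) : ℂ) with hπ
  have hπc : IsCharacter G π := Char.isCharacter_perm (G := G) (X := X)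
  obtain ⟨m, hm⟩ := Char.isCharacter_iff_exists_multiplicities.mp hπc
  have hπ1 : classInner π (Blocks.trivIrr G : G → ℂ) = 1 := by
    rw [hπ, Char.perm_eq_indFun X x]
    show classInner _ (fun _ : G => (1 : ℂ)) = 1
    rw [Char.frobenius_reciprocity _ _ (Char.isClassFunction_of_isCharacter Char.isCharacter_one),
      Char.classInner_irr_self Char.isIrrCharacter_one]
  have hm1 : m (Blocks.trivIrr G) = 1 := by
    rw [hm, Char.classInner_sum_smul_irr] at hπ1
    exact_mod_cast hπ1
  have hval : ∀ h : G, π h = ∑ χ : IrrCharacter G, (m χ : ℂ) * (χ : G → ℂ) h := fun h => by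
    rw [congrFun hm h, Finset.sum_apply]
    rfl
  obtain ⟨d1, d2, d3, d4, d5, d6, d7, d8, d9, d10, d11, d12, d13, d14, d15, d16⟩ := T.d
  have hdeg := hval 1
  rw [show π 1 = 23 from ?_, T.sum_eq] at hdeg
  swap
  · show (Nat.card (MulAction.fixedBy X (1 : G)) : ℂ) = 23
    rw [MulAction.fixedBy_one_eq_univ, Nat.card_coe_set_eq, Set.ncard_univ, hX]
    norm_num
  simp only [value_one', deg_triv, hm1, d1, d2, d3, d4, d5, d6, d7, d8, d9, d10, d11, d12, d13, d14, d15, d16,
    ← Nat.cast_mul, ← Nat.cast_add] at hdeg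
  obtain ⟨N, hN⟩ : ∃ N : ℕ, N = 23 := ⟨_, rfl⟩
  rw [show (23 : ℂ) = (N : ℂ) by rw [hN]; norm_num] at hdeg
  norm_num only [← Nat.cast_one, ← Nat.cast_mul, ← Nat.cast_add] at hdeg
  have hdeg' := Nat.cast_injective (R := ℂ) hdeg
  have z_a45 : m T.a45 = 0 := Nat.lt_one_iff.mp (by linarith)
  have z_b45 : m T.b45 = 0 := Nat.lt_one_iff.mp (by linarith)
  have z_c230 : m T.c230 = 0 := Nat.lt_one_iff.mp (by linarith)
  have z_c231 : m T.c231 = 0 := Nat.lt_one_iff.mp (by linarith)
  have z_d231 : m T.d231 = 0 := Nat.lt_one_iff.mp (by linarith)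
  have z_e231 : m T.e231 = 0 := Nat.lt_one_iff.mp (by linarith)
  have z_c253 : m T.c253 = 0 := Nat.lt_one_iff.mp (by linarith)
  have z_a770 : m T.a770 = 0 := Nat.lt_one_iff.mp (by linarith)
  have z_b770 : m T.b770 = 0 := Nat.lt_one_iff.mp (by linarith)
  have z_a896 : m T.a896 = 0 := Nat.lt_one_iff.mp (by linarith)
  have z_b896 : m T.b896 = 0 := Nat.lt_one_iff.mp (by linarith)
  have z_a990 : m T.a990 = 0 := Nat.lt_one_iff.mp (by linarith)
  have z_b990 : m T.b990 = 0 := Nat.lt_one_iff.mp (by linarith)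
  have z_c1035 : m T.c1035 = 0 := Nat.lt_one_iff.mp (by linarith)
  have z_c2024 : m T.c2024 = 0 := Nat.lt_one_iff.mp (by linarith)
  have z_c22 : m T.c22 = 1 := by simp only [z_a45, z_b45, z_c230, z_c231, z_d231, z_e231, z_c253, z_a770, z_b770, z_a896, z_b896, z_a990, z_b990, z_c1035, z_c2024] at hdeg'; omega
  have key : ∀ h : G, π h = 1 + (T.c22 : G → ℂ) h := by
    intro h
    rw [hval h, T.sum_eq, hm1, z_c22, z_a45, z_b45,
      z_c230, z_c231, z_d231, z_e231,
      z_c253, z_a770, z_b770, z_a896,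
      z_b896, z_a990, z_b990, z_c1035,
      z_c2024]
    simp [Blocks.trivIrr]
  have hk : ∀ (k : ℕ), (T.c22 : G → ℂ) g = (k : ℂ) → Nat.card (MulAction.fixedBy X g) = k + 1 := by
    intro k hk
    have := key g
    rw [hk] at this
    simp only [hπ] at this
    rw [add_comm k 1]
    exact_mod_cast this
  refine ⟨fun h => hk 6 ?_, fun h => hk 4 ?_, fun h => hk 2 ?_, fun h => hk 1 ?_⟩
  · rw [(T.at_invol h).2.1]; norm_num
  · rw [(T.col_three S hn (Or.inl h)).2.1]; norm_num
  · rw [(T.col_five hn h).1]; norm_num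
  · rw [(T.col_seven S hn h).2]; norm_num

end CfsgLib.M23Order
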