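import Cfsg.Agent.Lib.M23Order.Local

/-!
# Simple groups of order 10200960: the sixteen is the core of each of its involutions
-/

set_option autoImplicit false
set_option linter.unusedSectionVars false
set_option linter.style.haveILetI false

namespace CfsgLib.M23Order

open Cfsg CfsgLib

universe u

variable {G : Type u} [Group G] [Finite G]

/-- The conjugates of `t` under a subgroup, and the stabiliser. -/
theorem card_conj_range (H : Subgroup G) (t : G) :
    (Set.range fun h : H => (h : G) * t * (h : G)⁻¹).ncard * Nat.card ↥(H ⊓ cen t) = Nat.card H := by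
  letI : MulAction H G :=
    { smul := fun h g => (h : G) * g * (h : G)⁻¹
      one_smul := fun g => by show (1 : G) * g * (1 : G)⁻¹ = g; group
      mul_smul := fun h h' g => by
        show (h : G) * h' * g * ((h : G) * h')⁻¹ = (h : G) * ((h' : G) * g * (h' : G)⁻¹) * (h : G)⁻¹
        group }
  have e := Nat.card_congr (MulAction.orbitProdStabilizerEquivGroup H t)
  rw [Nat.card_prod, Nat.card_coe_set_eq] at e
  rw [← e]
  congr 1
  exact Nat.card_congr
    { toFun := fun g => ⟨⟨g.1, g.2.1⟩, mul_inv_eq_iff_eq_mul.mpr (mem_cen.mp g.2.2)⟩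
      invFun := fun h => ⟨h.1, h.1.2, mem_cen.mpr (mul_inv_eq_iff_eq_mul.mp h.2)⟩
      left_inv := fun _ => rfl
      right_inv := fun _ => rfl }

theorem split_map {t : G} {H : Subgroup G} (g : G) (hS : Split t H) :
    Split (g * t * g⁻¹) (H.map (MulAut.conj g).toMonoidHom) where
  le := fun _ ⟨h, hh, e⟩ => e ▸ conj_mem_core (hS.le hh)
  card := by rw [card_map_conj, hS.card]
  notMem := fun ⟨h, hh, e⟩ => hS.notMem (by rwa [← (MulAut.conj g).injective e])
  inv := by
    rintro c hc _ ⟨h, hh, rfl⟩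
    refine ⟨g⁻¹ * c * g * h * (g⁻¹ * c * g)⁻¹, hS.inv _ ?_ h hh, ?_⟩
    · calc g⁻¹ * c * g * t = g⁻¹ * (c * (g * t * g⁻¹)) * g := by group
        _ = t * (g⁻¹ * c * g) := by rw [hc]; group
    · show g * (g⁻¹ * c * g * h * (g⁻¹ * c * g)⁻¹) * g⁻¹ = c * (g * h * g⁻¹) * c⁻¹
      group

variable (F : Facts G)
include F

theorem Split.mem_or {t a : G} {H : Subgroup G} (ht : orderOf t = 2) (hS : Split t H) (ha : a ∈ core t) :
    a ∈ H ∨ a * t ∈ H := by
  by_contra hc
  push Not at hc
  have hsub : (H : Set G) ∪ (fun h => a * h) '' H ∪ (fun h => t * h) '' H ⊆ (core t : Set G) := by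
    rintro z ((hz | ⟨h, hh, rfl⟩) | ⟨h, hh, rfl⟩)
    exacts [hS.le hz, mul_mem ha (hS.le hh), mul_mem (mem_core_self F ht) (hS.le hh)]
  have d1 : Disjoint (H : Set G) ((fun h => a * h) '' H) := Set.disjoint_left.mpr fun z hz ⟨h, hh, e⟩ => hc.1 (by
    rw [show a = z * h⁻¹ from eq_mul_inv_of_mul_eq e]
    exact mul_mem hz (inv_mem hh))
  have d2 : Disjoint ((H : Set G) ∪ (fun h => a * h) '' H) ((fun h => t * h) '' H) := by
    refine Set.disjoint_left.mpr ?_
    rintro z (hz | ⟨k, hk, rfl⟩) ⟨h, hh, e⟩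
    · exact hS.notMem (by rw [show t = z * h⁻¹ from eq_mul_inv_of_mul_eq e]; exact mul_mem hz (inv_mem hh))
    · refine hc.2 ?_
      have e' : a * t = h * k⁻¹ := by
        have : a = t * h * k⁻¹ := eq_mul_inv_of_mul_eq e.symm
        rw [this, mul_assoc t, core_comm F ht (mem_core_self F ht) (hS.le (mul_mem hh (inv_mem hk))),
          mul_assoc, sq_of_order ht, mul_one]
      exact e' ▸ mul_mem hh (inv_mem hk)
  have h := Set.ncard_le_ncard hsub (Set.toFinite _)
  rw [Set.ncard_union_eq d2 (Set.toFinite _) (Set.toFinite _),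
    Set.ncard_union_eq d1 (Set.toFinite _) (Set.toFinite _),
    Set.ncard_image_of_injective _ (mul_right_injective a), Set.ncard_image_of_injective _ (mul_right_injective t),
    ← Nat.card_coe_set_eq, ← Nat.card_coe_set_eq] at h
  have h8 : Nat.card ↥(H : Set G) = 8 := hS.card
  have h16 : Nat.card ↥(core t : Set G) = 16 := card_core F ht
  omega

theorem Split.mul_mem_ne {t a : G} {H : Subgroup G} (hS : Split t H) (ha : a ∈ H) : a * t ∉ H := fun h =>
  hS.notMem (by simpa using mul_mem (inv_mem ha) h)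

/-- The centraliser is transitive on a complement. -/
theorem Split.orbit {t a b : G} {H : Subgroup G} (ht : orderOf t = 2) (hS : Split t H) (ha : a ∈ H) (ha1 : a ≠ 1)
    (hb : b ∈ H) (hb1 : b ≠ 1) : ∃ c : G, c * t = t * c ∧ c * a * c⁻¹ = b := by
  obtain ⟨s, hs, hst⟩ := exists_seven F ht
  obtain ⟨i, h⟩ := seven_cover F ht hs hst (hS.le ha) ha1 (fun e => hS.notMem (e ▸ ha)) (hS.le hb) hb1
    (fun e => hS.notMem (e ▸ hb))
  have hc : s ^ i * t = t * s ^ i := ((show Commute s t from hst).pow_left i).eq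
  rcases h with h | h
  · exact ⟨_, hc, h⟩
  · exact absurd (h ▸ hS.inv _ hc a ha) (Split.mul_mem_ne F hS hb)

theorem Split.unique {t : G} {H H' : Subgroup G} (ht : orderOf t = 2) (hS : Split t H) (hS' : Split t H') :
    H ≤ H' := by
  intro a ha
  by_contra ha'
  have ha1 : a ≠ 1 := fun e => ha' (e ▸ one_mem _)
  have hat := (Split.mem_or F ht hS' (hS.le ha)).resolve_left ha'
  obtain ⟨b, hb, hb'⟩ : ∃ b ∈ H, b ∉ ({1, a} : Set G) := by
    by_contra h
    push Not at h
    have := Set.ncard_le_ncard (show (H : Set G) ⊆ ({1, a} : Set G) from h) (Set.toFinite _)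
    rw [Set.ncard_pair ha1.symm, ← Nat.card_coe_set_eq] at this
    have : 8 ≤ 2 := hS.card ▸ this
    omega
  simp only [Set.mem_insert_iff, Set.mem_singleton_iff, not_or] at hb'
  have hmap : ∀ d ∈ H, d ≠ 1 → d * t ∈ H' := by
    intro d hd hd1
    obtain ⟨c, hct, rfl⟩ := Split.orbit F ht hS ha ha1 hd hd1
    have h : c * (a * t) * c⁻¹ = c * a * c⁻¹ * t := by
      rw [show c * (a * t) * c⁻¹ = c * a * c⁻¹ * (c * t * c⁻¹) by group, hct, mul_inv_cancel_right]
    exact h ▸ hS'.inv c hct _ hat
  have h1 : a * b ∈ H' := by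
    have h := mul_mem hat (hmap b hb hb'.1)
    rwa [show a * t * (b * t) = a * (t * b) * t by group, ← cen_core_comm (hS.le hb), ← mul_assoc,
      mul_assoc (a * b), sq_of_order ht, mul_one] at h
  have hab : a * b ≠ 1 := fun e =>
    hb'.2 ((eq_inv_of_mul_eq_one_right e).trans (inv_core F ht (hS.le ha)))
  exact Split.mul_mem_ne F hS' h1 (hmap (a * b) (mul_mem ha hb) hab)

/-- Either the centraliser fuses the two members of each coset or there is an invariant complement. -/
theorem trans_or_split {t : G} (ht : orderOf t = 2) :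
    (∀ a ∈ core t, a ≠ 1 → a ≠ t → ∀ b ∈ core t, b ≠ 1 → b ≠ t → ∃ c : G, c * t = t * c ∧ c * a * c⁻¹ = b) ∨
      ∃ H, Split t H := by
  classical
  obtain ⟨s, hs, hst⟩ := exists_seven F ht
  have hsi : ∀ i : ℕ, s ^ i * t = t * s ^ i := fun i => ((show Commute s t from hst).pow_left i).eq
  by_cases htw : ∀ a ∈ core t, a ≠ 1 → a ≠ t → ∃ c : G, c * t = t * c ∧ c * a * c⁻¹ = a * t
  · left
    intro a ha ha1 hat b hb hb1 hbt
    obtain ⟨i, h | h⟩ := seven_cover F ht hs hst ha ha1 hat hb hb1 hbt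
    · exact ⟨_, hsi i, h⟩
    · obtain ⟨c, hc, hce⟩ := htw b hb hb1 hbt
      refine ⟨c * s ^ i, ((show Commute c t from hc).mul_left (hsi i)).eq, ?_⟩
      calc c * s ^ i * a * (c * s ^ i)⁻¹ = c * (s ^ i * a * (s ^ i)⁻¹) * c⁻¹ := by group
        _ = c * b * c⁻¹ * (c * t * c⁻¹) := by rw [h]; group
        _ = b := by rw [hce, hc, mul_inv_cancel_right, mul_assoc, sq_of_order ht, mul_one]
  right
  push Not at htw
  obtain ⟨a₀, ha₀, ha₀1, ha₀t, hno⟩ := htw
  -- the commutators with the element of order seven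
  let θ : core t →* core t :=
    { toFun := fun e => ⟨(e : G) * (s * e * s⁻¹), mul_mem e.2 (core_conj hst e.2)⟩
      map_one' := Subtype.ext (by simp)
      map_mul' := fun e f => Subtype.ext (by
        show (e : G) * f * (s * (e * f) * s⁻¹) = e * (s * e * s⁻¹) * (f * (s * f * s⁻¹))
        calc (e : G) * f * (s * (e * f) * s⁻¹) = e * (f * (s * e * s⁻¹)) * (s * f * s⁻¹) := by group
          _ = _ := by rw [core_comm F ht f.2 (core_conj hst e.2)]; group) }
  set H := θ.range.map (core t).subtype with hH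
  have hker : ∀ e : core t, e ∈ θ.ker → (e : G) = 1 ∨ (e : G) = t := by
    intro e he
    have h : (e : G) * (s * e * s⁻¹) = 1 := congrArg Subtype.val he
    have h' : s * e * s⁻¹ = (e : G) := (eq_inv_of_mul_eq_one_right h).trans (inv_core F ht e.2)
    exact seven_fix F ht hs hst e.2 (mul_inv_eq_iff_eq_mul.mp h').symm
  have hkc : Nat.card θ.ker = 2 := by
    have hle : θ.ker.map (core t).subtype = Subgroup.zpowers t := by
      refine le_antisymm ?_ (Subgroup.zpowers_le.mpr ⟨⟨t, mem_core_self F ht⟩, Subtype.ext ?_, rfl⟩)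
      · rintro _ ⟨e, he, rfl⟩
        rcases hker e he with h | h
        · show (e : G) ∈ _
          rw [h]; exact one_mem _
        · show (e : G) ∈ _
          rw [h]; exact Subgroup.mem_zpowers t
      · show t * (s * t * s⁻¹) = 1
        rw [hst, mul_inv_cancel_right, sq_of_order ht]
    rw [← Subgroup.card_map_of_injective (core t).subtype_injective, hle, Nat.card_zpowers, ht]
  have hH8 : Nat.card H = 8 := by
    have h := θ.ker.index_mul_card
    rw [Subgroup.index_ker, hkc, card_core F ht] at h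
    rw [hH, Subgroup.card_map_of_injective (core t).subtype_injective]
    omega
  have hHs : ∀ h ∈ H, s * h * s⁻¹ ∈ H := by
    rintro _ ⟨_, ⟨e, rfl⟩, rfl⟩
    refine ⟨θ ⟨s * e * s⁻¹, core_conj hst e.2⟩, ⟨_, rfl⟩, ?_⟩
    show s * (e : G) * s⁻¹ * (s * (s * (e : G) * s⁻¹) * s⁻¹) = s * ((e : G) * (s * e * s⁻¹)) * s⁻¹
    group
  have hHsi : ∀ i : ℕ, ∀ h ∈ H, s ^ i * h * (s ^ i)⁻¹ ∈ H := by
    intro i
    induction i with
    | zero => intro h hh; simpa using hh
    | succ n ih =>
      intro h hh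
      rw [pow_succ', show s * s ^ n * h * (s * s ^ n)⁻¹ = s * (s ^ n * h * (s ^ n)⁻¹) * s⁻¹ by group]
      exact hHs _ (ih h hh)
  have htH : t ∉ H := by
    rintro ⟨_, ⟨e, rfl⟩, he⟩
    have he' : (e : G) * (s * e * s⁻¹) = t := he
    have h2 : s * e * s⁻¹ = (e : G) * t := by
      calc s * e * s⁻¹ = ((e : G) * e) * (s * e * s⁻¹) := by rw [core_sq F ht e.2, one_mul]
        _ = _ := by rw [mul_assoc, he']
    have h3 : ∀ n : ℕ, s ^ n * (e : G) * (s ^ n)⁻¹ = e * t ^ n := by
      intro n
      induction n with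
      | zero => simp
      | succ n ih =>
        calc s ^ (n + 1) * (e : G) * (s ^ (n + 1))⁻¹ = s * (s ^ n * e * (s ^ n)⁻¹) * s⁻¹ := by
              rw [pow_succ']; group
          _ = s * e * s⁻¹ * (s * t ^ n * s⁻¹) := by rw [ih]; group
          _ = e * t ^ (n + 1) := by
            rw [h2, ((show Commute s t from hst).pow_right n).eq, mul_inv_cancel_right, mul_assoc, ← pow_succ']
    have h7 := h3 7
    rw [pow_self_of_order hs, one_mul, inv_one, mul_one, show 7 = 2 * 3 + 1 from rfl, pow_succ, pow_mul, pow_two,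
      sq_of_order ht, one_pow, one_mul] at h7
    exact ne_one_of_order ht le_rfl (mul_eq_left.mp h7.symm)
  have hHle : H ≤ core t := Subgroup.map_subtype_le _
  have hS0 : ∀ a ∈ core t, a ∈ H ∨ a * t ∈ H := by
    intro a ha
    by_contra hc
    push Not at hc
    have hsub : H < core t := lt_of_le_of_ne hHle fun e => hc.1 (e ▸ ha)
    set H' := H.subgroupOf (core t) with hH'
    have hi : H'.index = 2 := by
      have h := H'.index_mul_card
      rw [Nat.card_congr (Subgroup.subgroupOfEquivOfLe hHle).toEquiv, hH8, card_core F ht] at h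
      omega
    have := (Subgroup.mul_mem_iff_of_index_two hi (a := ⟨a, ha⟩) (b := ⟨t, mem_core_self F ht⟩)).mpr
      (iff_of_false (fun h => hc.1 h) (fun h => htH h))
    exact hc.2 this
  -- adjust the witness
  obtain ⟨a, ha, ha1, hat, hno', haH⟩ : ∃ a ∈ core t, a ≠ 1 ∧ a ≠ t ∧
      (∀ c : G, c * t = t * c → c * a * c⁻¹ ≠ a * t) ∧ a ∈ H := by
    rcases hS0 a₀ ha₀ with h | h
    · exact ⟨a₀, ha₀, ha₀1, ha₀t, hno, h⟩
    · refine ⟨a₀ * t, mul_mem ha₀ (mem_core_self F ht), fun e => ha₀t ?_, fun e => ha₀1 (mul_eq_right.mp e),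
        fun c hc e => hno c hc ?_, h⟩
      · rw [← mul_one a₀, ← sq_of_order ht, ← mul_assoc, e, one_mul]
      · calc c * a₀ * c⁻¹ = c * (a₀ * t * t) * c⁻¹ := by rw [mul_assoc a₀, sq_of_order ht, mul_one]
          _ = c * (a₀ * t) * c⁻¹ * (c * t * c⁻¹) := by group
          _ = a₀ * t := by rw [e, hc, mul_inv_cancel_right, mul_assoc (a₀ * t), sq_of_order ht, mul_one]
  refine ⟨H, hHle, hH8, htH, fun c hc h hh => ?_⟩
  rcases eq_or_ne h 1 with rfl | h1
  · simpa using one_mem H
  have htH' : ∀ z ∈ H, z ≠ t := fun z hz e => htH (e ▸ hz)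
  obtain ⟨i, hi | hi⟩ := seven_cover F ht hs hst ha ha1 hat (hHle hh) h1 (htH' h hh)
  swap
  · exact absurd (hi ▸ hHsi i a haH) fun h2 => htH (by simpa using mul_mem (inv_mem hh) h2)
  set d := c * s ^ i with hd
  have hdt : d * t = t * d := ((show Commute c t from hc).mul_left (hsi i)).eq
  have hch : c * h * c⁻¹ = d * a * d⁻¹ := by rw [← hi, hd]; group
  rw [hch]
  have hda : d * a * d⁻¹ ∈ core t := core_conj hdt ha
  rcases hS0 _ hda with h2 | h2
  · exact h2
  exfalso
  have hd1 : d * a * d⁻¹ * t ≠ 1 := fun e => by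
    refine hat ?_
    have e' : d * a * d⁻¹ = t := by rw [eq_inv_of_mul_eq_one_left e, inv_core F ht (mem_core_self F ht)]
    calc a = d⁻¹ * (d * a * d⁻¹) * d := by group
      _ = t := by rw [e', mul_assoc, ← hdt, inv_mul_cancel_left]
  obtain ⟨j, hj | hj⟩ := seven_cover F ht hs hst ha ha1 hat (hHle h2) hd1 (htH' _ h2)
  · refine hno' (d⁻¹ * s ^ j) ((show Commute d⁻¹ t from (show Commute d t from hdt).inv_left).mul_left (hsi j)).eq ?_
    calc d⁻¹ * s ^ j * a * (d⁻¹ * s ^ j)⁻¹ = d⁻¹ * (s ^ j * a * (s ^ j)⁻¹) * d := by group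
      _ = a * (d⁻¹ * t * d) := by rw [hj]; group
      _ = a * t := by rw [mul_assoc d⁻¹, ← hdt, inv_mul_cancel_left]
  · have := mul_mem (inv_mem h2) (hj ▸ hHsi j a haH)
    rw [inv_mul_cancel_left] at this
    exact htH this

theorem exists_order_three {t v : G} (h : 3 ∣ Nat.card ↥(cen t ⊓ cen v)) :
    ∃ x, orderOf x = 3 ∧ x * t = t * x ∧ x * v = v * x := by
  obtain ⟨x, hx, hxo⟩ := exists_order F Nat.prime_three h
  exact ⟨x, hxo, mem_cen.mp hx.1, mem_cen.mp hx.2⟩

theorem Split.exists_three {t v : G} {H : Subgroup G} (ht : orderOf t = 2) (hS : Split t H) (hv : v ∈ H)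
    (hv1 : v ≠ 1) : ∃ x, orderOf x = 3 ∧ x * t = t * x ∧ x * v = v * x := by
  refine exists_order_three F ?_
  have horb : (Set.range fun c : cen t => (c : G) * v * (c : G)⁻¹) = (H : Set G) \ {1} := by
    ext z
    constructor
    · rintro ⟨c, rfl⟩
      exact ⟨hS.inv c (mem_cen.mp c.2) v hv, fun e => hv1 (conj_eq_one_iff.mp e)⟩
    · rintro ⟨hz, hz1⟩
      obtain ⟨c, hc, rfl⟩ := Split.orbit F ht hS hv hv1 hz hz1
      exact ⟨⟨c, mem_cen.mpr hc⟩, rfl⟩
  have h := card_conj_range (cen t) v
  rw [horb, Set.ncard_sdiff (Set.singleton_subset_iff.mpr (one_mem _)), Set.ncard_singleton,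
    ← Nat.card_coe_set_eq, show Nat.card ↥(H : Set G) = 8 from hS.card,
    show Nat.card (cen t) = 2688 from F.card_invol t ht] at h
  omega

/-- An invariant complement has all its members with the same core. -/
theorem Split.core_eq (hall : ∀ e : G, orderOf e = 2 → ∃ H, Split e H) {t v : G} {H : Subgroup G}
    (ht : orderOf t = 2) (hS : Split t H) (hv : v ∈ H) (hv1 : v ≠ 1) : core v = core t := by
  by_contra hne
  have hvo := order_core F ht (hS.le hv) hv1
  obtain ⟨Hv, hSv⟩ := hall v hvo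
  obtain ⟨x, hx, hxt, hxv⟩ := Split.exists_three F ht hS hv hv1
  have hvt : v * t = t * v := cen_core_comm (hS.le hv)
  have htv : t ∈ core v := mem_core_symm F ht hvo hx hxt hxv hvt.symm
  have key : ∀ a ∈ H, ∀ b ∈ Hv, a * b = b * a := by
    intro a ha b hb
    have hbv : b * v = v * b := cen_core_comm (hSv.le hb)
    have hav : a * v = v * a := core_comm F ht (hS.le ha) (hS.le hv)
    have hbt : b * t = t * b := core_comm F hvo (hSv.le hb) htv
    set z := a * b * a⁻¹ * b⁻¹ with hz
    have hz1 : z ∈ H := by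
      rw [hz, show a * b * a⁻¹ * b⁻¹ = a * (b * a⁻¹ * b⁻¹) by group]
      exact mul_mem ha (hS.inv b hbt _ (inv_mem ha))
    have hz2 : z ∈ Hv := mul_mem (hSv.inv a hav b hb) (inv_mem hb)
    have hzx : z * x = x * z :=
      core_inter F ht hvo hx hxt hxv hvt.symm (fun e => hne e.symm) (hS.le hz1) (hSv.le hz2)
    by_contra hab
    have hzne : z ≠ 1 := fun e => hab (commutatorElement_eq_one_iff_mul_comm.mp (by rw [commutatorElement_def]; exact e))
    -- the four-group
    have hW : ({1, t, v, t * v} : Set G) = ((core t ⊓ cen x : Subgroup G) : Set G) := by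
      refine Set.eq_of_subset_of_ncard_le ?_ ?_ (Set.toFinite _)
      · rintro w (rfl | rfl | rfl | rfl)
        exacts [one_mem _, ⟨mem_core_self F ht, mem_cen.mpr hxt.symm⟩, ⟨hS.le hv, mem_cen.mpr hxv.symm⟩,
          mul_mem (show t ∈ core t ⊓ cen x from ⟨mem_core_self F ht, mem_cen.mpr hxt.symm⟩)
            ⟨hS.le hv, mem_cen.mpr hxv.symm⟩]
      · rw [← Nat.card_coe_set_eq, show Nat.card ↥((core t ⊓ cen x : Subgroup G) : Set G) = 4 from
          card_core_inf_cen F ht hx hxt, Set.ncard_eq_four.mpr ⟨1, t, v, t * v,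
            (ne_one_of_order ht le_rfl).symm, hv1.symm, fun e => hS.notMem ?_, fun e => hS.notMem (e ▸ hv),
            fun e => hv1 (mul_eq_left.mp e.symm), fun e => ne_one_of_order ht le_rfl (mul_eq_right.mp e.symm), rfl⟩]
        rw [show t = v⁻¹ from eq_inv_of_mul_eq_one_left e.symm]
        exact inv_mem hv
    have hzW : z ∈ ({1, t, v, t * v} : Set G) := by
      rw [hW]; exact ⟨hS.le hz1, mem_cen.mpr hzx⟩
    rcases hzW with e | e | e | e
    · exact hzne e
    · exact hS.notMem (e ▸ hz1)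
    · exact hSv.notMem (e ▸ hz2)
    · rw [e] at hz1
      exact hS.notMem (by simpa using mul_mem hz1 (inv_mem hv))
  refine hne (Subgroup.eq_of_le_of_card_ge (fun b hb => cen_core F ht fun a ha => ?_)
    (by rw [card_core F ht, card_core F hvo]))
  have hbt : b * t = t * b := core_comm F hvo hb htv
  have hbv : b * v = v * b := cen_core_comm hb
  have hH : ∀ h ∈ H, b * h = h * b := by
    intro h hh
    rcases Split.mem_or F hvo hSv hb with hb' | hb'
    · exact (key h hh b hb').symm
    · have e1 := key h hh _ hb'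
      have hhv : h * v = v * h := core_comm F ht (hS.le hh) (hS.le hv)
      calc b * h = b * v * (v * h) := by rw [← mul_assoc (b * v), mul_assoc b v v, sq_of_order hvo, mul_one]
        _ = b * v * h * v := by rw [← hhv]; group
        _ = h * b * (v * v) := by rw [← e1]; group
        _ = h * b := by rw [sq_of_order hvo, mul_one]
  rcases Split.mem_or F ht hS ha with h | h
  · exact hH a h
  · have e1 := hH _ h
    calc b * a = b * (a * t) * t := by rw [mul_assoc b, mul_assoc a, sq_of_order ht, mul_one]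
      _ = a * t * (b * t) := by rw [e1, mul_assoc]
      _ = a * b * (t * t) := by rw [hbt]; rw [mul_assoc a t, ← mul_assoc t t, mul_assoc a b, sq_of_order ht, one_mul, mul_one]
      _ = a * b := by rw [sq_of_order ht, mul_one]

/-- All members of a core would share it. -/
theorem Split.core_eq_all (hall : ∀ e : G, orderOf e = 2 → ∃ H, Split e H) {t u : G}
    (ht : orderOf t = 2) (hu : u ∈ core t) (hu1 : u ≠ 1) : core u = core t := by
  rcases eq_or_ne u t with rfl | hut
  · rfl
  obtain ⟨H, hS⟩ := hall t ht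
  rcases Split.mem_or F ht hS hu with h | h
  · exact Split.core_eq F hall ht hS h hu1
  have hv1 : u * t ≠ 1 := fun e => hut (by rw [eq_inv_of_mul_eq_one_left e, inv_core F ht (mem_core_self F ht)])
  have hcv := Split.core_eq F hall ht hS h hv1
  have huo := order_core F ht hu hu1
  obtain ⟨x, hx, hxt, hxv⟩ := Split.exists_three F ht hS h hv1
  have hxu : x * u = u * x := by
    calc x * u = x * (u * t) * t := by rw [mul_assoc x, mul_assoc u, sq_of_order ht, mul_one]
      _ = (u * t) * (x * t) := by rw [hxv, mul_assoc]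
      _ = u * (t * t) * x := by rw [hxt]; group
      _ = u * x := by rw [sq_of_order ht, mul_one]
  have htu : t ∈ core u := mem_core_symm F ht huo hx hxt hxu (cen_core_comm hu).symm
  obtain ⟨Hu, hSu⟩ := hall u huo
  rcases Split.mem_or F huo hSu htu with h' | h'
  · exact (Split.core_eq F hall huo hSu h' (ne_one_of_order ht le_rfl)).symm
  · rw [← cen_core_comm hu] at h'
    exact (Split.core_eq F hall huo hSu h' hv1).symm.trans hcv

/-- No complement is invariant. -/
theorem not_split {t : G} (ht : orderOf t = 2) (H : Subgroup G) : ¬ Split t H := by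
  classical
  intro hS
  have hall : ∀ e : G, orderOf e = 2 → ∃ H, Split e H := fun e he => by
    obtain ⟨g, hg⟩ := isConj_iff.mp (F.invol_conj t e ht he)
    exact ⟨_, hg ▸ split_map g hS⟩
  let R : G → G → Prop := fun e f => ∃ K, Split e K ∧ f ∈ K
  have hcore : ∀ e ∈ core t, e ≠ 1 → core e = core t := fun e he h1 => Split.core_eq_all F hall ht he h1
  -- one of the two orientations for each pair
  have hpair : ∀ e ∈ core t, ∀ f ∈ core t, e ≠ 1 → f ≠ 1 → R e f ∨ R e (f * e) := by
    intro e he f hf he1 hf1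
    obtain ⟨K, hK⟩ := hall e (order_core F ht he he1)
    rcases Split.mem_or F (order_core F ht he he1) hK (by rw [hcore e he he1]; exact hf : f ∈ core e) with h | h
    exacts [Or.inl ⟨K, hK, h⟩, Or.inr ⟨K, hK, h⟩]
  have hexcl : ∀ e ∈ core t, ∀ f, e ≠ 1 → R e f → ¬ R e (f * e) := by
    rintro e he f he1 ⟨K, hK, hf⟩ ⟨K', hK', hf'⟩
    exact Split.mul_mem_ne F hK hf (Split.unique F (order_core F ht he he1) hK' hK hf')
  have hrot : ∀ e ∈ core t, ∀ f ∈ core t, e * f * e = f := fun e he f hf => by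
    rw [core_comm F ht he hf, mul_assoc, core_sq F ht he, mul_one]
  have hequiv : ∀ g e f : G, R e f → R (g * e * g⁻¹) (g * f * g⁻¹) := fun g e f ⟨K, hK, hf⟩ =>
    ⟨_, split_map g hK, ⟨f, hf, rfl⟩⟩
  -- a symmetric pair propagates
  have hanti : ∀ e ∈ core t, ∀ f ∈ core t, e ≠ 1 → f ≠ 1 → R e f → ¬ R f e := by
    intro e he f hf he1 hf1 hef hfe
    obtain ⟨K, hK, hfK⟩ := hef
    have heo := order_core F ht he he1
    have hne : e ≠ f := fun h => hK.notMem (by rw [← h] at hfK; exact hfK)
    set u := e * f with hu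
    have hu' : u ∈ core t := mul_mem he hf
    have hu1 : u ≠ 1 := fun h => hne (by rw [eq_inv_of_mul_eq_one_left h, inv_core F ht hf])
    -- every member of the complement points back
    have hback : ∀ b ∈ K, b ≠ 1 → R b e := by
      intro b hb hb1
      obtain ⟨c, hc, hcb⟩ := Split.orbit F heo hK hfK hf1 hb hb1
      have := hequiv c f e hfe
      rwa [hcb, hc, mul_inv_cancel_right] at this
    -- every arrow into the third returns
    obtain ⟨Ku, hKu⟩ := hall u (order_core F ht hu' hu1)
    have huE : core u = core t := hcore u hu' hu1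
    rcases hpair u hu' e he hu1 he1 with h | h
    · obtain ⟨n, hn⟩ := isConj_iff.mp (F.invol_conj e u heo (order_core F ht hu' hu1))
      obtain ⟨K', hK', heK'⟩ := h
      have hn' : Split u (K.map (MulAut.conj n).toMonoidHom) := hn ▸ split_map n hK
      obtain ⟨b, hb, hbe⟩ := Split.unique F (order_core F ht hu' hu1) hK' hn' heK'
      have hb1 : b ≠ 1 := fun e' => he1 (by rw [← hbe, e']; simp)
      have hreu := hequiv n b e (hback b hb hb1)
      rw [show n * b * n⁻¹ = e from hbe, hn] at hreu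
      refine hexcl e he f he1 ⟨K, hK, hfK⟩ ?_
      rwa [core_comm F ht hf he]
    · rw [hu, core_comm F ht he hf, ← mul_assoc, core_comm F ht he hf, mul_assoc, core_sq F ht he, mul_one] at h
      obtain ⟨n, hn⟩ := isConj_iff.mp (F.invol_conj e u heo (order_core F ht hu' hu1))
      obtain ⟨K', hK', heK'⟩ := h
      have hu2 : f * e = u := by rw [hu, core_comm F ht he hf]
      rw [hu2] at hK'
      have hn' : Split u (K.map (MulAut.conj n).toMonoidHom) := hn ▸ split_map n hK
      obtain ⟨b, hb, hbe⟩ := Split.unique F (order_core F ht hu' hu1) hK' hn' heK'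
      have hb1 : b ≠ 1 := fun e' => hf1 (by rw [← hbe, e']; simp)
      have hreu := hequiv n b e (hback b hb hb1)
      rw [show n * b * n⁻¹ = f from hbe, hn] at hreu
      exact hexcl f hf e hf1 hfe hreu
  -- an element inducing an involution
  haveI hQn := Fitting.pCore_normal (G := cen t) 2
  obtain ⟨g, hg⟩ : ∃ g : cen t ⧸ Cfsg.pCore 2 (cen t), orderOf g = 2 := by
    haveI : Fact (Nat.Prime 2) := ⟨Nat.prime_two⟩
    refine exists_prime_orderOf_dvd_card' 2 ?_
    have h := (Cfsg.pCore 2 (cen t)).index_mul_card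
    rw [(core_structure F ht).1, show Nat.card (cen t) = 2688 from F.card_invol t ht] at h
    rw [show Nat.card (cen t ⧸ Cfsg.pCore 2 (cen t)) = (Cfsg.pCore 2 (cen t)).index from rfl]
    omega
  obtain ⟨n, rfl⟩ := QuotientGroup.mk_surjective g
  have hn1 : (n : G) ∉ core t := fun h => by
    rw [(QuotientGroup.eq_one_iff n).mpr (mem_core_iff.mp h), orderOf_one] at hg
    omega
  have hn2 : (n : G) * n ∈ core t := by
    have h : ((n * n : cen t) : cen t ⧸ Cfsg.pCore 2 (cen t)) = 1 := by
      rw [QuotientGroup.mk_mul]; exact sq_of_order hg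
    exact mem_core_iff.mpr ((QuotientGroup.eq_one_iff _).mp h)
  obtain ⟨f, hf, hmv⟩ : ∃ f ∈ core t, (n : G) * f ≠ f * n := by
    by_contra h
    push Not at h
    exact hn1 (cen_core F ht h)
  set f' := (n : G) * f * (n : G)⁻¹ with hf'
  have hf'm : f' ∈ core t := core_conj (mem_cen.mp n.2) hf
  have hf1 : f ≠ 1 := fun e => hmv (by rw [e, mul_one, one_mul])
  have hf'1 : f' ≠ 1 := fun e => hf1 (conj_eq_one_iff.mp e)
  have hne : f ≠ f' := fun e => hmv (mul_inv_eq_iff_eq_mul.mp e.symm)
  have hff : (n : G) * f' * (n : G)⁻¹ = f := by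
    calc (n : G) * f' * (n : G)⁻¹ = ((n : G) * n) * f * ((n : G) * n)⁻¹ := by rw [hf']; group
      _ = f := by rw [core_comm F ht hn2 hf, mul_inv_cancel_right]
  have hno : ¬ R f f' := fun h => hanti f hf f' hf'm hf1 hf'1 h (by
    have := hequiv n f f' h
    rwa [hff] at this)
  have hno' : ¬ R f' f := fun h => hanti f' hf'm f hf hf'1 hf1 h (by
    have := hequiv n f' f h
    rwa [hff] at this)
  have h1 := (hpair f hf f' hf'm hf1 hf'1).resolve_left hno
  have h2 := (hpair f' hf'm f hf hf'1 hf1).resolve_left hno'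
  rw [core_comm F ht hf'm hf] at h1
  have hu1 : f * f' ≠ 1 := fun e => hne (by rw [eq_inv_of_mul_eq_one_left e, inv_core F ht hf'm])
  rcases hpair (f * f') (mul_mem hf hf'm) f hf hu1 hf1 with h | h
  · exact hanti f hf _ (mul_mem hf hf'm) hf1 hu1 h1 h
  · rw [show f * (f * f') = f' by rw [← mul_assoc, core_sq F ht hf, one_mul]] at h
    exact hanti f' hf'm _ (mul_mem hf hf'm) hf'1 hu1 h2 h

/-- The centraliser is transitive on the fourteen. -/
theorem core_trans {t a b : G} (ht : orderOf t = 2) (ha : a ∈ core t) (ha1 : a ≠ 1) (hat : a ≠ t)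
    (hb : b ∈ core t) (hb1 : b ≠ 1) (hbt : b ≠ t) : ∃ c : G, c * t = t * c ∧ c * a * c⁻¹ = b :=
  ((trans_or_split F ht).resolve_right fun ⟨H, hS⟩ => not_split F ht H hS) a ha ha1 hat b hb hb1 hbt

/-- The centraliser of two involutions of a core. -/
theorem card_cen_two {t v : G} (ht : orderOf t = 2) (hv : v ∈ core t) (hv1 : v ≠ 1) (hvt : v ≠ t) :
    Nat.card ↥(cen t ⊓ cen v) = 192 := by
  have horb : (Set.range fun c : cen t => (c : G) * v * (c : G)⁻¹) = (core t : Set G) \ {1, t} := by
    ext z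
    constructor
    · rintro ⟨c, rfl⟩
      refine ⟨core_conj (mem_cen.mp c.2) hv, ?_⟩
      rintro (h | h)
      · exact hv1 (conj_eq_one_iff.mp h)
      · refine hvt ?_
        calc v = (c : G)⁻¹ * ((c : G) * v * (c : G)⁻¹) * c := by group
          _ = t := by
            rw [show (c : G) * v * (c : G)⁻¹ = t from h, mul_assoc, ← mem_cen.mp c.2, inv_mul_cancel_left]
    · rintro ⟨hz, hz'⟩
      obtain ⟨c, hc, rfl⟩ := core_trans F ht hv hv1 hvt hz (fun e => hz' (Or.inl e)) (fun e => hz' (Or.inr e))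
      exact ⟨⟨c, mem_cen.mpr hc⟩, rfl⟩
  have h := card_conj_range (cen t) v
  rw [horb, Set.ncard_sdiff (fun z hz => by rcases hz with rfl | rfl; exacts [one_mem _, mem_core_self F ht]),
    Set.ncard_pair (ne_one_of_order ht le_rfl).symm, ← Nat.card_coe_set_eq,
    show Nat.card ↥(core t : Set G) = 16 from card_core F ht,
    show Nat.card (cen t) = 2688 from F.card_invol t ht] at h
  omega

end CfsgLib.M23Order
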