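import Cfsg.Agent.Lib.M23Order.Points

/-!
# Simple groups of order 10200960: a vector fixed by two sixteens and a subgroup of index 23
-/

set_option autoImplicit false
set_option linter.unusedSectionVars false
set_option linter.style.haveILetI false

namespace CfsgLib.M23Order

open Cfsg CfsgLib
open scoped Pointwise

universe u

variable {G : Type u} [Group G] [Finite G]

/-- The character sum is the order times the dimension of the fixed space. -/
theorem sum_char_fixed {K : Type*} [Group K] [Fintype K] {n : ℕ}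
    (σ : Representation ℂ K (Fin n → ℂ)) :
    ∑ x : K, σ.character x = (Nat.card K : ℂ) * (Module.finrank ℂ σ.invariants : ℂ) := by
  have hne : (Fintype.card K : ℂ) ≠ 0 := Nat.cast_ne_zero.2 Fintype.card_ne_zero
  haveI : Invertible (Fintype.card K : ℂ) := invertibleOfNonzero hne
  rw [Nat.card_eq_fintype_card, ← (Representation.isProj_averageMap σ).trace]
  rw [Representation.averageMap, GroupAlgebra.average, map_smul, map_smul, map_sum, map_sum,
    smul_eq_mul, ← mul_assoc, mul_invOf_self, one_mul]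
  exact Finset.sum_congr rfl fun h _ => by simp [Representation.character]

/-- Values of the character on an element of the alternating group of degree six. -/
def sixVal (g : alternatingGroup (Fin 6)) : ℕ :=
  if g = 1 then 22 else if g ^ 2 = 1 then 6 else if g ^ 3 = 1 then 4 else 2

/-- Lower bounds for the fibres over elements of the alternating group of degree six. -/
def sixLow (g : alternatingGroup (Fin 6)) : ℕ :=
  if g = 1 then 112 else if g ^ 2 = 1 then 32 else if g ^ 5 = 1 then 32 else 0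

theorem sum_sixVal : ∑ g, sixVal g = 1080 := by decide +kernel

theorem sum_sixLow : ∑ g, sixLow g = 6160 := by decide +kernel

/-- A subgroup of order 360 in the alternating group of degree seven is the alternating group of degree six. -/
theorem alt_six_of_card {J : Subgroup (alternatingGroup (Fin 7))} (hJ : Nat.card J = 360) :
    Nonempty (J ≃* alternatingGroup (Fin 6)) := by
  classical
  have hA : Nat.card (alternatingGroup (Fin 7)) = 2520 := by
    rw [nat_card_alternatingGroup, Nat.card_fin]; rfl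
  have hidx : J.index = 7 := by
    have := J.index_mul_card
    rw [hJ, hA] at this
    omega
  haveI : IsSimpleGroup (alternatingGroup (Fin 7)) := alternatingGroup.isSimpleGroup (by simp)
  set X := alternatingGroup (Fin 7) ⧸ J
  set o : X := ((1 : alternatingGroup (Fin 7)) : X)
  have hX : Nat.card {x : X // x ≠ o} = 6 := by
    letI := Fintype.ofFinite X
    rw [Nat.card_eq_fintype_card, Fintype.card_subtype_compl, Fintype.card_subtype_eq,
      ← Nat.card_eq_fintype_card (α := X), show Nat.card X = 7 from hidx]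
  let P := MulAction.toPermHom (alternatingGroup (Fin 7)) X
  have hPinj : Function.Injective P := by
    rw [← MonoidHom.ker_eq_bot_iff]
    refine (IsSimpleGroup.eq_bot_or_eq_top_of_normal _ (MonoidHom.normal_ker P)).resolve_right fun h => ?_
    have hle : (⊤ : Subgroup (alternatingGroup (Fin 7))) ≤ J := fun a _ => by
      have ha : a ∈ P.ker := h ▸ Subgroup.mem_top a
      have := Equiv.ext_iff.mp (MonoidHom.mem_ker.mp ha) o
      exact QuotientGroup.eq.mp (this.trans rfl).symm |> fun h' => by simpa using h'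
    rw [top_le_iff.mp hle, Subgroup.index_top] at hidx
    omega
  have ho : ∀ a : J, ∀ x : X, P a x ≠ o ↔ x ≠ o := fun a x => by
    have : P a o = o := by
      show (((a : alternatingGroup (Fin 7)) * 1 : alternatingGroup (Fin 7)) : X) = o
      exact QuotientGroup.eq.mpr (by simp)
    refine not_congr ⟨fun h => (P a).injective (h.trans this.symm), fun h => h ▸ this⟩
  let Q : J →* Equiv.Perm {x : X // x ≠ o} :=
    { toFun := fun a => (P a).subtypePerm (ho a)
      map_one' := Equiv.ext fun x => Subtype.ext (by simp)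
      map_mul' := fun a b => Equiv.ext fun x => Subtype.ext (by
        show P ((a * b : J) : alternatingGroup (Fin 7)) x = P a (P b x)
        rw [Subgroup.coe_mul, map_mul]; rfl) }
  let e : {x : X // x ≠ o} ≃ Fin 6 := (Nat.equivFinOfCardPos (by omega)).trans (finCongr hX)
  let R : J →* Equiv.Perm (Fin 6) := e.permCongrHom.toMonoidHom.comp Q
  have hR : Function.Injective R := by
    refine e.permCongrHom.injective.comp ((injective_iff_map_eq_one Q).mpr fun a ha => Subtype.ext (hPinj ?_))
    rw [Subgroup.coe_one, map_one]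
    refine Equiv.ext fun x => ?_
    by_cases hx : x = o
    · subst hx
      show (((a : alternatingGroup (Fin 7)) * 1 : alternatingGroup (Fin 7)) : X) = o
      exact QuotientGroup.eq.mpr (by simp)
    · exact congrArg Subtype.val (Equiv.ext_iff.mp ha ⟨x, hx⟩)
  have hr : Nat.card R.range = 360 := by
    rw [← hJ]; exact Nat.card_congr (MonoidHom.ofInjective hR).toEquiv.symm
  have hi : R.range.index = 2 := by
    have := R.range.index_mul_card
    rw [hr, Nat.card_perm, Nat.card_fin, show Nat.factorial 6 = 720 from rfl] at this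
    omega
  exact ⟨(MonoidHom.ofInjective hR).trans
    (MulEquiv.subgroupCongr (Equiv.Perm.eq_alternatingGroup_of_index_eq_two hi))⟩

variable (F : Facts G)
include F

theorem no_order_ten (g : G) : orderOf g ≠ 10 := by
  intro hg
  have h5 : orderOf (g ^ 2) = 5 := by rw [orderOf_pow, hg]; rfl
  have h := Subgroup.orderOf_dvd_natCard (cen (g ^ 2)) (mem_cen.mpr ((Commute.self_pow g 2).eq))
  rw [hg, show Nat.card (cen (g ^ 2)) = 15 from F.card_five _ h5] at h
  norm_num at h

/-- Values of the character on the small orders. -/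
theorem val_char {χ : IrrCharacter G} (h1 : (χ : G → ℂ) 1 = 22)
    (hv : ∀ g : G,
      (orderOf g = 2 → (χ : G → ℂ) g = 6) ∧ (orderOf g = 3 → (χ : G → ℂ) g = 4) ∧
      (orderOf g = 4 → (χ : G → ℂ) g = 2) ∧ (orderOf g = 5 → (χ : G → ℂ) g = 2) ∧
      (orderOf g = 6 → (χ : G → ℂ) g = 0) ∧ (orderOf g = 8 → (χ : G → ℂ) g = 0))
    {g : G} {k : ℕ} (hk : k ∈ ({1, 2, 3, 4, 5, 6, 8, 10} : Finset ℕ)) (hg : g ^ k = 1) :
    ∃ v : ℕ, (χ : G → ℂ) g = v ∧ (g = 1 → v = 22) ∧ (g ≠ 1 → g ^ 2 = 1 → v = 6) ∧
      (g ≠ 1 → g ^ 3 = 1 → v = 4) ∧ (g ≠ 1 → g ^ 5 = 1 → v = 2) ∧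
      (g ^ 4 = 1 → g ^ 2 ≠ 1 → v = 2) ∧ (g ≠ 1 → g ^ 4 = 1 ∨ g ^ 10 = 1 → 2 ≤ v) := by
  obtain ⟨a2, a3, a4, a5, a6, a8⟩ := hv g
  have hd := orderOf_dvd_of_pow_eq_one hg
  have hn : orderOf g ∈ ({1, 2, 3, 4, 5, 6, 8, 10} : Finset ℕ) := by
    have hle : orderOf g ≤ 10 := (Nat.le_of_dvd (by fin_cases hk <;> norm_num) hd).trans (by fin_cases hk <;> norm_num)
    have h7 : orderOf g ≠ 7 ∧ orderOf g ≠ 9 ∧ orderOf g ≠ 0 := by
      refine ⟨?_, ?_, (orderOf_pos g).ne'⟩ <;> · intro h; rw [h] at hd; fin_cases hk <;> norm_num at hd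
    generalize orderOf g = n at hle h7 ⊢
    interval_cases n <;> simp_all
  have hne := no_order_ten F g
  simp only [← orderOf_dvd_iff_pow_eq_one, ne_eq]
  rw [← orderOf_eq_one_iff (x := g)]
  generalize horder : orderOf g = n at hn hne a2 a3 a4 a5 a6 a8
  simp only [Finset.mem_insert, Finset.mem_singleton] at hn
  rcases hn with rfl | rfl | rfl | rfl | rfl | rfl | rfl | rfl
  · exact ⟨22, by rw [orderOf_eq_one_iff.mp horder, h1]; norm_num, by norm_num⟩
  · exact ⟨6, by rw [a2 rfl]; norm_num, by norm_num⟩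
  · exact ⟨4, by rw [a3 rfl]; norm_num, by norm_num⟩
  · exact ⟨2, by rw [a4 rfl]; norm_num, by norm_num⟩
  · exact ⟨2, by rw [a5 rfl]; norm_num, by norm_num⟩
  · exact ⟨0, by rw [a6 rfl]; norm_num, by norm_num⟩
  · exact ⟨0, by rw [a8 rfl]; norm_num, by norm_num⟩
  · exact absurd rfl hne

/-- An alternating subgroup of degree six fixes a space of dimension three, and of dimension at
least two with a normalised sixteen. -/
theorem dim_fixed {t : G} {K : Subgroup G} (ht : orderOf t = 2) (hKN : K ≤ nor t) (hbot : core t ⊓ K = ⊥)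
    (hK : Nat.card K = 360) {χ : IrrCharacter G} (h1 : (χ : G → ℂ) 1 = 22)
    (hv : ∀ g : G,
      (orderOf g = 2 → (χ : G → ℂ) g = 6) ∧ (orderOf g = 3 → (χ : G → ℂ) g = 4) ∧
      (orderOf g = 4 → (χ : G → ℂ) g = 2) ∧ (orderOf g = 5 → (χ : G → ℂ) g = 2) ∧
      (orderOf g = 6 → (χ : G → ℂ) g = 0) ∧ (orderOf g = 8 → (χ : G → ℂ) g = 0))
    {n : ℕ} {ρ : Representation ℂ G (Fin n → ℂ)} (hρ : ρ.character = (χ : G → ℂ)) :
    Module.finrank ℂ (Representation.invariants (ρ.comp K.subtype)) = 3 ∧
      Nat.card ↥(core t ⊔ K) = 5760 ∧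
      2 ≤ Module.finrank ℂ (Representation.invariants (ρ.comp (core t ⊔ K).subtype)) := by
  classical
  letI : Fintype G := Fintype.ofFinite G
  obtain ⟨ψ, -, hker⟩ := exists_alt_seven F ht
  let φ : K →* alternatingGroup (Fin 7) := ψ.comp (Subgroup.inclusion hKN)
  have hφ : Function.Injective φ := (injective_iff_map_eq_one φ).mpr fun a ha => by
    have : Subgroup.inclusion hKN a ∈ ψ.ker := ha
    rw [hker] at this
    have h0 : (a : G) ∈ core t ⊓ K := ⟨this, a.2⟩
    rw [hbot, Subgroup.mem_bot] at h0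
    exact Subtype.ext h0
  obtain ⟨e₆⟩ := alt_six_of_card (J := φ.range)
    ((Nat.card_congr (MonoidHom.ofInjective hφ).toEquiv.symm).trans hK)
  let e : K ≃* alternatingGroup (Fin 6) := (MonoidHom.ofInjective hφ).trans e₆
  have hord : ∀ j : K, ∃ k ∈ ({2, 3, 4, 5} : Finset ℕ), j ^ k = 1 := fun j => by
    obtain ⟨k, hk, he⟩ : ∃ k ∈ ({2, 3, 4, 5} : Finset ℕ), (e j) ^ k = 1 := by
      have : ∀ g : alternatingGroup (Fin 6), ∃ k ∈ ({2, 3, 4, 5} : Finset ℕ), g ^ k = 1 := by decide +kernel
      exact this _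
    exact ⟨k, hk, e.injective (by rw [map_pow, he, map_one])⟩
  -- the sum over the subgroup of order 360
  have hsumK : ∑ j : K, (χ : G → ℂ) (j : G) = 1080 := by
    rw [show (1080 : ℂ) = ((∑ g, sixVal g : ℕ) : ℂ) by rw [sum_sixVal]; norm_num, ← e.toEquiv.sum_comp sixVal,
      Nat.cast_sum]
    refine Finset.sum_congr rfl fun j _ => ?_
    obtain ⟨k, hk, hjk⟩ := hord j
    have hjk' : (j : G) ^ k = 1 := by rw [← Subgroup.coe_pow, hjk]; rfl
    have hk' : k ∈ ({1, 2, 3, 4, 5, 6, 8, 10} : Finset ℕ) := by fin_cases hk <;> simp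
    obtain ⟨v, hv', b1, b2, b3, b5, b4, -⟩ := val_char F h1 hv hk' hjk'
    rw [hv', Nat.cast_inj]
    show v = sixVal (e j)
    have hi : ∀ m, e j ^ m = 1 ↔ (j : G) ^ m = 1 := fun m => by
      rw [← map_pow, EmbeddingLike.map_eq_one_iff, ← Subgroup.coe_pow, OneMemClass.coe_eq_one]
    have hi1 : e j = 1 ↔ (j : G) = 1 := by simpa using hi 1
    unfold sixVal
    simp only [hi, hi1]
    split_ifs with c1 c2 c3
    · exact b1 c1
    · exact b2 c1 c2
    · exact b3 c1 c3
    · fin_cases hk
      · exact absurd hjk' c2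
      · exact absurd hjk' c3
      · exact b4 hjk' c2
      · exact b5 c1 hjk'
  -- the extension by the sixteen
  set H := core t ⊔ K with hH
  have hN : K ≤ Subgroup.normalizer (core t : Set G) := fun j hj => mem_norm fun a ha => norm_conj (hKN hj) ha
  have hcoe : (H : Set G) = (core t : Set G) * (K : Set G) := Subgroup.coe_mul_of_right_le_normalizer_left _ _ hN
  let f : core t × K → H := fun p =>
    ⟨(p.1 : G) * (p.2 : G), mul_mem (Subgroup.mem_sup_left p.1.2) (Subgroup.mem_sup_right p.2.2)⟩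
  have hf : Function.Bijective f := by
    constructor
    · rintro ⟨a, b⟩ ⟨a', b'⟩ h
      have h' : (a : G) * b = a' * b' := congrArg Subtype.val h
      have h0 : (a' : G)⁻¹ * a ∈ core t ⊓ K := Subgroup.mem_inf.mpr ⟨mul_mem (inv_mem a'.2) a.2, by
        rw [show (a' : G)⁻¹ * a = (b' : G) * (b : G)⁻¹ by
          rw [eq_mul_inv_iff_mul_eq, mul_assoc, h', inv_mul_cancel_left]]
        exact mul_mem b'.2 (inv_mem b.2)⟩
      rw [hbot, Subgroup.mem_bot, inv_mul_eq_one] at h0
      rw [← h0] at h'
      exact Prod.ext (Subtype.ext h0.symm) (Subtype.ext (mul_left_cancel h'))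
    · rintro ⟨g, hg⟩
      have : g ∈ (core t : Set G) * (K : Set G) := hcoe ▸ hg
      obtain ⟨a, ha, b, hb, rfl⟩ := this
      exact ⟨(⟨a, ha⟩, ⟨b, hb⟩), rfl⟩
  have hHc : Nat.card H = 5760 := by
    rw [← Nat.card_congr (Equiv.ofBijective f hf), Nat.card_prod, hK, card_core F ht]
  have key : ∀ p : core t × K, ∃ v : ℕ, (χ : G → ℂ) (f p : G) = v ∧
      ((p.2 : G) = 1 → (p.1 : G) = 1 → v = 22) ∧ ((p.2 : G) = 1 → (p.1 : G) ≠ 1 → v = 6) ∧
      ((p.2 : G) ≠ 1 → (p.2 : G) ^ 2 = 1 ∨ (p.2 : G) ^ 5 = 1 → 2 ≤ v) := by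
    rintro ⟨a, b⟩
    have hpow : ∀ k : ℕ, (b : G) ^ k = 1 → ((f (a, b) : H) : G) ^ (2 * k) = 1 := by
      intro k hk
      have hc : ∀ m : ℕ, ∃ c ∈ core t, ((a : G) * b) ^ m = c * (b : G) ^ m := by
        intro m
        induction m with
        | zero => exact ⟨1, one_mem _, by simp⟩
        | succ m ih =>
          obtain ⟨c, hc, hcm⟩ := ih
          exact ⟨c * ((b : G) ^ m * a * ((b : G) ^ m)⁻¹),
            mul_mem hc (norm_conj ((nor t).pow_mem (hKN b.2) m) a.2), by rw [pow_succ, hcm, pow_succ]; group⟩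
      obtain ⟨c, hc, hck⟩ := hc k
      show ((a : G) * b) ^ (2 * k) = 1
      rw [mul_comm, pow_mul, hck, hk, mul_one]
      rw [pow_two]; exact core_sq F ht hc
    obtain ⟨k, hk, hbk⟩ := hord b
    have hbk' : (b : G) ^ k = 1 := by rw [← Subgroup.coe_pow, hbk]; rfl
    have hk' : 2 * k ∈ ({1, 2, 3, 4, 5, 6, 8, 10} : Finset ℕ) := by fin_cases hk <;> simp
    obtain ⟨v, hv', b1, b2, -, -, -, b7⟩ := val_char F h1 hv hk' (hpow k hbk')
    refine ⟨v, hv', fun hb ha => b1 (by show (a : G) * b = 1; rw [hb, ha, one_mul]), fun hb ha => b2 ?_ ?_,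
      fun hb hcase => b7 ?_ ?_⟩
    · show (a : G) * b ≠ 1
      rwa [hb, mul_one]
    · show ((a : G) * b) ^ 2 = 1
      rw [hb, mul_one, pow_two]; exact core_sq F ht a.2
    · show (a : G) * b ≠ 1
      intro h
      have h0 : (a : G) ∈ core t ⊓ K := Subgroup.mem_inf.mpr ⟨a.2, by rw [eq_inv_of_mul_eq_one_left h]; exact inv_mem b.2⟩
      rw [hbot, Subgroup.mem_bot] at h0
      exact hb (by rwa [h0, one_mul] at h)
    · exact hcase.imp (fun h => hpow 2 h) fun h => hpow 5 h
  choose v hv0 hv1 hv2 hv3 using key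
  have hsumH : (∑ h : H, (χ : G → ℂ) (h : G)) = ((∑ p, v p : ℕ) : ℂ) := by
    rw [Nat.cast_sum, ← (Equiv.ofBijective f hf).sum_comp]
    exact Finset.sum_congr rfl fun p _ => hv0 p
  have hlow : 6160 ≤ ∑ p, v p := by
    rw [← sum_sixLow, ← e.toEquiv.sum_comp sixLow, Fintype.sum_prod_type, Finset.sum_comm]
    refine Finset.sum_le_sum fun j _ => ?_
    show sixLow (e j) ≤ _
    have hi : ∀ m, e j ^ m = 1 ↔ (j : G) ^ m = 1 := fun m => by
      rw [← map_pow, EmbeddingLike.map_eq_one_iff, ← Subgroup.coe_pow, OneMemClass.coe_eq_one]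
    have hi1 : e j = 1 ↔ (j : G) = 1 := by simpa using hi 1
    have hcard : Fintype.card (core t) = 16 := by rw [← Nat.card_eq_fintype_card, card_core F ht]
    unfold sixLow
    simp only [hi, hi1]
    split_ifs with c1 c2 c5
    · rw [← Finset.add_sum_erase _ _ (Finset.mem_univ (1 : core t)), hv1 (1, j) c1 rfl,
        Finset.sum_congr rfl fun a ha => hv2 (a, j) c1 fun h => Finset.ne_of_mem_erase ha (Subtype.ext h),
        Finset.sum_const, Finset.card_erase_of_mem (Finset.mem_univ _), Finset.card_univ, hcard]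
      norm_num
    · refine le_trans (le_of_eq ?_) (Finset.card_nsmul_le_sum _ _ 2 fun a _ => hv3 (a, j) c1 (Or.inl c2))
      rw [Finset.card_univ, hcard]; rfl
    · refine le_trans (le_of_eq ?_) (Finset.card_nsmul_le_sum _ _ 2 fun a _ => hv3 (a, j) c1 (Or.inr c5))
      rw [Finset.card_univ, hcard]; rfl
    · exact Nat.zero_le _
  have eK := sum_char_fixed (ρ.comp K.subtype)
  have eH := sum_char_fixed (ρ.comp H.subtype)
  rw [hK, show ∑ x : K, Representation.character (ρ.comp K.subtype) x = ∑ x : K, (χ : G → ℂ) (x : G) from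
    Finset.sum_congr rfl fun x _ => by rw [← hρ]; rfl, hsumK] at eK
  rw [hHc, show ∑ x : H, Representation.character (ρ.comp H.subtype) x = ∑ x : H, (χ : G → ℂ) (x : G) from
    Finset.sum_congr rfl fun x _ => by rw [← hρ]; rfl, hsumH, ← Nat.cast_mul, Nat.cast_inj] at eH
  refine ⟨?_, hHc, by omega⟩
  have : (1080 : ℕ) = 360 * Module.finrank ℂ (Representation.invariants (ρ.comp K.subtype)) := by
    exact_mod_cast eK
  omega

/-- A subgroup of index 23 containing two sixteens, with the fixed points of its cosets given by the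
character of degree 22. -/
theorem exists_index [IsSimpleGroup G] : ∃ (t t' : G) (M : Subgroup G), orderOf t = 2 ∧ orderOf t' = 2 ∧ core t ⊓ nor t' = ⊥ ∧
    core t' ⊓ nor t = ⊥ ∧ core t ≤ M ∧ core t' ≤ M ∧ M.index = 23 ∧ 5760 ∣ Nat.card ↥(nor t ⊓ M) ∧
    (∀ g : G, {q : G ⧸ M | g • q = q}.Nonempty →
      (orderOf g = 2 → {q : G ⧸ M | g • q = q}.ncard = 7) ∧ (orderOf g = 3 → {q : G ⧸ M | g • q = q}.ncard = 5) ∧
      (orderOf g = 5 → {q : G ⧸ M | g • q = q}.ncard = 3)) := by
  classical
  letI : Fintype G := Fintype.ofFinite G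
  obtain ⟨χ, h1, hv⟩ := F.exists_char
  obtain ⟨n, ρ, hirr, hρ⟩ := χ.2
  have hn : n = 22 := by
    have h : (n : ℂ) = 22 := by
      rw [← h1, ← hρ, Representation.char_one, Module.finrank_fin_fun]
    exact_mod_cast h
  obtain ⟨t, t', ht, ht', hbot, hbot', hK⟩ := exists_pair F
  set K := nor t ⊓ nor t' with hKd
  obtain ⟨d1, hH, d2⟩ := dim_fixed F ht (inf_le_left : K ≤ nor t)
    (eq_bot_iff.mpr (hbot ▸ inf_le_inf_left _ inf_le_right)) hK h1 hv hρ
  obtain ⟨-, -, d3⟩ := dim_fixed F ht' (inf_le_right : K ≤ nor t')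
    (eq_bot_iff.mpr (hbot' ▸ inf_le_inf_left _ inf_le_left)) hK h1 hv hρ
  set A := Representation.invariants (ρ.comp (core t ⊔ K).subtype)
  set B := Representation.invariants (ρ.comp (core t' ⊔ K).subtype)
  have hsub : ∀ s : G, Representation.invariants (ρ.comp (core s ⊔ K).subtype) ≤
      Representation.invariants (ρ.comp K.subtype) := fun s w hw =>
    (Representation.mem_invariants _ _).mpr fun j =>
      (Representation.mem_invariants _ _).mp hw ⟨(j : G), Subgroup.mem_sup_right j.2⟩
  have hAB : A ⊓ B ≠ ⊥ := by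
    intro h
    have h0 := Submodule.finrank_sup_add_finrank_inf_eq A B
    have h3 := Submodule.finrank_mono (sup_le (hsub t) (hsub t') : A ⊔ B ≤ _)
    rw [h, finrank_bot, d1] at *
    omega
  obtain ⟨w, hw, hw0⟩ := Submodule.exists_mem_ne_zero_of_ne_bot hAB
  let M : Subgroup G :=
    { carrier := {g | ρ g w = w}
      one_mem' := by simp
      mul_mem' := fun {a b} ha hb => by
        show ρ (a * b) w = w
        rw [map_mul, Module.End.mul_apply, show ρ b w = w from hb, show ρ a w = w from ha]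
      inv_mem' := fun {a} ha => by
        show ρ a⁻¹ w = w
        conv_lhs => rw [← show ρ a w = w from ha]
        exact Representation.inv_self_apply ρ a w }
  have hHM : core t ⊔ K ≤ M := fun g hg => (Representation.mem_invariants _ _).mp hw.1 ⟨g, hg⟩
  have hHM' : core t' ⊔ K ≤ M := fun g hg => (Representation.mem_invariants _ _).mp hw.2 ⟨g, hg⟩
  -- spans of invariant sets of vectors
  have hspan : ∀ S : Set (Fin n → ℂ), (∀ g, ∀ x ∈ S, ρ g x ∈ Submodule.span ℂ S) → w ∈ Submodule.span ℂ S →
      Submodule.span ℂ S = ⊤ := by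
    intro S hS hwS
    let U : Subrepresentation ρ := ⟨Submodule.span ℂ S, fun g x hx => by
      induction hx using Submodule.span_induction with
      | mem x hx => exact hS g x hx
      | zero => simp
      | add x y _ _ hx hy => rw [map_add]; exact add_mem hx hy
      | smul c x _ hx => rw [map_smul]; exact Submodule.smul_mem _ c hx⟩
    haveI := hirr
    rcases eq_bot_or_eq_top U with h | h
    · have h' : Submodule.span ℂ S = ⊥ := congrArg Subrepresentation.toSubmodule h
      rw [h', Submodule.mem_bot] at hwS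
      exact absurd hwS hw0
    · exact congrArg Subrepresentation.toSubmodule h
  have hMne : M ≠ ⊤ := by
    intro h
    have hs := hspan {w} (fun g x hx => by
      rw [Set.mem_singleton_iff.mp hx]
      rw [show ρ g w = w from (h ▸ Subgroup.mem_top g : g ∈ M)]
      exact Submodule.mem_span_singleton_self w) (Submodule.mem_span_singleton_self w)
    have := finrank_span_singleton (K := ℂ) hw0
    rw [hs, finrank_top, Module.finrank_fin_fun, hn] at this
    omega
  have hd : core t ⊔ K ≤ nor t ⊓ M :=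
    le_inf (sup_le (fun a ha => cen_le_nor F ht (mem_core_self F ht) (ne_one_of_order ht le_rfl)
      (mem_cen.mpr (core_comm F ht ha (mem_core_self F ht)))) inf_le_left) hHM
  have hd' : 5760 ∣ Nat.card ↥(nor t ⊓ M) := hH ▸ Subgroup.card_dvd_of_le hd
  have hbig : 92160 ≤ Nat.card M := by
    have hinj : Function.Injective fun a : core t' =>
        ((⟨(a : G), hHM' (Subgroup.mem_sup_left a.2)⟩ : M) : M ⧸ (nor t ⊓ M).subgroupOf M) := by
      intro a b hab
      have h := QuotientGroup.eq.mp hab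
      rw [Subgroup.mem_subgroupOf] at h
      have h0 : (a : G)⁻¹ * b ∈ core t' ⊓ nor t := Subgroup.mem_inf.mpr ⟨mul_mem (inv_mem a.2) b.2, h.1⟩
      rw [hbot', Subgroup.mem_bot, inv_mul_eq_one] at h0
      exact Subtype.ext h0
    have h16 := Nat.card_le_card_of_injective _ hinj
    rw [card_core F ht'] at h16
    have := ((nor t ⊓ M).subgroupOf M).index_mul_card
    rw [Nat.card_congr (Subgroup.subgroupOfEquivOfLe inf_le_right).toEquiv] at this
    rw [← this]
    exact le_trans (by norm_num) (Nat.mul_le_mul h16 (Nat.le_of_dvd Nat.card_pos hd'))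
  have h23 : M.index = 23 := by
    obtain ⟨x, hx⟩ := hd'.trans (Subgroup.card_dvd_of_le (inf_le_right : nor t ⊓ M ≤ M))
    have hm := M.index_mul_card
    rw [F.card, hx] at hm
    have hprod : M.index * x = 1771 := by
      rw [show M.index * (5760 * x) = 5760 * (M.index * x) by ring] at hm
      omega
    have hle : M.index ≤ 110 := by
      by_contra h
      have := Nat.mul_le_mul (show 111 ≤ M.index by omega) hbig
      have hm' := M.index_mul_card
      rw [F.card] at hm'
      omega
    have hdd : M.index ∣ 1771 := ⟨x, hprod.symm⟩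
    have hmem : M.index ∈ Nat.divisors 1771 := Nat.mem_divisors.mpr ⟨hdd, by norm_num⟩
    rw [show Nat.divisors 1771 = {1, 7, 11, 23, 77, 161, 253, 1771} by decide +kernel] at hmem
    simp only [Finset.mem_insert, Finset.mem_singleton] at hmem
    have hsmall : M.index ≠ 7 ∧ M.index ≠ 11 := by
      have hinj : Function.Injective (MulAction.toPermHom G (G ⧸ M)) := by
        rw [← MonoidHom.ker_eq_bot_iff]
        refine (IsSimpleGroup.eq_bot_or_eq_top_of_normal _ (MonoidHom.normal_ker _)).resolve_right fun h => hMne ?_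
        refine eq_top_iff.mpr fun a _ => ?_
        have ha : a ∈ (MulAction.toPermHom G (G ⧸ M)).ker := h ▸ Subgroup.mem_top a
        have := Equiv.ext_iff.mp (MonoidHom.mem_ker.mp ha) ((1 : G) : G ⧸ M)
        simpa using (smul_mk_eq a 1).mp this
      have h := Subgroup.card_dvd_of_injective _ hinj
      rw [F.card, Nat.card_perm, show Nat.card (G ⧸ M) = M.index from rfl] at h
      constructor <;> intro he <;> rw [he] at h <;> norm_num [Nat.factorial] at h
    have h1' : M.index ≠ 1 := fun h => hMne (Subgroup.index_eq_one.mp h)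
    have h77 : M.index ≠ 77 := by
      intro h
      have hMc : Nat.card M = 132480 := by
        have := M.index_mul_card
        rw [h, F.card] at this
        omega
      obtain ⟨y, hyM, hy⟩ := exists_order F (by norm_num : Nat.Prime 23) (K := M) (by rw [hMc]; norm_num)
      obtain ⟨d, m, hd, hm23, e1, e2⟩ := card_norm_prime (by norm_num) hy hyM (by rw [hMc]; norm_num)
      have hc : Nat.card ↥(M ⊓ cen y) = 23 := by
        have h23d : 23 ∣ Nat.card ↥(M ⊓ cen y) := hy ▸ Subgroup.orderOf_dvd_natCard _ ⟨hyM, mem_cen.mpr rfl⟩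
        have hdM := Subgroup.card_dvd_of_le (inf_le_left : M ⊓ cen y ≤ M)
        rw [hMc] at hdM
        obtain ⟨c, hc⟩ := h23d
        rw [hc] at hdM
        have hc5 : c ∣ 5760 := (Nat.mul_dvd_mul_iff_left (by norm_num : 0 < 23)).mp hdM
        rcases eq_or_ne c 1 with rfl | hc1
        · exact hc
        exfalso
        obtain ⟨p, hp, hpc⟩ := Nat.exists_prime_and_dvd hc1
        obtain ⟨x, hxc, hxp⟩ := exists_order F hp (K := M ⊓ cen y) (by rw [hc]; exact hpc.mul_left 23)
        have hyx : 23 ∣ Nat.card (cen x) :=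
          hy ▸ Subgroup.orderOf_dvd_natCard _ (mem_cen.mpr (mem_cen.mp hxc.2).symm)
        have hp' : p = 2 ∨ p = 3 ∨ p = 5 := by
          have h1 : p ∣ 2 ^ 7 * (3 ^ 2 * 5) := hpc.trans hc5
          rcases (Nat.Prime.dvd_mul hp).mp h1 with h | h
          · exact Or.inl ((Nat.prime_dvd_prime_iff_eq hp Nat.prime_two).mp (hp.dvd_of_dvd_pow h))
          · rcases (Nat.Prime.dvd_mul hp).mp h with h | h
            · exact Or.inr (Or.inl ((Nat.prime_dvd_prime_iff_eq hp Nat.prime_three).mp (hp.dvd_of_dvd_pow h)))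
            · exact Or.inr (Or.inr ((Nat.prime_dvd_prime_iff_eq hp (by norm_num)).mp h))
        rcases hp' with rfl | rfl | rfl
        · rw [show Nat.card (cen x) = 2688 from F.card_invol x hxp] at hyx; norm_num at hyx
        · rw [show Nat.card (cen x) = 180 from F.card_three x hxp] at hyx; norm_num at hyx
        · rw [show Nat.card (cen x) = 15 from F.card_five x hxp] at hyx; norm_num at hyx
      rw [hc] at e1
      rw [hMc, e1] at e2
      have hd2 := Nat.le_of_dvd (by norm_num) hd
      interval_cases d <;> omega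
    omega
  refine ⟨t, t', M, ht, ht', hbot, hbot', le_sup_left.trans hHM, le_sup_left.trans hHM', h23, hd', fun g hg => ?_⟩
  -- the cosets give a spanning set of 23 vectors with sum zero
  letI : Fintype (G ⧸ M) := Fintype.ofFinite _
  have hX : Fintype.card (G ⧸ M) = 23 := by rw [← Nat.card_eq_fintype_card]; exact h23
  let W : G ⧸ M → (Fin n → ℂ) := fun q => Quotient.liftOn' q (fun a => ρ a w) fun a b hab => by
    have h : ρ (a⁻¹ * b) w = w := QuotientGroup.leftRel_apply.mp hab
    show ρ a w = ρ b w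
    rw [show b = a * (a⁻¹ * b) by group, map_mul ρ a, Module.End.mul_apply, h]
  have hW : ∀ (a : G) (q : G ⧸ M), ρ a (W q) = W (a • q) := by
    intro a q
    obtain ⟨b, rfl⟩ := QuotientGroup.mk_surjective q
    show ρ a (ρ b w) = ρ (a * b) w
    rw [map_mul, Module.End.mul_apply]
  have htop : Submodule.span ℂ (Set.range W) = ⊤ := by
    refine hspan _ ?_ (Submodule.subset_span ⟨((1 : G) : G ⧸ M), by show ρ 1 w = w; simp⟩)
    rintro a _ ⟨q, rfl⟩
    rw [hW]
    exact Submodule.subset_span ⟨_, rfl⟩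
  have hzero : ∑ q, W q = 0 := by
    by_contra hne
    have hinv : ∀ a, ρ a (∑ q, W q) = ∑ q, W q := fun a => by
      rw [map_sum]
      simp only [hW]
      exact Equiv.sum_comp (MulAction.toPerm a) W
    let U : Subrepresentation ρ := ⟨Submodule.span ℂ {∑ q, W q}, fun a x hx => by
      obtain ⟨c, rfl⟩ := Submodule.mem_span_singleton.mp hx
      rw [map_smul, hinv]; exact hx⟩
    haveI := hirr
    rcases eq_bot_or_eq_top U with h | h
    · have h' : Submodule.span ℂ {∑ q, W q} = ⊥ := congrArg Subrepresentation.toSubmodule h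
      exact hne (Submodule.span_singleton_eq_bot.mp h')
    · have h' : Submodule.span ℂ {∑ q, W q} = ⊤ := congrArg Subrepresentation.toSubmodule h
      have := finrank_span_singleton (K := ℂ) hne
      rw [h', finrank_top, Module.finrank_fin_fun, hn] at this
      omega
  obtain ⟨q₀, hq₀⟩ := hg
  let b : {q : G ⧸ M // q ≠ q₀} → (Fin n → ℂ) := fun q => W q
  have hbtop : ⊤ ≤ Submodule.span ℂ (Set.range b) := by
    rw [← htop, Submodule.span_le]
    rintro _ ⟨q, rfl⟩
    by_cases hq : q = q₀
    · subst hq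
      have : W q = - ∑ r ∈ Finset.univ.erase q, W r := by
        rw [eq_neg_iff_add_eq_zero, Finset.add_sum_erase _ _ (Finset.mem_univ q), hzero]
      rw [this]
      exact neg_mem (Submodule.sum_mem _ fun r hr => Submodule.subset_span ⟨⟨r, Finset.ne_of_mem_erase hr⟩, rfl⟩)
    · exact Submodule.subset_span ⟨⟨q, hq⟩, rfl⟩
  have hbc : Fintype.card {q : G ⧸ M // q ≠ q₀} = Module.finrank ℂ (Fin n → ℂ) := by
    rw [Module.finrank_fin_fun, hn, Fintype.card_subtype_compl, Fintype.card_subtype_eq, hX]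
  let bas := basisOfTopLeSpanOfCardEqFinrank b hbtop hbc
  have hbas : ∀ q, bas q = W q := fun q => by
    show (basisOfTopLeSpanOfCardEqFinrank b hbtop hbc) q = b q
    rw [coe_basisOfTopLeSpanOfCardEqFinrank]
  have hchar : (χ : G → ℂ) g = (({q : G ⧸ M | g • q = q}.ncard - 1 : ℕ) : ℂ) := by
    rw [← hρ]
    show LinearMap.trace ℂ (Fin n → ℂ) (ρ g) = _
    rw [LinearMap.trace_eq_matrix_trace ℂ bas]
    have hdiag : ∀ q : {q : G ⧸ M // q ≠ q₀},
        Matrix.diag (LinearMap.toMatrix bas bas (ρ g)) q = if g • (q : G ⧸ M) = q then 1 else 0 := by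
      intro q
      have hne : g • (q : G ⧸ M) ≠ q₀ := fun h => q.2 (smul_left_cancel g (h.trans hq₀.symm))
      rw [Matrix.diag_apply, LinearMap.toMatrix_apply, hbas, hW, ← hbas ⟨_, hne⟩, Module.Basis.repr_self,
        Finsupp.single_apply]
      simp only [Subtype.ext_iff]
    simp only [Matrix.trace]
    rw [Finset.sum_congr rfl fun q _ => hdiag q, Finset.sum_boole]
    congr 1
    have he : {q : G ⧸ M | g • q = q} =
        insert q₀ (Subtype.val '' {q : {q : G ⧸ M // q ≠ q₀} | g • (q : G ⧸ M) = q}) := by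
      ext q
      by_cases hq : q = q₀
      · subst hq; simp [show g • q = q from hq₀]
      · simp [hq]
    rw [he, Set.ncard_insert_of_notMem (by simp) (Set.toFinite _), Nat.add_sub_cancel,
      Set.ncard_image_of_injective _ Subtype.val_injective, Set.ncard_eq_toFinset_card']
    congr 1
    ext; simp
  have hpos : 1 ≤ {q : G ⧸ M | g • q = q}.ncard := (Set.ncard_pos (Set.toFinite _)).mpr ⟨q₀, hq₀⟩
  obtain ⟨a2, a3, -, a5, -, -⟩ := hv g
  refine ⟨fun h => ?_, fun h => ?_, fun h => ?_⟩
  · have := hchar.symm.trans (a2 h)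
    have : {q : G ⧸ M | g • q = q}.ncard - 1 = 6 := by exact_mod_cast this
    omega
  · have := hchar.symm.trans (a3 h)
    have : {q : G ⧸ M | g • q = q}.ncard - 1 = 4 := by exact_mod_cast this
    omega
  · have := hchar.symm.trans (a5 h)
    have : {q : G ⧸ M | g • q = q}.ncard - 1 = 2 := by exact_mod_cast this
    omega

end CfsgLib.M23Order
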